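import Groth.Agent.Lib.Bootst16.BGSmooth
import Groth.Agent.Lib.Quot16.Algebraic

/-!
# The classifying stack of an affine flat group scheme locally of finite presentation
-/

universe u

open CategoryTheory CategoryTheory.Functor CategoryTheory.Limits AlgebraicGeometry Opposite MonoidalCategory

set_option linter.style.haveILetI false
set_option backward.isDefEq.respectTransparency false
set_option backward.isDefEq.respectTransparency.types false

namespace Groth.Agent.Bootst16

open Groth.Agent.FC16 Groth.Agent.StAlg Groth.Agent.StAlg16 AlgSt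

variable {S : Scheme.{u}} (G : Over S) [GrpObj G] [IsAffineHom G.hom] [Flat G.hom]
  [LocallyOfFinitePresentation G.hom]

/-- quotient stacks by affine flat groups locally of finite presentation are algebraic -/
theorem isAlgStack_quotSt_fppf {X : Over S} (aX : AlgGrp.Action G X) :
    IsAlgStack Scheme.fppfPrecoverage (AlgSt.QuotSt Scheme.fppfPrecoverage G aX) :=
  isAlgStack_of_fppf_cover (Quot16.isStack_quotSt Scheme.fppfPrecoverage_le_fpqcPrecoverage)
    (Quot16.chartMap Scheme.fppfPrecoverage aX) Quot16.repWith_chartMap_flat Quot16.repWith_chartMap_lfp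
    Quot16.repWith_chartMap_surjective

theorem locQ_smooth_BG :
    AlgSt.LocQ (AlgSp.LocP @Smooth) (FibCat.toSelf (AlgSt.BG Scheme.fppfPrecoverage G)) := by
  have hA := isAlgStack_quotSt_fppf G (AlgSt.trivAction G)
  obtain ⟨U, x, hx, hxs⟩ := hA.atlas
  let aX := AlgSt.trivAction G
  haveI : Smooth U.hom := smooth_atlas hA.isStack.1 x hx (Quot16.chartMap Scheme.fppfPrecoverage aX)
    Quot16.repWith_chartMap_flat Quot16.repWith_chartMap_lfp Quot16.repWith_chartMap_surjective
  let k : U ⟶ selfPt S := Over.homMk U.hom (Category.comp_id _)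
  refine ⟨U, selfPt S, x, baseSelf S, k, isoToSelf _ _, hx, hxs, ?_, (StAlg16.locP_yon_iff k).2 (inferInstanceAs (Smooth U.hom))⟩
  haveI : Smooth (𝟙 (selfPt S) : selfPt S ⟶ selfPt S).left := inferInstanceAs (Smooth (𝟙 S))
  exact (with_congr (f := baseSelf S) (f' := AlgSt.overMap (𝟙 (selfPt S))) (a := BasedFunctor.id _) (b := baseSelf S)
    isEquivOver_id (baseSelf_isEquivOver S) (isoToSelf _ _)).2 (with_locP_overMap (P := @Smooth) (𝟙 (selfPt S)) ‹_›)

end Groth.Agent.Bootst16
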