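import Groth.Agent.Lib.AlgSpace.Glue
import Groth.Agent.Lib.AlgSpDescent.LocSurj

/-!
# Isomorphisms of sheaves are detected on affine schemes
-/

universe u

open CategoryTheory CategoryTheory.Limits AlgebraicGeometry Opposite

set_option linter.style.haveILetI false
set_option backward.isDefEq.respectTransparency.types false

namespace Groth.Agent.Bootst16

open AlgSp Groth.Agent.AlgSpace Groth.Agent.AlgSpDecent

variable {S : Scheme.{u}}

/-- an open affine piece of a scheme over the base -/
noncomputable abbrev affPiece (T : Over S) (k : T.left.affineCover.I₀) : Over S :=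
  Over.mk (T.left.affineCover.f k ≫ T.hom)

/-- its inclusion -/
noncomputable abbrev affPieceι (T : Over S) (k : T.left.affineCover.I₀) : affPiece T k ⟶ T :=
  Over.homMk (T.left.affineCover.f k) rfl

theorem affPieceι_cover (T : Over S) : (∀ k, IsOpenImmersion (affPieceι T k).left) ∧
    ∀ t : ↥T.left, ∃ k v, (affPieceι T k).left v = t :=
  ⟨fun k => inferInstanceAs (IsOpenImmersion (T.left.affineCover.f k)), fun t => T.left.affineCover.exists_eq t⟩

theorem affPiece_affine (T : Over S) (k : T.left.affineCover.I₀) : IsAffine (affPiece T k).left :=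
  inferInstanceAs (IsAffine (T.left.affineCover.X k))

/-- a map of sheaves bijective on maps from affine schemes is an isomorphism -/
theorem isIso_of_bijective_affine {F G : Sp S} (f : F ⟶ G)
    (h : ∀ (T : Over S), IsAffine T.left → ∀ t : (yon S).obj T ⟶ G, ∃! s : (yon S).obj T ⟶ F, s ≫ f = t) :
    IsIso f := by
  have uniq : ∀ (T : Over S) (s s' : (yon S).obj T ⟶ F), s ≫ f = s' ≫ f → s = s' := fun T s s' e =>
    hom_ext_glue (fun k => affPieceι T k) (affPieceι_cover T).1 (affPieceι_cover T).2 fun k =>
      (h _ (affPiece_affine T k) _).unique rfl (by rw [Category.assoc, Category.assoc, e])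
  refine AlgSpDescent.isIso_of_bijective_maps f fun T t => ?_
  choose l hl _ using fun k => h _ (affPiece_affine T k) ((yon S).map (affPieceι T k) ≫ t)
  obtain ⟨s, hs, -⟩ := existsUnique_glue (fun k => affPieceι T k) (affPieceι_cover T).1 (affPieceι_cover T).2 l
    fun i j W a b e => uniq W _ _ (by
      rw [Category.assoc, Category.assoc, hl, hl, ← Functor.map_comp_assoc, ← Functor.map_comp_assoc, e])
  have hst : s ≫ f = t := hom_ext_glue (fun k => affPieceι T k) (affPieceι_cover T).1 (affPieceι_cover T).2 fun k => by
    rw [← Category.assoc, hs, hl]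
  exact ⟨s, hst, fun s' e => uniq T s' s (e.trans hst.symm)⟩

end Groth.Agent.Bootst16
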