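import Groth.Agent.Lib.HilbRep25.Ring
import Mathlib.RingTheory.FinitePresentation
import Mathlib.RingTheory.FiniteType
import Mathlib.RingTheory.Polynomial.Basic
import Mathlib.RingTheory.TensorProduct.Free
import Mathlib.LinearAlgebra.TensorProduct.Basis

/-!
# The universal algebra with a basis of `d` elements
-/

universe u

open TensorProduct Groth.Agent.HilbRep25

set_option linter.style.haveILetI false
set_option backward.isDefEq.respectTransparency.types false

namespace Groth.Agent.Bootst16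

/-- the ground ring -/
def Z₀ : Type u := ULift.{u} ℤ

instance : CommRing Z₀.{u} := inferInstanceAs (CommRing (ULift.{u} ℤ))

instance : IsNoetherianRing Z₀.{u} := isNoetherianRing_of_ringEquiv ℤ (ULift.ringEquiv : ULift.{u} ℤ ≃+* ℤ).symm

/-- the variables -/
noncomputable abbrev fvar (d : ℕ) : Fin d → MvPolynomial (Fin d) Z₀.{u} := MvPolynomial.X

/-- the parameter ring of algebras with a basis of `d` elements -/
abbrev FamBase (d : ℕ) : Type u := Univ Z₀.{u} (fvar.{u} d)

/-- the universal algebra -/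
abbrev FamAlg (d : ℕ) : Type u :=
  (FamBase.{u} d ⊗[Z₀.{u}] MvPolynomial (Fin d) Z₀.{u}) ⧸ coordIdeal (fvar.{u} d) (univCoord Z₀.{u} (fvar.{u} d))

/-- the universal basis -/
noncomputable def famBasis (d : ℕ) : Module.Basis (Fin d) (FamBase.{u} d) (FamAlg.{u} d) :=
  coordBasis (isCoord_univ _ _)

instance (d : ℕ) : Module.Free (FamBase.{u} d) (FamAlg.{u} d) := Module.Free.of_basis (famBasis d)

instance (d : ℕ) : Module.Finite (FamBase.{u} d) (FamAlg.{u} d) := Module.Finite.of_basis (famBasis d)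

theorem famBase_finiteType (d : ℕ) : Algebra.FiniteType Z₀.{u} (FamBase.{u} d) := by
  classical
  let G : Set (FamBase.{u} d) := (Set.range fun t : Fin d => univCoord Z₀.{u} (fvar d) 1 t) ∪
    Set.range fun t : Fin d × Fin d × Fin d => univCoord Z₀.{u} (fvar d) (fvar d t.1 * fvar d t.2.1) t.2.2
  let T := Algebra.adjoin Z₀.{u} G
  have h := isCoord_univ Z₀.{u} (fvar.{u} d)
  have hX : ∀ (c : MvPolynomial (Fin d) Z₀.{u}) i, univCoord Z₀.{u} (fvar d) c i ∈ T := by
    intro c
    induction c using MvPolynomial.induction_on with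
    | C a =>
      intro i
      rw [show MvPolynomial.C a = a • (1 : MvPolynomial (Fin d) Z₀.{u}) by rw [Algebra.smul_def, mul_one]; rfl, h.smul]
      exact mul_mem (Subalgebra.algebraMap_mem T a) (Algebra.subset_adjoin (Or.inl ⟨i, rfl⟩))
    | add p q hp hq =>
      intro i
      rw [h.add]
      exact add_mem (hp i) (hq i)
    | mul_X p j hp =>
      intro i
      rw [h.mul]
      exact Subalgebra.sum_mem _ fun k _ => mul_mem (hp k) (Algebra.subset_adjoin (Or.inr ⟨(k, j, i), rfl⟩))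
  have hG : G.Finite := (Set.finite_range _).union (Set.finite_range _)
  refine ⟨⟨hG.toFinset, ?_⟩⟩
  rw [Set.Finite.coe_toFinset, eq_top_iff]
  rintro z -
  obtain ⟨p, rfl⟩ := Ideal.Quotient.mk_surjective z
  induction p using MvPolynomial.induction_on with
  | C a => exact Subalgebra.algebraMap_mem T a
  | add p q hp hq => rw [map_add]; exact add_mem hp hq
  | mul_X p t hp => rw [map_mul]; exact mul_mem hp (hX t.1 t.2)

theorem famBase_fp (d : ℕ) : Algebra.FinitePresentation Z₀.{u} (FamBase.{u} d) :=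
  Algebra.FinitePresentation.of_finiteType.1 (famBase_finiteType d)

instance (R : Type u) [CommRing R] : Subsingleton (Z₀.{u} →+* R) :=
  ⟨fun f g => RingHom.ext fun z => by
    have h : f.comp (ULift.ringEquiv : ULift.{u} ℤ ≃+* ℤ).symm.toRingHom =
        g.comp (ULift.ringEquiv : ULift.{u} ℤ ≃+* ℤ).symm.toRingHom := Subsingleton.elim _ _
    obtain ⟨n⟩ := z
    exact congrArg (fun φ : ℤ →+* R => φ n) h⟩

/-- the variables in the universal algebra -/
noncomputable def famVar (d : ℕ) : MvPolynomial (Fin d) Z₀.{u} →+* FamAlg.{u} d :=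
  (Ideal.Quotient.mk _).comp
    (Algebra.TensorProduct.includeRight : MvPolynomial (Fin d) Z₀.{u} →ₐ[Z₀.{u}] FamBase.{u} d ⊗[Z₀.{u}] _).toRingHom

theorem famBasis_eq (d : ℕ) (i : Fin d) : famBasis.{u} d i = famVar d (fvar d i) :=
  coordBasis_apply _ i

theorem map_smul_of_comp {P M R Q : Type u} [CommRing P] [CommRing M] [Algebra P M] [CommRing R] [CommRing Q] [Algebra R Q]
    {c : P →+* R} {Ψ : M →+* Q} (h : ∀ r, Ψ (algebraMap P M r) = algebraMap R Q (c r)) (r : P) (x : M) :
    Ψ (r • x) = c r • Ψ x := by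
  rw [Algebra.smul_def, map_mul, h, Algebra.smul_def]

/-- maps out of the universal algebra are determined by the images of the basis -/
theorem famHom_ext {d : ℕ} {R Q : Type u} [CommRing R] [CommRing Q] [Algebra R Q] (b : Module.Basis (Fin d) R Q)
    {c c' : FamBase.{u} d →+* R} {Ψ Ψ' : FamAlg.{u} d →+* Q}
    (h : ∀ r, Ψ (algebraMap _ _ r) = algebraMap R Q (c r)) (h' : ∀ r, Ψ' (algebraMap _ _ r) = algebraMap R Q (c' r))
    (hb : ∀ i, Ψ (famBasis d i) = b i) (hb' : ∀ i, Ψ' (famBasis d i) = b i) : c = c' ∧ Ψ = Ψ' := by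
  have hv : Ψ.comp (famVar d) = Ψ'.comp (famVar d) :=
    MvPolynomial.ringHom_ext (fun z => congrArg (fun f : Z₀.{u} →+* Q => f z)
      (Subsingleton.elim ((Ψ.comp (famVar d)).comp MvPolynomial.C) ((Ψ'.comp (famVar d)).comp MvPolynomial.C)))
      fun i => by
        show Ψ (famVar d (fvar d i)) = Ψ' (famVar d (fvar d i))
        rw [← famBasis_eq, hb, hb']
  have key : ∀ (c : FamBase.{u} d →+* R) (Ψ : FamAlg.{u} d →+* Q),
      (∀ r, Ψ (algebraMap _ _ r) = algebraMap R Q (c r)) → (∀ i, Ψ (famBasis d i) = b i) →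
      ∀ p i, c (univCoord Z₀.{u} (fvar d) p i) = b.repr (Ψ (famVar d p)) i := by
    intro c Ψ h hb p i
    have e : famVar d p = ∑ j, univCoord Z₀.{u} (fvar d) p j • famBasis d j := by
      simp only [famBasis_eq]
      exact mk_one_tmul p
    rw [e, map_sum]
    simp only [map_smul_of_comp h, hb, b.repr_sum_self]
  have hc : c = c' := Ideal.Quotient.ringHom_ext (MvPolynomial.ringHom_ext
    (fun z => congrArg (fun f : Z₀.{u} →+* R => f z) (Subsingleton.elim ((c.comp (Ideal.Quotient.mk _)).comp MvPolynomial.C)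
      ((c'.comp (Ideal.Quotient.mk _)).comp MvPolynomial.C)))
    fun t => by
      show c (univCoord _ _ t.1 t.2) = c' (univCoord _ _ t.1 t.2)
      rw [key c Ψ h hb, key c' Ψ' h' hb', ← RingHom.comp_apply, hv, RingHom.comp_apply])
  refine ⟨hc, RingHom.ext fun z => ?_⟩
  rw [← (famBasis d).sum_repr z, map_sum, map_sum]
  exact Finset.sum_congr rfl fun j _ => by rw [map_smul_of_comp h, map_smul_of_comp h', hb, hb', hc]

/-- every algebra with a basis of `d` elements is a base change of the universal one -/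
theorem exists_classify (d : ℕ) (R Q : Type u) [CommRing R] [CommRing Q] [Algebra R Q]
    (b : Module.Basis (Fin d) R Q) :
    ∃ c : FamBase.{u} d →+* R, letI := c.toAlgebra; ∃ e : R ⊗[FamBase.{u} d] FamAlg.{u} d ≃ₐ[R] Q,
      ∀ i, e (1 ⊗ₜ famBasis d i) = b i := by
  classical
  letI iR : Algebra Z₀.{u} R := ((Int.castRingHom R).comp (ULift.ringEquiv : ULift.{u} ℤ ≃+* ℤ).toRingHom : Z₀.{u} →+* R).toAlgebra
  letI iQ : Algebra Z₀.{u} Q := ((algebraMap R Q).comp (algebraMap Z₀.{u} R)).toAlgebra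
  haveI : IsScalarTower Z₀.{u} R Q := IsScalarTower.of_algebraMap_eq fun _ => rfl
  let γ : MvPolynomial (Fin d) Z₀.{u} →ₐ[Z₀.{u}] Q := MvPolynomial.aeval b
  have hb : ∀ i, b i = γ (fvar d i) := fun i => (MvPolynomial.aeval_X _ _).symm
  obtain ⟨φ, hφ, -⟩ := existsUnique_lift (isCoord_repr γ b hb)
  refine ⟨φ.toRingHom, ?_⟩
  letI : Algebra (FamBase.{u} d) R := φ.toRingHom.toAlgebra
  letI : Algebra (FamBase.{u} d) Q := ((algebraMap R Q).comp φ.toRingHom).toAlgebra
  haveI : IsScalarTower (FamBase.{u} d) R Q := IsScalarTower.of_algebraMap_eq fun _ => rfl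
  haveI : IsScalarTower Z₀.{u} (FamBase.{u} d) Q := ⟨fun z x y => by
    rw [Algebra.smul_def z x, Algebra.smul_def z (x • y), Algebra.smul_def, Algebra.smul_def x y, map_mul]
    show algebraMap R Q (φ (algebraMap _ _ z)) * _ * _ = _
    rw [φ.commutes, mul_assoc]
    rfl⟩
  let Ψ₀ : FamBase.{u} d ⊗[Z₀.{u}] MvPolynomial (Fin d) Z₀.{u} →ₐ[FamBase.{u} d] Q :=
    Algebra.TensorProduct.lift (Algebra.ofId (FamBase.{u} d) Q) γ fun _ _ => .all _ _
  have hle : ∀ z ∈ coordIdeal (fvar.{u} d) (univCoord Z₀.{u} (fvar.{u} d)), Ψ₀ z = 0 := by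
    intro z hz
    refine RingHom.mem_ker.1 ((Ideal.span_le (I := RingHom.ker Ψ₀)).2 ?_ hz)
    rintro _ ⟨c, rfl⟩
    rw [SetLike.mem_coe, RingHom.mem_ker, map_sub, map_sum, sub_eq_zero]
    simp only [Ψ₀, Algebra.TensorProduct.lift_tmul, map_one, one_mul, Algebra.ofId_apply]
    conv_lhs => rw [← b.sum_repr (γ c)]
    refine Finset.sum_congr rfl fun i _ => ?_
    rw [Algebra.smul_def, hb]
    show _ = algebraMap R Q (φ (univCoord _ _ c i)) * _
    rw [hφ]
  let Ψ : FamAlg.{u} d →ₐ[FamBase.{u} d] Q := Ideal.Quotient.liftₐ _ Ψ₀ hle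
  let e : R ⊗[FamBase.{u} d] FamAlg.{u} d →ₐ[R] Q :=
    Algebra.TensorProduct.lift (Algebra.ofId R Q) Ψ fun _ _ => .all _ _
  let b' : Module.Basis (Fin d) R (R ⊗[FamBase.{u} d] FamAlg.{u} d) := Algebra.TensorProduct.basis R (famBasis d)
  have he : e.toLinearMap = (b'.equiv b (Equiv.refl _)).toLinearMap := b'.ext fun i => by
    rw [AlgHom.toLinearMap_apply, LinearEquiv.coe_coe, Module.Basis.equiv_apply, Equiv.refl_apply,
      show b' i = (1 : R) ⊗ₜ famBasis d i from Algebra.TensorProduct.basis_apply _ _]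
    simp only [e, Algebra.TensorProduct.lift_tmul, map_one, one_mul]
    rw [show famBasis.{u} d i = _ from coordBasis_apply _ i]
    rw [show Ψ (Ideal.Quotient.mk _ ((1 : FamBase.{u} d) ⊗ₜ[Z₀.{u}] fvar.{u} d i)) = Ψ₀ ((1 : FamBase.{u} d) ⊗ₜ[Z₀.{u}] fvar.{u} d i)
      from Ideal.Quotient.lift_mk _ _ _]
    simp [Ψ₀, hb]
  refine ⟨AlgEquiv.ofBijective e (by
    rw [← AlgHom.coe_toLinearMap, he]
    exact (b'.equiv b (Equiv.refl _)).bijective), fun i => ?_⟩
  have h1 := congrArg (fun f => f (b' i)) he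
  rw [show ((b'.equiv b (Equiv.refl _)).toLinearMap) (b' i) = b i from b'.equiv_apply i b (Equiv.refl _)] at h1
  rw [show b' i = (1 : R) ⊗ₜ famBasis d i from Algebra.TensorProduct.basis_apply _ _] at h1
  exact h1

end Groth.Agent.Bootst16
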