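import Groth.Agent.Lib.Bootst16.SpQuotAlg
import Groth.Agent.S0115

/-!
# The classifying stack of a flat group space locally of finite presentation is smooth
-/

universe v w u

open CategoryTheory CategoryTheory.Functor CategoryTheory.Limits AlgebraicGeometry Opposite MonoidalCategory

set_option linter.style.haveILetI false
set_option linter.unusedSectionVars false
set_option backward.isDefEq.respectTransparency false
set_option backward.isDefEq.respectTransparency.types false

namespace Groth.Agent.Bootst16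

open Groth.Agent.FC16 Groth.Agent.StAlg Groth.Agent.StAlg16 AlgSt

variable {S : Scheme.{u}}

theorem surjective_of_with_overMap {U V : Over S} (k : U ⟶ V)
    (hk : AlgSt.RepByAlgSpWith AlgSp.IsSurjectiveMor (AlgSt.overMap k)) : Surjective k.left := by
  have h1 := repBySpWith_of_with goodP_surjective.preIso ((with_congr (f := AlgSt.overMap k) (a := AlgSt.toOverCat U)
    (b := AlgSt.toOverCat V) (toOverCat_isEquivOver U) (toOverCat_isEquivOver V) (overMapIso k)).1 hk)
  have h2 : AlgSp.IsSurjectiveMor ((AlgSp.yon S).map k) :=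
    (h1 (𝟙 _) (𝟙 _) ((AlgSp.yon S).map k).hom (IsPullback.of_horiz_isIso ⟨by simp⟩)).2.2
  refine ⟨fun v => ?_⟩
  obtain ⟨p, hp⟩ := h2 (AlgSp.Points.schemeHomeo V v)
  obtain ⟨x, rfl⟩ := (AlgSp.Points.schemeHomeo U).surjective p
  rw [AlgSp.Points.map_yon_map_apply] at hp
  exact ⟨x, (AlgSp.Points.schemeHomeo V).injective hp⟩

/-- the base over itself -/
abbrev selfPt (S : Scheme.{u}) : Over S := Over.mk (𝟙 S)

/-- the identification of the category of the base with the base category -/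
def baseSelf (S : Scheme.{u}) : FibCat.overCat (selfPt S) ⥤ᵇ FibCat.selfOver (Over S) where
  toFunctor := Over.forget (selfPt S)
  w := Functor.comp_id _

theorem baseSelf_isEquivOver (S : Scheme.{u}) : FibCat.IsEquivOver (baseSelf S) := by
  haveI : (baseSelf S).toFunctor.Faithful := inferInstanceAs (Over.forget (selfPt S)).Faithful
  haveI : (baseSelf S).toFunctor.Full := ⟨fun {a b} m => ⟨Over.homMk m (Over.OverMorphism.ext (by
    show m.left ≫ b.hom.left = a.hom.left
    have ha : a.hom.left = a.left.hom := (Category.comp_id _).symm.trans (Over.w a.hom)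
    have hb : b.hom.left = b.left.hom := (Category.comp_id _).symm.trans (Over.w b.hom)
    rw [ha, hb]
    exact Over.w m)), rfl⟩⟩
  refine isEquivOver_of _ fun X => ⟨Over.mk (Over.homMk X.hom (by simp) : X ⟶ selfPt S), Iso.refl _, ?_⟩
  exact IsHomLift.map (FibCat.selfOver (Over S)).p (𝟙 X)

/-- functors to the base over itself are isomorphic -/
noncomputable def isoToSelf {𝒳 : BasedCategory.{v, w} (Over S)} (F F' : 𝒳 ⥤ᵇ FibCat.selfOver (Over S)) : F ≅ F' :=
  BasedNatIso.mkNatIso
    (eqToIso (((Functor.comp_id _).symm.trans F.w).trans ((Functor.comp_id _).symm.trans F'.w).symm))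
    (fun a => by
      rw [eqToIso.hom, eqToHom_app]
      exact IsHomLift.eqToHom_domain_lift_id _ (F.w_obj a))

theorem smooth_atlas {𝒴 : AlgSt.Cat S} (h𝒴 : FibCat.IsFibGrpd 𝒴.p) {U : Over S} (x : FibCat.overCat U ⥤ᵇ 𝒴)
    (hx : AlgSt.RepByAlgSpWith (AlgSp.LocP @Smooth) x) (u : FibCat.overCat (selfPt S) ⥤ᵇ 𝒴)
    (hu₁ : AlgSt.RepByAlgSpWith (AlgSp.LocP @Flat) u)
    (hu₂ : AlgSt.RepByAlgSpWith (AlgSp.LocP @LocallyOfFinitePresentation) u)
    (hu₃ : AlgSt.RepByAlgSpWith AlgSp.IsSurjectiveMor u) : Smooth U.hom := by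
  obtain ⟨W, w, hw, hws⟩ := (isDM_of_rep (repByAlgSp1_of_with hu₁ U x)).1.atlas
  have hfp := fp_isFibGrpd (overCat_isFibGrpd U) (overCat_isFibGrpd (selfPt S)) h𝒴 x u
  obtain ⟨b, ⟨jb⟩⟩ := exists_overMap_iso (BasedFunctor.comp w (FibCat.fpFst x u))
  obtain ⟨b₂, ⟨jb₂⟩⟩ := exists_overMap_iso (BasedFunctor.comp w (FibCat.fpSnd x u))
  haveI : Flat b.left := of_with_locP_overMap b (with_of_iso jb
    (with_comp goodP_locP (overCat_isFibGrpd W) hfp (with_locP_mono smooth_le_flat hw) (with_fpFst x hu₁)))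
  haveI : LocallyOfFinitePresentation b.left := of_with_locP_overMap b (with_of_iso jb
    (with_comp goodP_locP (overCat_isFibGrpd W) hfp (with_locP_mono smooth_le_lfp hw) (with_fpFst x hu₂)))
  haveI : Surjective b.left := surjective_of_with_overMap b (with_of_iso jb
    (with_comp goodP_surjective (overCat_isFibGrpd W) hfp hws (with_fpFst x hu₃)))
  have hb₂ : Smooth b₂.left := of_with_locP_overMap b₂ (with_of_iso jb₂
    (with_comp goodP_locP (overCat_isFibGrpd W) hfp hw (with_fpSnd u hx)))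
  haveI : Smooth (b.left ≫ U.hom) := by
    rw [Over.w b, ← Over.w b₂]
    show Smooth (b₂.left ≫ 𝟙 S)
    exact (Category.comp_id b₂.left).symm ▸ hb₂
  exact Groth.Agent.S0115.result b.left U.hom

theorem locQ_smooth_spBG (G : Over ((AlgSp.yon S).obj (selfPt S))) [GrpObj G] (hG : AlgSp.IsAlgSpace G.left)
    (h₁ : AlgSp.LocP @Flat G.hom) (h₂ : AlgSp.LocP @LocallyOfFinitePresentation G.hom) :
    AlgSt.LocQ (AlgSp.LocP @Smooth) (FibCat.toSelf (AlgSt.SpBG Scheme.fppfPrecoverage G)) := by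
  have hB := AlgSp.IsAlgSpace.yon_obj (selfPt S)
  let aX := trivGAction G
  obtain ⟨𝒴, E, hE⟩ := exists_small_model_spQuotSt hB hG aX
  have hA : IsAlgStack Scheme.fppfPrecoverage 𝒴 := by
    obtain ⟨E', hE', -, -⟩ := exists_inverse hE
    exact StAlg.isAlgStack_of_equiv hE' (isAlgStack_spQuotSt hB hG h₁ h₂ hB aX)
  obtain ⟨U, x, hx, hxs⟩ := hA.atlas
  let u₀ : FibCat.overCat (selfPt S) ⥤ᵇ SpQuotSt Scheme.fppfPrecoverage G aX :=
    BasedFunctor.comp (AlgSt.ofOverCat (selfPt S)) (AlgSt.spQuotMap Scheme.fppfPrecoverage G aX)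
  obtain ⟨u, -, hu⟩ := exists_lift_model hE u₀
  have tr : ∀ {P : MorphismProperty (AlgSp.Sp S)},
      (∀ A : SpQuotObj Scheme.fppfPrecoverage G aX, P A.π.left) → AlgSt.RepByAlgSpWith P u := fun {P} h =>
    hu P ((with_congr (f := AlgSt.spQuotMap Scheme.fppfPrecoverage G aX) (f' := u₀)
      (a := AlgSt.ofOverCat (selfPt S)) (b := BasedFunctor.id _) (ofOverCat_isEquivOver _) isEquivOver_id
      (Iso.refl _)).1 (SpQuot16.repWith_spQuotMap P hB hG h))
  haveI : Smooth U.hom := smooth_atlas hA.isStack.1 x hx u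
    (tr fun A => SpQuot16.π_prop isLocalOnBase_fppf_locP_flat hB hG (fun W hW =>
      AlgSpace.locP_of_isPullback hG hB hW (SpQuot16.isPullback_left_unit' W) h₁) A)
    (tr fun A => SpQuot16.π_prop isLocalOnBase_fppf_locP_lfp hB hG (fun W hW =>
      AlgSpace.locP_of_isPullback hG hB hW (SpQuot16.isPullback_left_unit' W) h₂) A)
    (tr fun A => SpQuot16.π_surjective A)
  let k : U ⟶ selfPt S := Over.homMk U.hom (Category.comp_id _)
  refine ⟨U, selfPt S, BasedFunctor.comp x E, baseSelf S, k, isoToSelf _ _, ?_, ?_, ?_, ?_⟩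
  · exact (with_congr (f := BasedFunctor.comp x E) (f' := x) (a := BasedFunctor.id _) (b := E) isEquivOver_id hE
      (Iso.refl _)).2 hx
  · exact (with_congr (f := BasedFunctor.comp x E) (f' := x) (a := BasedFunctor.id _) (b := E) isEquivOver_id hE
      (Iso.refl _)).2 hxs
  · haveI : Smooth (𝟙 (selfPt S) : selfPt S ⟶ selfPt S).left := inferInstanceAs (Smooth (𝟙 S))
    exact (with_congr (f := baseSelf S) (f' := AlgSt.overMap (𝟙 (selfPt S))) (a := BasedFunctor.id _) (b := baseSelf S)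
      isEquivOver_id (baseSelf_isEquivOver S) (isoToSelf _ _)).2 (with_locP_overMap (P := @Smooth) (𝟙 (selfPt S)) ‹_›)
  · exact (StAlg16.locP_yon_iff k).2 (inferInstanceAs (Smooth U.hom))

end Groth.Agent.Bootst16
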