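import Groth.Agent.Lib.Bootst16.Retract
import Groth.Agent.Lib.Bootst16.BGSmooth
import Groth.Agent.Lib.Quot16.Algebraic

/-!
# A group whose classifying stack is algebraic is flat and locally of finite presentation
-/

universe u

open CategoryTheory CategoryTheory.Functor CategoryTheory.Limits AlgebraicGeometry MonoidalCategory
  CartesianMonoidalCategory

set_option linter.style.haveILetI false
set_option linter.unusedSectionVars false
set_option backward.isDefEq.respectTransparency false
set_option backward.isDefEq.respectTransparency.types false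

namespace Groth.Agent.Bootst16

open Groth.Agent.FC16 Groth.Agent.StAlg Groth.Agent.StAlg16 AlgSt

theorem flat_lfp_of_isAlgStack_BG {S : Scheme.{u}} (G : Over S) [GrpObj G] [IsAffineHom G.hom]
    (h : IsAlgStack Scheme.fppfPrecoverage (BG Scheme.fppfPrecoverage G)) :
    Flat G.hom ∧ LocallyOfFinitePresentation G.hom := by
  obtain ⟨U, x, hx, hxs⟩ := h.atlas
  obtain ⟨A, hU, E, hE, -⟩ := Quot16.exists_chart x
  subst hU
  let c := Quot16.chartMap Scheme.fppfPrecoverage (trivAction G)
  obtain ⟨k, ⟨jk⟩⟩ := exists_overMap_iso (BasedFunctor.comp E (FibCat.fpSnd x c))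
  haveI : Smooth k.left := of_with_locP_overMap k (with_of_iso jk (with_comp_equiv hE (with_fpSnd c hx)))
  haveI : Surjective k.left := surjective_of_with_overMap k (with_of_iso jk (with_comp_equiv hE (with_fpSnd c hxs)))
  haveI : IsIso (𝟙_ (Over S)).hom := inferInstanceAs (IsIso (𝟙 S))
  haveI : Smooth A.P.hom := by rw [← Over.w k]; infer_instance
  haveI : Surjective A.P.hom := by rw [← Over.w k]; infer_instance
  obtain ⟨R, hR, hsec⟩ := A.loc
  obtain ⟨J, Z, f, rfl⟩ := R.exists_eq_ofArrows
  have hR' : Presieve.ofArrows Z f ∈ Scheme.precoverage (@Flat ⊓ @LocallyOfFinitePresentation) A.base.left := hR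
  rw [Scheme.ofArrows_mem_precoverage_iff] at hR'
  have hcov := hR'.1
  have hprop := hR'.2
  choose ι z hz using hcov
  choose s hs using fun y => hsec (f (ι y)) ⟨ι y⟩
  let Tl : Scheme.{u} := ∐ fun y => Z (ι y)
  let τ₀ : Tl ⟶ A.base.left := Sigma.desc fun y => f (ι y)
  let σ₀ : Tl ⟶ A.P.left := Sigma.desc s
  let T : Over S := Over.mk (τ₀ ≫ A.base.hom)
  have hσ₀ : σ₀ ≫ A.π.left = τ₀ := Sigma.hom_ext _ _ fun y => by
    rw [Sigma.ι_desc_assoc, Sigma.ι_desc]
    exact hs y
  let σ : T ⟶ A.P := Over.homMk σ₀ (by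
    show σ₀ ≫ A.P.hom = τ₀ ≫ A.base.hom
    rw [← hσ₀, Category.assoc, Over.w A.π])
  haveI : Flat τ₀ := IsZariskiLocalAtSource.sigmaDesc fun y => (hprop (ι y)).1
  haveI : LocallyOfFinitePresentation τ₀ := IsZariskiLocalAtSource.sigmaDesc fun y => (hprop (ι y)).2
  haveI : Surjective τ₀ := ⟨fun y => ⟨Sigma.ι (fun y => Z (ι y)) y (z y), by
    rw [← Scheme.Hom.comp_apply, Sigma.ι_desc]; exact hz y⟩⟩
  have sq := (Quot16.isPullback_pt A σ).map (Over.forget S)
  have hτ : (σ ≫ A.π).left = τ₀ := hσ₀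
  let q := ((G ◁ σ) ≫ A.act.act).left
  have sq' : IsPullback q (snd G T).left A.π.left τ₀ := hτ ▸ sq
  haveI : Flat q := MorphismProperty.of_isPullback sq'.flip ‹Flat τ₀›
  haveI : LocallyOfFinitePresentation q := MorphismProperty.of_isPullback sq'.flip ‹LocallyOfFinitePresentation τ₀›
  haveI : Surjective q := MorphismProperty.of_isPullback sq'.flip ‹Surjective τ₀›
  have hh : (G ⊗ T).hom = q ≫ A.P.hom := (Over.w ((G ◁ σ) ≫ A.act.act)).symm
  haveI : Flat (G ⊗ T).hom := by rw [hh]; infer_instance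
  haveI : LocallyOfFinitePresentation (G ⊗ T).hom := by rw [hh]; infer_instance
  haveI : Surjective (G ⊗ T).hom := by rw [hh]; infer_instance
  exact flat_lfp_of_prod G T

end Groth.Agent.Bootst16
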