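import Groth.Agent.Lib.Bootst16.WeilAlg
import Groth.Agent.Lib.Bootst16.AlgFam
import Mathlib.RingTheory.TensorProduct.Free
import Mathlib.RingTheory.FinitePresentation

/-!
# Algebras with basis receiving a given algebra: the parameter ring
-/

universe u

open TensorProduct

set_option linter.style.haveILetI false
set_option maxSynthPendingDepth 6
set_option backward.isDefEq.respectTransparency false
set_option backward.isDefEq.respectTransparency.types false

namespace Groth.Agent.Bootst16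

variable (Λ C : Type u) [CommRing Λ] [CommRing C] [Algebra Λ C]

/-- `(W, AW, bW, σW)` is universal among algebras with basis receiving `C` -/
def IsVersal {d : ℕ} (W AW : Type u) [CommRing W] [Algebra Λ W] [CommRing AW] [Algebra W AW]
    (bW : Module.Basis (Fin d) W AW) (σW : C →+* AW) : Prop :=
  (∀ l, σW (algebraMap Λ C l) = algebraMap W AW (algebraMap Λ W l)) ∧
  ∀ (R A : Type u) [CommRing R] [Algebra Λ R] [CommRing A] [Algebra R A] (b : Module.Basis (Fin d) R A) (σ : C →+* A),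
    (∀ l, σ (algebraMap Λ C l) = algebraMap R A (algebraMap Λ R l)) →
      (∃ (g : W →ₐ[Λ] R) (G : AW →+* A), (∀ w, G (algebraMap W AW w) = algebraMap R A (g w)) ∧
        (∀ i, G (bW i) = b i) ∧ ∀ c, G (σW c) = σ c) ∧
      ∀ (g g' : W →ₐ[Λ] R) (G G' : AW →+* A), (∀ w, G (algebraMap W AW w) = algebraMap R A (g w)) →
        (∀ i, G (bW i) = b i) → (∀ c, G (σW c) = σ c) → (∀ w, G' (algebraMap W AW w) = algebraMap R A (g' w)) →
        (∀ i, G' (bW i) = b i) → (∀ c, G' (σW c) = σ c) → g = g'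

/-- `(Pa, Bf, bB)` is the universal algebra with basis over `Λ` -/
def IsUnivAlg {d : ℕ} (Pa Bf : Type u) [CommRing Pa] [Algebra Λ Pa] [CommRing Bf] [Algebra Pa Bf]
    (bB : Module.Basis (Fin d) Pa Bf) : Prop :=
  ∀ (R A : Type u) [CommRing R] [Algebra Λ R] [CommRing A] [Algebra R A] (b : Module.Basis (Fin d) R A),
    (∃ (cP : Pa →ₐ[Λ] R) (Φ : Bf →+* A), (∀ p, Φ (algebraMap Pa Bf p) = algebraMap R A (cP p)) ∧ ∀ i, Φ (bB i) = b i) ∧
    ∀ (cP cP' : Pa →ₐ[Λ] R) (Φ Φ' : Bf →+* A), (∀ p, Φ (algebraMap Pa Bf p) = algebraMap R A (cP p)) →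
      (∀ i, Φ (bB i) = b i) → (∀ p, Φ' (algebraMap Pa Bf p) = algebraMap R A (cP' p)) → (∀ i, Φ' (bB i) = b i) →
      cP = cP' ∧ Φ = Φ'

theorem exists_versal_of_univAlg [Algebra.FinitePresentation Λ C] {d : ℕ} (Pa Bf : Type u) [CommRing Pa] [Algebra Λ Pa]
    [CommRing Bf] [Algebra Pa Bf] [Algebra Λ Bf] [IsScalarTower Λ Pa Bf] [Algebra.FinitePresentation Λ Pa]
    (bB : Module.Basis (Fin d) Pa Bf) (hu : IsUnivAlg Λ Pa Bf bB) :
    ∃ (W AW : Type u) (_ : CommRing W) (_ : Algebra Λ W) (_ : CommRing AW) (_ : Algebra W AW)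
      (bW : Module.Basis (Fin d) W AW) (σW : C →+* AW),
      Algebra.FinitePresentation Λ W ∧ IsVersal Λ C W AW bW σW := by
  classical
  haveI : Module.Free Pa Bf := Module.Free.of_basis bB
  haveI : Module.Finite Pa Bf := Module.Finite.of_basis bB
  let E := Bf ⊗[Λ] C
  haveI : Algebra.FinitePresentation Bf E := Algebra.FinitePresentation.baseChange Bf
  obtain ⟨W, _, _, θ, hW, hWeil⟩ := exists_weil Pa Bf E
  letI : Algebra Λ W := ((algebraMap Pa W).comp (algebraMap Λ Pa)).toAlgebra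
  haveI : IsScalarTower Λ Pa W := IsScalarTower.of_algebraMap_eq fun _ => rfl
  let AW := W ⊗[Pa] Bf
  let bW : Module.Basis (Fin d) W AW := Algebra.TensorProduct.basis W bB
  let sw : Bf ⊗[Pa] W →+* AW := (Algebra.TensorProduct.comm Pa Bf W).toRingHom
  let iC : C →+* E := (Algebra.TensorProduct.includeRight : C →ₐ[Λ] E).toRingHom
  let σW : C →+* AW := sw.comp (θ.toRingHom.comp iC)
  have hl : ∀ l, iC (algebraMap Λ C l) = algebraMap Bf E (algebraMap Pa Bf (algebraMap Λ Pa l)) := fun l => by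
    show (1 : Bf) ⊗ₜ[Λ] algebraMap Λ C l = _
    rw [← IsScalarTower.algebraMap_apply Λ Pa Bf]
    show _ = (algebraMap Λ Bf l) ⊗ₜ[Λ] (1 : C)
    rw [Algebra.algebraMap_eq_smul_one, ← TensorProduct.smul_tmul, ← Algebra.algebraMap_eq_smul_one]
  have hσW : ∀ l, σW (algebraMap Λ C l) = algebraMap W AW (algebraMap Λ W l) := fun l => by
    show sw (θ (iC _)) = _
    rw [hl, θ.commutes]
    show Algebra.TensorProduct.comm Pa Bf W ((algebraMap Pa Bf (algebraMap Λ Pa l)) ⊗ₜ[Pa] (1 : W)) = _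
    rw [Algebra.TensorProduct.comm_tmul]
    show _ = (algebraMap Pa W (algebraMap Λ Pa l)) ⊗ₜ[Pa] (1 : Bf)
    rw [Algebra.algebraMap_eq_smul_one, ← TensorProduct.smul_tmul, ← Algebra.algebraMap_eq_smul_one]
  refine ⟨W, AW, inferInstance, inferInstance, inferInstance, inferInstance, bW, σW,
    Algebra.FinitePresentation.trans Λ Pa W, hσW, fun R A _ _ _ _ b σ hσ => ?_⟩
  -- the classifying map of `A`
  obtain ⟨⟨cP, Φ₀, hΦ₀, hΦb⟩, hcu⟩ := hu R A b
  letI : Algebra Pa R := cP.toRingHom.toAlgebra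
  haveI : IsScalarTower Λ Pa R := IsScalarTower.of_algebraMap_eq fun l => (cP.commutes l).symm
  letI : Algebra Pa A := ((algebraMap R A).comp cP.toRingHom).toAlgebra
  haveI : IsScalarTower Pa R A := IsScalarTower.of_algebraMap_eq fun _ => rfl
  letI : Algebra Λ A := ((algebraMap R A).comp (algebraMap Λ R)).toAlgebra
  let Φ : Bf →ₐ[Pa] A := { Φ₀ with commutes' := hΦ₀ }
  let K : Bf ⊗[Pa] R →ₐ[Pa] A :=
    Algebra.TensorProduct.lift Φ (IsScalarTower.toAlgHom Pa R A) fun _ _ => .all _ _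
  have hK : Function.Bijective K := by
    let bk : Module.Basis (Fin d) R (R ⊗[Pa] Bf) := Algebra.TensorProduct.basis R bB
    let K' : R ⊗[Pa] Bf →ₐ[R] A := Algebra.TensorProduct.lift (Algebra.ofId R A) Φ fun _ _ => .all _ _
    have hK' : K'.toLinearMap = (bk.equiv b (Equiv.refl _)).toLinearMap := bk.ext fun i => by
      rw [AlgHom.toLinearMap_apply, LinearEquiv.coe_coe, Module.Basis.equiv_apply, Equiv.refl_apply,
        show bk i = (1 : R) ⊗ₜ bB i from Algebra.TensorProduct.basis_apply _ _]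
      simp only [K', Algebra.TensorProduct.lift_tmul, map_one, one_mul]
      exact hΦb i
    have hb' : Function.Bijective K' := by
      rw [← AlgHom.coe_toLinearMap, hK']
      exact (bk.equiv b (Equiv.refl _)).bijective
    have e1 : ∀ z, K z = K' (Algebra.TensorProduct.comm Pa Bf R z) := fun z => by
      induction z using TensorProduct.induction_on with
      | zero => simp
      | tmul x r => simp [K, K', mul_comm]
      | add z w hz hw => simp [hz, hw]
    rw [show (K : Bf ⊗[Pa] R → A) = K' ∘ (Algebra.TensorProduct.comm Pa Bf R) from funext e1]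
    exact hb'.comp (Algebra.TensorProduct.comm Pa Bf R).bijective
  let Ke := RingEquiv.ofBijective K hK
  have hKΦ : ∀ x, K (algebraMap Bf (Bf ⊗[Pa] R) x) = Φ x := fun x => by
    show K (x ⊗ₜ[Pa] (1 : R)) = _
    simp [K]
  letI : Algebra Bf A := Φ.toRingHom.toAlgebra
  have hΦl : ∀ l, Φ₀ (algebraMap Λ Bf l) = algebraMap R A (algebraMap Λ R l) := fun l => by
    rw [IsScalarTower.algebraMap_apply Λ Pa Bf, hΦ₀]
    exact congrArg (algebraMap R A) (cP.commutes l)
  let Φl : Bf →ₐ[Λ] A := { Φ₀ with commutes' := hΦl }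
  let σl : C →ₐ[Λ] A := { σ with commutes' := hσ }
  constructor
  · let φA : E →+* A := (Algebra.TensorProduct.lift Φl σl fun _ _ => .all _ _).toRingHom
    have hφ : ∀ x, Ke.symm.toRingHom.comp φA (algebraMap Bf E x) = algebraMap Bf (Bf ⊗[Pa] R) x := fun x => by
      show Ke.symm (φA (x ⊗ₜ[Λ] (1 : C))) = _
      rw [show φA (x ⊗ₜ[Λ] (1 : C)) = Φ x from
        (Algebra.TensorProduct.lift_tmul Φl σl _ x 1).trans ((congrArg (Φl x * ·) (map_one σl)).trans (mul_one _)), ← hKΦ]
      refine (RingEquiv.symm_apply_eq Ke).2 ?_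
      rfl
    let φ : E →ₐ[Bf] Bf ⊗[Pa] R := { Ke.symm.toRingHom.comp φA with commutes' := hφ }
    obtain ⟨g, hg, -⟩ := hWeil R φ
    let G : AW →ₐ[Pa] A := Algebra.TensorProduct.lift ((IsScalarTower.toAlgHom Pa R A).comp g) Φ fun _ _ => .all _ _
    refine ⟨g.restrictScalars Λ, G.toRingHom, fun w => ?_, fun i => ?_, fun x => ?_⟩
    · show G (w ⊗ₜ[Pa] (1 : Bf)) = _
      refine (Algebra.TensorProduct.lift_tmul _ _ _ w 1).trans ?_
      rw [map_one, mul_one]
      rfl
    · rw [show bW i = (1 : W) ⊗ₜ bB i from Algebra.TensorProduct.basis_apply _ _]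
      refine (Algebra.TensorProduct.lift_tmul _ _ _ (1 : W) (bB i)).trans ?_
      rw [map_one, one_mul]
      exact hΦb i
    · show G (sw (θ (iC x))) = σ x
      have e1 : ∀ z, G (sw z) = K (Algebra.TensorProduct.map (AlgHom.id Bf Bf) g z) := fun z => by
        induction z using TensorProduct.induction_on with
        | zero => simp
        | tmul y w =>
          show G (Algebra.TensorProduct.comm Pa Bf W (y ⊗ₜ w)) = K (y ⊗ₜ[Pa] g w)
          rw [Algebra.TensorProduct.comm_tmul]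
          exact ((Algebra.TensorProduct.lift_tmul _ _ _ w y).trans (mul_comm _ _)).trans
            (Algebra.TensorProduct.lift_tmul _ _ _ y (g w)).symm
        | add z w hz hw => simp only [map_add, hz, hw]
      rw [e1, ← AlgHom.comp_apply, hg]
      show K (Ke.symm (φA ((1 : Bf) ⊗ₜ[Λ] x))) = _
      rw [show K (Ke.symm _) = _ from Ke.apply_symm_apply _]
      exact (Algebra.TensorProduct.lift_tmul Φl σl _ (1 : Bf) x).trans
        ((congrArg (· * σl x) (map_one Φl)).trans (one_mul _))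
  · intro g g' G G' hG hGb hGc hG' hG'b hG'c
    have hbase : ∀ (g : W →ₐ[Λ] R) (G : AW →+* A), (∀ w, G (algebraMap W AW w) = algebraMap R A (g w)) →
        (∀ i, G (bW i) = b i) → (∀ p, g (algebraMap Pa W p) = cP p) ∧
          G.comp (Algebra.TensorProduct.includeRight : Bf →ₐ[Pa] AW).toRingHom = Φ₀ := by
      intro g G hG hGb
      obtain ⟨h1, h2⟩ := hcu (g.comp (IsScalarTower.toAlgHom Λ Pa W)) cP
        (G.comp (Algebra.TensorProduct.includeRight : Bf →ₐ[Pa] AW).toRingHom) Φ₀ (fun p => by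
          show G ((Algebra.TensorProduct.includeRight : Bf →ₐ[Pa] AW) (algebraMap Pa Bf p)) = _
          rw [AlgHom.commutes]
          exact hG (algebraMap Pa W p))
        (fun i => by
          refine Eq.trans ?_ (hGb i)
          show G ((1 : W) ⊗ₜ[Pa] bB i) = _
          rw [show bW i = (1 : W) ⊗ₜ bB i from Algebra.TensorProduct.basis_apply _ _]) hΦ₀ hΦb
      exact ⟨fun p => congrArg (fun f => f p) h1, h2⟩
    obtain ⟨hp, hG2⟩ := hbase g G hG hGb
    obtain ⟨hp', hG2'⟩ := hbase g' G' hG' hG'b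
    let gP : W →ₐ[Pa] R := { g.toRingHom with commutes' := hp }
    let gP' : W →ₐ[Pa] R := { g'.toRingHom with commutes' := hp' }
    suffices h : gP = gP' from AlgHom.ext fun w => congrArg (fun f => f w) h
    have hKG : ∀ (g : W →ₐ[Pa] R) (G : AW →+* A), (∀ w, G (algebraMap W AW w) = algebraMap R A (g w)) →
        G.comp (Algebra.TensorProduct.includeRight : Bf →ₐ[Pa] AW).toRingHom = Φ₀ →
        ∀ z, K (Algebra.TensorProduct.map (AlgHom.id Bf Bf) g z) = G (sw z) := by
      intro g G hG hG2 z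
      induction z using TensorProduct.induction_on with
      | zero => simp
      | tmul x w =>
        have hx : G ((1 : W) ⊗ₜ[Pa] x) = Φ x := congrArg (fun f => f x) hG2
        have hw : G (w ⊗ₜ[Pa] (1 : Bf)) = algebraMap R A (g w) := hG w
        rw [show sw (x ⊗ₜ[Pa] w) = ((1 : W) ⊗ₜ[Pa] x) * (w ⊗ₜ[Pa] (1 : Bf)) by
          show Algebra.TensorProduct.comm Pa Bf W (x ⊗ₜ w) = _
          rw [Algebra.TensorProduct.comm_tmul, Algebra.TensorProduct.tmul_mul_tmul, mul_one, one_mul],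
          map_mul, hx, hw]
        simp [K]
      | add z w hz hw => simp only [map_add, hz, hw]
    refine (hWeil R ((Algebra.TensorProduct.map (AlgHom.id Bf Bf) gP').comp θ)).unique ?_ rfl
    have hC : ∀ x, Algebra.TensorProduct.map (AlgHom.id Bf Bf) gP (θ (iC x)) =
        Algebra.TensorProduct.map (AlgHom.id Bf Bf) gP' (θ (iC x)) := fun x => hK.1 (by
      rw [hKG gP G hG hG2, hKG gP' G' hG' hG2']
      exact (hGc x).trans (hG'c x).symm)
    refine AlgHom.ext fun z => ?_
    induction z using TensorProduct.induction_on with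
    | zero => simp
    | tmul x y =>
      rw [show x ⊗ₜ[Λ] y = algebraMap Bf E x * iC y by
        show _ = (x ⊗ₜ[Λ] (1 : C)) * ((1 : Bf) ⊗ₜ[Λ] y)
        rw [Algebra.TensorProduct.tmul_mul_tmul, mul_one, one_mul]]
      rw [map_mul, map_mul, AlgHom.commutes, AlgHom.commutes, AlgHom.comp_apply, AlgHom.comp_apply, hC]
    | add z w hz hw => simp only [map_add, hz, hw]

theorem exists_univAlg_of {d : ℕ} (P F Pa : Type u) [CommRing P] [CommRing F] [Algebra P F] (bF : Module.Basis (Fin d) P F)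
    [CommRing Pa] [Algebra Λ Pa] [Algebra P Pa] [Algebra.FinitePresentation Λ Pa]
    (hex : ∀ (R A : Type u) [CommRing R] [CommRing A] [Algebra R A] (b : Module.Basis (Fin d) R A),
      ∃ (c : P →+* R) (Ψ : F →+* A), (∀ r, Ψ (algebraMap P F r) = algebraMap R A (c r)) ∧ ∀ i, Ψ (bF i) = b i)
    (hext : ∀ (R A : Type u) [CommRing R] [CommRing A] [Algebra R A] (b : Module.Basis (Fin d) R A) (c c' : P →+* R)
      (Ψ Ψ' : F →+* A), (∀ r, Ψ (algebraMap P F r) = algebraMap R A (c r)) →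
      (∀ r, Ψ' (algebraMap P F r) = algebraMap R A (c' r)) → (∀ i, Ψ (bF i) = b i) → (∀ i, Ψ' (bF i) = b i) →
      c = c' ∧ Ψ = Ψ')
    (hlift : ∀ (R : Type u) [CommRing R] [Algebra Λ R] (c : P →+* R),
      ∃ cP : Pa →ₐ[Λ] R, ∀ r, cP (algebraMap P Pa r) = c r)
    (huniq : ∀ (R : Type u) [CommRing R] [Algebra Λ R] (f f' : Pa →ₐ[Λ] R),
      (∀ r, f (algebraMap P Pa r) = f' (algebraMap P Pa r)) → f = f') :
    ∃ (Bf : Type u) (_ : CommRing Bf) (_ : Algebra Pa Bf) (_ : Algebra Λ Bf)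
      (bB : Module.Basis (Fin d) Pa Bf), IsScalarTower Λ Pa Bf ∧ IsUnivAlg Λ Pa Bf bB := by
  classical
  let Bf := Pa ⊗[P] F
  letI iΛ : Algebra Λ Bf := ((algebraMap Pa Bf).comp (algebraMap Λ Pa)).toAlgebra
  refine ⟨Bf, inferInstance, inferInstance, iΛ, Algebra.TensorProduct.basis Pa bF,
    IsScalarTower.of_algebraMap_eq fun _ => rfl, fun R A _ _ _ _ b => ⟨?_, ?_⟩⟩
  · obtain ⟨c, Ψ₀, hΨ₀, hb⟩ := hex R A b
    obtain ⟨cP, hcP⟩ := hlift R c
    letI : Algebra P A := ((algebraMap R A).comp c).toAlgebra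
    letI : Algebra Pa A := ((algebraMap R A).comp cP.toRingHom).toAlgebra
    haveI : IsScalarTower P Pa A := IsScalarTower.of_algebraMap_eq fun r => congrArg (algebraMap R A) (hcP r).symm
    let Ψ : F →ₐ[P] A := { Ψ₀ with commutes' := hΨ₀ }
    let Φ : Bf →ₐ[Pa] A := Algebra.TensorProduct.lift (Algebra.ofId Pa A) Ψ fun _ _ => .all _ _
    refine ⟨cP, Φ.toRingHom, Φ.commutes, fun i => ?_⟩
    rw [Algebra.TensorProduct.basis_apply]
    refine (Algebra.TensorProduct.lift_tmul _ _ _ _ (bF i)).trans ?_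
    rw [map_one, one_mul]
    exact hb i
  · intro cP cP' Φ Φ' hΦ hb hΦ' hb'
    let iF : F →ₐ[P] Bf := Algebra.TensorProduct.includeRight
    have hbb : ∀ i, iF (bF i) = Algebra.TensorProduct.basis Pa bF i :=
      fun i => (Algebra.TensorProduct.basis_apply _ _).symm
    have hi : ∀ r, iF (algebraMap P F r) = algebraMap Pa Bf (algebraMap P Pa r) :=
      fun r => (iF.commutes r).trans (IsScalarTower.algebraMap_apply P Pa Bf r)
    obtain ⟨h1, h2⟩ := hext R A b (cP.toRingHom.comp (algebraMap P Pa)) (cP'.toRingHom.comp (algebraMap P Pa))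
      (Φ.comp iF.toRingHom) (Φ'.comp iF.toRingHom)
      (fun r => by show Φ (iF _) = _; rw [hi, hΦ]; rfl) (fun r => by show Φ' (iF _) = _; rw [hi, hΦ']; rfl)
      (fun i => (congrArg Φ (hbb i)).trans (hb i)) (fun i => (congrArg Φ' (hbb i)).trans (hb' i))
    have hc : cP = cP' := huniq R cP cP' fun r => congrArg (fun f => f r) h1
    refine ⟨hc, RingHom.ext fun z => ?_⟩
    induction z using TensorProduct.induction_on with
    | zero => simp
    | tmul p x =>
      have e1 : p ⊗ₜ[P] x = algebraMap Pa Bf p * iF x :=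
        (congrArg₂ (· ⊗ₜ[P] ·) (mul_one p).symm (one_mul x).symm).trans
          (Algebra.TensorProduct.tmul_mul_tmul p 1 1 x).symm
      rw [e1, map_mul, map_mul, hΦ, hΦ', hc]
      exact congrArg _ (congrArg (fun f => f x) h2)
    | add z w hz hw => simp only [map_add, hz, hw]

theorem exists_famHom (d : ℕ) (R A : Type u) [CommRing R] [CommRing A] [Algebra R A] (b : Module.Basis (Fin d) R A) :
    ∃ (c : FamBase.{u} d →+* R) (Ψ : FamAlg.{u} d →+* A),
      (∀ r, Ψ (algebraMap _ _ r) = algebraMap R A (c r)) ∧ ∀ i, Ψ (famBasis d i) = b i := by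
  obtain ⟨c, e, he⟩ := exists_classify d R A b
  letI : Algebra (FamBase.{u} d) R := c.toAlgebra
  refine ⟨c, e.toRingHom.comp (Algebra.TensorProduct.includeRight :
    FamAlg.{u} d →ₐ[FamBase.{u} d] R ⊗[FamBase.{u} d] FamAlg.{u} d).toRingHom, fun r => ?_, he⟩
  show e ((Algebra.TensorProduct.includeRight : FamAlg.{u} d →ₐ[FamBase.{u} d] R ⊗[FamBase.{u} d] FamAlg.{u} d) (algebraMap _ _ r)) = _
  rw [AlgHom.commutes]
  exact e.commutes (c r)

theorem exists_univAlg (d : ℕ) :
    ∃ (Pa Bf : Type u) (_ : CommRing Pa) (_ : Algebra Λ Pa) (_ : CommRing Bf) (_ : Algebra Pa Bf) (_ : Algebra Λ Bf)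
      (bB : Module.Basis (Fin d) Pa Bf), IsScalarTower Λ Pa Bf ∧ Algebra.FinitePresentation Λ Pa ∧ IsUnivAlg Λ Pa Bf bB := by
  letI : Algebra Z₀.{u} Λ := ((Int.castRingHom Λ).comp (ULift.ringEquiv : ULift.{u} ℤ ≃+* ℤ).toRingHom : Z₀.{u} →+* Λ).toAlgebra
  haveI := famBase_fp.{u} d
  let i₂ : FamBase.{u} d →ₐ[Z₀.{u}] Λ ⊗[Z₀.{u}] FamBase.{u} d := Algebra.TensorProduct.includeRight
  letI : Algebra (FamBase.{u} d) (Λ ⊗[Z₀.{u}] FamBase.{u} d) := i₂.toRingHom.toAlgebra
  haveI : Algebra.FinitePresentation Λ (Λ ⊗[Z₀.{u}] FamBase.{u} d) := Algebra.FinitePresentation.baseChange Λ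
  obtain ⟨Bf, i₁, i₃, i₄, bB, h₁, h₂⟩ := exists_univAlg_of Λ (FamBase.{u} d) (FamAlg.{u} d) (Λ ⊗[Z₀.{u}] FamBase.{u} d)
    (famBasis d) (fun R A _ _ _ b => exists_famHom d R A b)
    (fun R A _ _ _ b _ _ _ _ => famHom_ext b) (fun R _ _ c => by
      letI : Algebra Z₀.{u} R := ((algebraMap Λ R).comp (algebraMap Z₀.{u} Λ)).toAlgebra
      haveI : IsScalarTower Z₀.{u} Λ R := IsScalarTower.of_algebraMap_eq fun _ => rfl
      let c' : FamBase.{u} d →ₐ[Z₀.{u}] R := { c with
        commutes' := fun z => congrArg (fun f : Z₀.{u} →+* R => f z)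
          (Subsingleton.elim (c.comp (algebraMap Z₀.{u} (FamBase.{u} d))) (algebraMap Z₀.{u} R)) }
      refine ⟨Algebra.TensorProduct.lift (Algebra.ofId Λ R) c' fun _ _ => .all _ _, fun r => ?_⟩
      refine (Algebra.TensorProduct.lift_tmul _ _ _ (1 : Λ) r).trans ?_
      rw [map_one, one_mul]
      rfl) (fun R _ _ f f' h => by
      refine AlgHom.ext fun z => ?_
      induction z using TensorProduct.induction_on with
      | zero => simp
      | tmul l r =>
        have e1 : l ⊗ₜ[Z₀.{u}] r = algebraMap Λ (Λ ⊗[Z₀.{u}] FamBase.{u} d) l * i₂ r :=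
          (congrArg₂ (· ⊗ₜ[Z₀.{u}] ·) (mul_one l).symm (one_mul r).symm).trans
            (Algebra.TensorProduct.tmul_mul_tmul l 1 1 r).symm
        rw [e1, map_mul, map_mul, f.commutes, f'.commutes]
        exact congrArg _ (h r)
      | add z w hz hw => simp only [map_add, hz, hw])
  exact ⟨_, Bf, inferInstance, inferInstance, i₁, i₃, i₄, bB, h₁, inferInstance, h₂⟩

theorem exists_versal [Algebra.FinitePresentation Λ C] (d : ℕ) :
    ∃ (W AW : Type u) (_ : CommRing W) (_ : Algebra Λ W) (_ : CommRing AW) (_ : Algebra W AW)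
      (bW : Module.Basis (Fin d) W AW) (σW : C →+* AW),
      Algebra.FinitePresentation Λ W ∧ IsVersal Λ C W AW bW σW := by
  obtain ⟨Pa, Bf, _, _, _, _, _, bB, _, _, hu⟩ := exists_univAlg Λ d
  exact exists_versal_of_univAlg Λ C Pa Bf bB hu

end Groth.Agent.Bootst16
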