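import Groth.Agent.Lib.Bootst16.FamComp
import Groth.Agent.Lib.Bootst16.Versal
import Groth.Agent.Lib.ChartLift16.PSheaf

/-!
# The parameter ring classifies lifts to an affine chart over a component
-/

universe u

open CategoryTheory CategoryTheory.Limits AlgebraicGeometry Opposite TensorProduct

set_option linter.style.haveILetI false
set_option linter.unusedSectionVars false
set_option backward.isDefEq.respectTransparency false
set_option backward.isDefEq.respectTransparency.types false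

namespace Groth.Agent.Bootst16

open AlgSp Groth.Agent.ChartLift16

variable {S : Scheme.{u}} {C₀ D₀ U : Over S} {dPr : D₀ ⟶ C₀} {d : ℕ}
  (E : FamComp dPr (famBasis.{u} d))
  {Λ : Type u} [CommRing Λ] {sΛ : Spec (CommRingCat.of Λ) ⟶ S} (jO : baseO sΛ ⟶ U)
  {C : Type u} [CommRing C] [Algebra Λ C]

/-- the affine chart over `U` -/
noncomputable abbrev chartU (C : Type u) [CommRing C] [Algebra Λ C] : tO sΛ C ⟶ U := tc sΛ C ≫ jO

/-- the base of an algebra over the base -/
noncomputable abbrev sOf (R : Type u) [CommRing R] [Algebra Λ R] : Spec (CommRingCat.of R) ⟶ S :=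
  Spec.map (CommRingCat.ofHom (algebraMap Λ R)) ≫ sΛ

/-- classifying data of an algebra with basis -/
structure AlgData (R : Type u) [CommRing R] (A : Type u) [CommRing A] [Algebra R A] where
  /-- the point of the parameters -/
  φ : FamBase.{u} d →+* R
  /-- the comparison -/
  Ψ : FamAlg.{u} d →+* A
  /-- the basis -/
  b : Module.Basis (Fin d) R A
  comm : ∀ p, Ψ (algebraMap _ _ p) = algebraMap R A (φ p)
  basis : ∀ i, Ψ (famBasis d i) = b i

theorem exists_algData {R : Type u} [CommRing R] (φ : FamBase.{u} d →+* R) :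
    ∃ (A : Type u) (_ : CommRing A) (_ : Algebra R A) (a : AlgData (d := d) R A), a.φ = φ := by
  letI := φ.toAlgebra
  exact ⟨R ⊗[FamBase.{u} d] FamAlg.{u} d, inferInstance, inferInstance,
    { φ := φ
      Ψ := (Algebra.TensorProduct.includeRight :
        FamAlg.{u} d →ₐ[FamBase.{u} d] R ⊗[FamBase.{u} d] FamAlg.{u} d).toRingHom
      b := Algebra.TensorProduct.basis R (famBasis d)
      comm := fun p =>
        ((Algebra.TensorProduct.includeRight :
          FamAlg.{u} d →ₐ[FamBase.{u} d] R ⊗[FamBase.{u} d] FamAlg.{u} d).commutes p).trans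
        (IsScalarTower.algebraMap_apply _ R _ p)
      basis := fun i => (Algebra.TensorProduct.basis_apply _ _).symm }, rfl⟩

theorem AlgData.exists_push {R A R' A' : Type u} [CommRing R] [CommRing A] [Algebra R A] [CommRing R'] [CommRing A']
    [Algebra R' A'] (a : AlgData (d := d) R A) (a' : AlgData (d := d) R' A') (g : R →+* R') (hg : g.comp a.φ = a'.φ) :
    ∃ G : A →+* A', (∀ r, G (algebraMap R A r) = algebraMap R' A' (g r)) ∧ (∀ i, G (a.b i) = a'.b i) ∧
      G.comp a.Ψ = a'.Ψ := by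
  have po := isPushout_of_basis (famBasis d) a.b a.φ a.Ψ a.comm a.basis
  have w : CommRingCat.ofHom a.φ ≫ CommRingCat.ofHom ((algebraMap R' A').comp g) =
      CommRingCat.ofHom (algebraMap (FamBase.{u} d) (FamAlg.{u} d)) ≫ CommRingCat.ofHom a'.Ψ :=
    CommRingCat.hom_ext (RingHom.ext fun p => by
      show algebraMap R' A' (g (a.φ p)) = a'.Ψ (algebraMap _ _ p)
      rw [a'.comm, ← hg]
      rfl)
  let G := po.desc _ _ w
  have h1 : ∀ r, G.hom (algebraMap R A r) = algebraMap R' A' (g r) := fun r =>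
    congrArg (fun f => f.hom r) (po.inl_desc _ _ w)
  have h2 : G.hom.comp a.Ψ = a'.Ψ := congrArg CommRingCat.Hom.hom (po.inr_desc _ _ w)
  refine ⟨G.hom, h1, fun i => ?_, h2⟩
  rw [← a.basis, ← a'.basis, ← h2]
  rfl

variable {R A : Type u} [CommRing R] [Algebra Λ R] [CommRing A] [Algebra R A]

/-- the square of the data -/
theorem AlgData.sq (a : AlgData (d := d) R A) :
    IsPullback (tc (sOf (sΛ := sΛ) R) A) (E.η A (Spec.map (CommRingCat.ofHom (algebraMap R A)) ≫ sOf R) a.Ψ)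
      (E.κ R (sOf R) a.φ) dPr :=
  (E.isPullback R (sOf R) a.φ A a.b a.Ψ a.comm a.basis).flip

variable (sΛ) in
/-- the map of a compatible homomorphism -/
noncomputable def sMap (σ : C →+* A) (hσ : ∀ l, σ (algebraMap Λ C l) = algebraMap R A (algebraMap Λ R l)) :
    tO (sOf (sΛ := sΛ) R) A ⟶ tO sΛ C :=
  Over.homMk (Spec.map (CommRingCat.ofHom σ)) (by
    show Spec.map _ ≫ Spec.map _ ≫ sΛ = Spec.map _ ≫ Spec.map _ ≫ sΛ
    rw [← Category.assoc, ← Spec.map_comp, ← Category.assoc, ← Spec.map_comp]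
    congr 2
    exact CommRingCat.hom_ext (RingHom.ext hσ))

theorem sMap_tc (σ : C →+* A) (hσ : ∀ l, σ (algebraMap Λ C l) = algebraMap R A (algebraMap Λ R l)) :
    sMap sΛ σ hσ ≫ tc sΛ C = tc (sOf (sΛ := sΛ) R) A ≫ tc sΛ R := by
  apply Over.OverMorphism.ext
  show Spec.map _ ≫ Spec.map _ = Spec.map _ ≫ Spec.map _
  rw [← Spec.map_comp, ← Spec.map_comp]
  congr 1
  exact CommRingCat.hom_ext (RingHom.ext hσ)

/-- the lift of an algebra with basis receiving the chart -/
noncomputable def secMk (a : AlgData (d := d) R A) (σ : C →+* A)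
    (hσ : ∀ l, σ (algebraMap Λ C l) = algebraMap R A (algebraMap Λ R l)) :
    PSec dPr ((yon S).map (chartU jO C)) (tO sΛ R) where
  g := tc sΛ R ≫ jO
  c := E.κ R (sOf R) a.φ
  l := (yon S).map ((a.sq E).isoPullback.inv ≫ sMap sΛ σ hσ)
  hl := by
    rw [← Functor.map_comp]
    congr 1
    show ((a.sq E).isoPullback.inv ≫ sMap sΛ σ hσ) ≫ tc sΛ C ≫ jO = dfst dPr _ ≫ tc sΛ R ≫ jO
    have h : (a.sq E).isoPullback.inv ≫ tc (sOf (sΛ := sΛ) R) A = dfst dPr (E.κ R (sOf (sΛ := sΛ) R) a.φ) :=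
      IsPullback.isoPullback_inv_fst _
    rw [← h, Category.assoc, Category.assoc, ← Category.assoc (sMap sΛ σ hσ), sMap_tc]
    rfl

theorem secMk_injective {a : AlgData (d := d) R A} {σ σ' : C →+* A}
    {hσ : ∀ l, σ (algebraMap Λ C l) = algebraMap R A (algebraMap Λ R l)}
    {hσ' : ∀ l, σ' (algebraMap Λ C l) = algebraMap R A (algebraMap Λ R l)}
    (h : secMk E jO a σ hσ = secMk E jO a σ' hσ') : σ = σ' := by
  have e : (yon S).map ((a.sq E).isoPullback.inv ≫ sMap sΛ σ hσ) =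
      (yon S).map ((a.sq E).isoPullback.inv ≫ sMap sΛ σ' hσ') := by injection h
  exact congrArg CommRingCat.Hom.hom (Spec.map_injective (congrArg CommaMorphism.left
    ((cancel_epi (a.sq E).isoPullback.inv).1 ((yon S).map_injective e))))

theorem res_secMk {R' A' : Type u} [CommRing R'] [Algebra Λ R'] [CommRing A'] [Algebra R' A']
    (a : AlgData (d := d) R A) (a' : AlgData (d := d) R' A') (g : R →ₐ[Λ] R') (hg : g.toRingHom.comp a.φ = a'.φ)
    (G : A →+* A') (hG : ∀ r, G (algebraMap R A r) = algebraMap R' A' (g r)) (hGΨ : G.comp a.Ψ = a'.Ψ)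
    (σ : C →+* A) (hσ : ∀ l, σ (algebraMap Λ C l) = algebraMap R A (algebraMap Λ R l))
    (σ' : C →+* A') (hσ' : ∀ l, σ' (algebraMap Λ C l) = algebraMap R' A' (algebraMap Λ R' l))
    (hσσ : G.comp σ = σ') :
    PSec.res dPr _ (tmap sΛ g) (secMk E jO a σ hσ) = secMk E jO a' σ' hσ' := by
  have hf : (tmap sΛ g).left = Spec.map (CommRingCat.ofHom g.toRingHom) := tmap_left sΛ g
  have hc : 𝟙 (tO sΛ R') ≫ tmap sΛ g ≫ E.κ R (sOf R) a.φ = E.κ R' (sOf R') a'.φ := by
    rw [Category.id_comp, E.κ_nat R R' _ _ g.toRingHom (tmap sΛ g) hf, hg]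
  refine PSec.ext' ?_ hc ?_
  · show tmap sΛ g ≫ tc sΛ R ≫ jO = tc sΛ R' ≫ jO
    rw [← tmap_tc sΛ g, Category.assoc]
  let tG : tO (sOf (sΛ := sΛ) R') A' ⟶ tO (sOf (sΛ := sΛ) R) A := Over.homMk (Spec.map (CommRingCat.ofHom G)) (by
    show Spec.map _ ≫ Spec.map _ ≫ Spec.map _ ≫ sΛ = Spec.map _ ≫ Spec.map _ ≫ sΛ
    simp only [← Category.assoc, ← Spec.map_comp]
    congr 2
    exact CommRingCat.hom_ext (RingHom.ext fun l => (hG _).trans (congrArg (algebraMap R' A') (g.commutes l))))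
  have h1 : tG ≫ tc (sOf R) A = tc (sOf R') A' ≫ tmap sΛ g := by
    apply Over.OverMorphism.ext
    show Spec.map _ ≫ Spec.map _ = Spec.map _ ≫ Spec.map _
    rw [← Spec.map_comp, ← Spec.map_comp]
    congr 1
    exact CommRingCat.hom_ext (RingHom.ext hG)
  have h2 : tG ≫ E.η A (Spec.map (CommRingCat.ofHom (algebraMap R A)) ≫ sOf R) a.Ψ =
      E.η A' (Spec.map (CommRingCat.ofHom (algebraMap R' A')) ≫ sOf R') a'.Ψ := by
    rw [E.η_nat A A' _ _ G tG rfl, hGΨ]
  have h3 : tG ≫ sMap sΛ σ hσ = sMap sΛ σ' hσ' := by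
    apply Over.OverMorphism.ext
    show Spec.map _ ≫ Spec.map _ = Spec.map _
    rw [← Spec.map_comp]
    congr 1
    exact CommRingCat.hom_ext hσσ
  show (yon S).map (dmap _ hc) ≫ (yon S).map (dmap (tmap sΛ g) rfl) ≫
    (yon S).map ((a.sq E).isoPullback.inv ≫ sMap sΛ σ hσ) = (yon S).map ((a'.sq E).isoPullback.inv ≫ sMap sΛ σ' hσ')
  rw [← Functor.map_comp, ← Functor.map_comp, ← h3]
  congr 1
  simp only [← Category.assoc]
  congr 1
  rw [← cancel_epi (a'.sq E).isoPullback.hom, Iso.hom_inv_id_assoc, ← cancel_mono (a.sq E).isoPullback.hom]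
  simp only [Category.assoc, Iso.inv_hom_id, Category.comp_id]
  apply pullback.hom_ext <;> simp [h1, h2]

theorem exists_secMk (s : PSec dPr ((yon S).map (chartU jO C)) (tO sΛ R)) [Mono jO]
    (hg : s.g = tc sΛ R ≫ jO) (hc : Set.range s.c.left ⊆ E.O) :
    ∃ (A : Type u) (_ : CommRing A) (_ : Algebra R A) (a : AlgData (d := d) R A) (σ : C →+* A)
      (hσ : ∀ l, σ (algebraMap Λ C l) = algebraMap R A (algebraMap Λ R l)), secMk E jO a σ hσ = s := by
  obtain ⟨g, c, l, hl⟩ := s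
  obtain rfl : g = tc sΛ R ≫ jO := hg
  obtain ⟨φ, rfl⟩ := E.κ_surj R (sOf R) c hc
  obtain ⟨A, _, _, a, rfl⟩ := exists_algData (d := d) φ
  obtain ⟨m, rfl⟩ := (yon S).map_surjective l
  let m' := (a.sq E).isoPullback.hom ≫ m
  have hm : m' ≫ tc sΛ C = tc (sOf R) A ≫ tc sΛ R := by
    rw [← cancel_mono jO]
    have e := (yon S).map_injective (((yon S).map_comp m (chartU jO C)).trans hl)
    show ((a.sq E).isoPullback.hom ≫ m) ≫ tc sΛ C ≫ jO = tc (sOf R) A ≫ tc sΛ R ≫ jO
    rw [Category.assoc, e, IsPullback.isoPullback_hom_fst_assoc]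
  obtain ⟨σ, hσl⟩ := Spec.map_surjective (R := CommRingCat.of C) (S := CommRingCat.of A) m'.left
  have hσ : ∀ l, σ.hom (algebraMap Λ C l) = algebraMap R A (algebraMap Λ R l) := fun l => by
    have e := congrArg CommaMorphism.left hm
    change m'.left ≫ Spec.map _ = Spec.map _ ≫ Spec.map _ at e
    rw [← hσl, ← Spec.map_comp, ← Spec.map_comp] at e
    exact congrArg (fun f => f.hom l) (Spec.map_injective e)
  refine ⟨A, inferInstance, inferInstance, a, σ.hom, hσ, ?_⟩
  refine PSec.ext' rfl (Category.id_comp _) ?_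
  show (yon S).map _ ≫ (yon S).map ((a.sq E).isoPullback.inv ≫ _) = (yon S).map m
  rw [← Functor.map_comp]
  congr 1
  rw [dmap_eq_id rfl]
  refine (Category.id_comp _).trans ?_
  rw [Iso.inv_comp_eq]
  exact Over.OverMorphism.ext hσl

section Versal

variable {W AW : Type u} [CommRing W] [Algebra Λ W] [CommRing AW] [Algebra W AW] {bW : Module.Basis (Fin d) W AW}
  {σW : C →+* AW} (hV : IsVersal Λ C W AW bW σW) (aW : AlgData (d := d) W AW) (haW : aW.b = bW)

include hV haW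

/-- lifts over the component come from the parameter ring -/
theorem exists_tmap_of_sec [Mono jO] (s : PSec dPr ((yon S).map (chartU jO C)) (tO sΛ R))
    (hg : s.g = tc sΛ R ≫ jO) (hc : Set.range s.c.left ⊆ E.O) :
    ∃ g : W →ₐ[Λ] R, PSec.res dPr _ (tmap sΛ g) (secMk E jO aW σW hV.1) = s := by
  obtain ⟨A, _, _, a, σ, hσ, rfl⟩ := exists_secMk E jO s hg hc
  obtain ⟨⟨g, G, hG, hGb, hGc⟩, -⟩ := hV.2 R A a.b σ hσ
  obtain ⟨e1, e2⟩ := famHom_ext a.b (c := g.toRingHom.comp aW.φ) (c' := a.φ) (Ψ := G.comp aW.Ψ) (Ψ' := a.Ψ)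
    (fun p => (congrArg G (aW.comm p)).trans (hG _)) a.comm
    (fun i => (congrArg G ((aW.basis i).trans (by rw [haW]))).trans (hGb i)) a.basis
  exact ⟨g, res_secMk E jO aW a g e1 G hG e2 σW hV.1 σ hσ (RingHom.ext hGc)⟩

/-- distinct points of the parameter ring give distinct lifts -/
theorem tmap_eq_of_res {g g' : W →ₐ[Λ] R}
    (h : PSec.res dPr _ (tmap sΛ g) (secMk E jO aW σW hV.1) =
      PSec.res dPr _ (tmap sΛ g') (secMk E jO aW σW hV.1)) : g = g' := by
  have hc : tmap sΛ g ≫ E.κ W (sOf W) aW.φ = tmap sΛ g' ≫ E.κ W (sOf W) aW.φ := congrArg PSec.c h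
  rw [E.κ_nat W R (sOf W) (sOf R) g.toRingHom (tmap sΛ g) (tmap_left sΛ g),
    E.κ_nat W R (sOf W) (sOf R) g'.toRingHom (tmap sΛ g') (tmap_left sΛ g')] at hc
  obtain ⟨A, _, _, a, ha⟩ := exists_algData (d := d) (g.toRingHom.comp aW.φ)
  obtain ⟨G, hG, hGb, hGΨ⟩ := aW.exists_push a g.toRingHom ha.symm
  obtain ⟨G', hG', hG'b, hG'Ψ⟩ := aW.exists_push a g'.toRingHom ((E.κ_inj R (sOf R) hc).symm.trans ha.symm)
  have hσ : ∀ (g : W →ₐ[Λ] R) (G : AW →+* A), (∀ r, G (algebraMap W AW r) = algebraMap R A (g r)) →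
      ∀ l, G.comp σW (algebraMap Λ C l) = algebraMap R A (algebraMap Λ R l) := fun g G hG l =>
    ((congrArg G (hV.1 l)).trans (hG _)).trans (congrArg (algebraMap R A) (g.commutes l))
  rw [res_secMk E jO aW a g ha.symm G hG hGΨ σW hV.1 (G.comp σW) (hσ g G hG) rfl,
    res_secMk E jO aW a g' ((E.κ_inj R (sOf R) hc).symm.trans ha.symm) G' hG' hG'Ψ σW hV.1 (G'.comp σW)
      (hσ g' G' hG') rfl] at h
  have e := secMk_injective E jO h
  exact (hV.2 R A a.b (G.comp σW) (hσ g G hG)).2 g g' G G' hG (fun i => by rw [← haW]; exact hGb i) (fun c => rfl)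
    hG' (fun i => by rw [← haW]; exact hG'b i) (fun c => (congrArg (fun f => f c) e).symm)

end Versal

end Groth.Agent.Bootst16
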