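import Groth.Agent.Lib.Bootst16.Family

/-!
# The components of the family of free algebras, with classifying maps
-/

universe u

open CategoryTheory CategoryTheory.Limits AlgebraicGeometry TensorProduct

set_option linter.style.haveILetI false
set_option linter.unusedSectionVars false
set_option backward.isDefEq.respectTransparency false
set_option backward.isDefEq.respectTransparency.types false

namespace Groth.Agent.Bootst16

variable {S : Scheme.{u}}

/-- classifying maps for a component `(P, M)` of a finite free family `dPr` -/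
structure FamComp {C D : Over S} (dPr : D ⟶ C) {d : ℕ} {P M : Type u} {_ : CommRing P} {_ : CommRing M}
    {_ : Algebra P M}
    (bas : Module.Basis (Fin d) P M) where
  /-- the open piece -/
  O : C.left.Opens
  /-- the point of the base -/
  κ : ∀ (R : Type u) [CommRing R] (sR : Spec (CommRingCat.of R) ⟶ S), (P →+* R) → (baseO sR ⟶ C)
  /-- the point of the cover -/
  η : ∀ (A : Type u) [CommRing A] (sA : Spec (CommRingCat.of A) ⟶ S), (M →+* A) → (baseO sA ⟶ D)
  range_κ : ∀ (R : Type u) [CommRing R] (sR : Spec (CommRingCat.of R) ⟶ S) φ, Set.range (κ R sR φ).left ⊆ O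
  κ_surj : ∀ (R : Type u) [CommRing R] (sR : Spec (CommRingCat.of R) ⟶ S) (c : baseO sR ⟶ C),
    Set.range c.left ⊆ O → ∃ φ, κ R sR φ = c
  κ_inj : ∀ (R : Type u) [CommRing R] (sR : Spec (CommRingCat.of R) ⟶ S), Function.Injective (κ R sR)
  κ_nat : ∀ (R R' : Type u) [CommRing R] [CommRing R'] (sR : Spec (CommRingCat.of R) ⟶ S)
    (sR' : Spec (CommRingCat.of R') ⟶ S) (g : R →+* R') (f : baseO sR' ⟶ baseO sR),
    f.left = Spec.map (CommRingCat.ofHom g) → ∀ φ : P →+* R, f ≫ κ R sR φ = κ R' sR' (g.comp φ)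
  η_nat : ∀ (A A' : Type u) [CommRing A] [CommRing A'] (sA : Spec (CommRingCat.of A) ⟶ S)
    (sA' : Spec (CommRingCat.of A') ⟶ S) (g : A →+* A') (f : baseO sA' ⟶ baseO sA),
    f.left = Spec.map (CommRingCat.ofHom g) → ∀ Ψ : M →+* A, f ≫ η A sA Ψ = η A' sA' (g.comp Ψ)
  isPullback : ∀ (R : Type u) [CommRing R] (sR : Spec (CommRingCat.of R) ⟶ S) (φ : P →+* R) (A : Type u)
    [CommRing A] [Algebra R A] (b : Module.Basis (Fin d) R A) (Ψ : M →+* A),
    (∀ p, Ψ (algebraMap P M p) = algebraMap R A (φ p)) → (∀ i, Ψ (bas i) = b i) →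
    IsPullback (η A (Spec.map (CommRingCat.ofHom (algebraMap R A)) ≫ sR) Ψ) (tc sR A) dPr (κ R sR φ)

theorem isPushout_of_basis {P M R A : Type u} [CommRing P] [CommRing M] [Algebra P M] [CommRing R] [CommRing A]
    [Algebra R A] {d : ℕ} (bas : Module.Basis (Fin d) P M) (b : Module.Basis (Fin d) R A) (φ : P →+* R) (Ψ : M →+* A)
    (h : ∀ p, Ψ (algebraMap P M p) = algebraMap R A (φ p)) (hb : ∀ i, Ψ (bas i) = b i) :
    IsPushout (CommRingCat.ofHom φ) (CommRingCat.ofHom (algebraMap P M))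
      (CommRingCat.ofHom (algebraMap R A)) (CommRingCat.ofHom Ψ) := by
  letI : Algebra P R := φ.toAlgebra
  letI : Algebra P A := ((algebraMap R A).comp φ).toAlgebra
  haveI : IsScalarTower P R A := IsScalarTower.of_algebraMap_eq fun _ => rfl
  let Ψ' : M →ₐ[P] A := { Ψ with commutes' := h }
  let K : R ⊗[P] M →ₐ[R] A := Algebra.TensorProduct.lift (Algebra.ofId R A) Ψ' fun _ _ => .all _ _
  let bk : Module.Basis (Fin d) R (R ⊗[P] M) := Algebra.TensorProduct.basis R bas
  have hK : K.toLinearMap = (bk.equiv b (Equiv.refl _)).toLinearMap := bk.ext fun i => by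
    rw [AlgHom.toLinearMap_apply, LinearEquiv.coe_coe, Module.Basis.equiv_apply, Equiv.refl_apply,
      show bk i = (1 : R) ⊗ₜ bas i from Algebra.TensorProduct.basis_apply _ _]
    simp only [K, Algebra.TensorProduct.lift_tmul, map_one, one_mul]
    exact hb i
  have hKb : Function.Bijective K := by
    rw [← AlgHom.coe_toLinearMap, hK]
    exact (bk.equiv b (Equiv.refl _)).bijective
  exact IsPushout.of_iso (CommRingCat.isPushout_tensorProduct P R M) (Iso.refl _) (Iso.refl _) (Iso.refl _)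
    (RingEquiv.ofBijective K hKb).toCommRingCatIso
    (CommRingCat.hom_ext (RingHom.ext fun _ => rfl))
    (CommRingCat.hom_ext (RingHom.ext fun _ => rfl))
    (CommRingCat.hom_ext (RingHom.ext fun r => K.commutes r))
    (CommRingCat.hom_ext (RingHom.ext fun x =>
      (Algebra.TensorProduct.lift_tmul (Algebra.ofId R A) Ψ' (fun _ _ => .all _ _) (1 : R) x).trans
        (by rw [map_one, one_mul]; rfl)))

theorem exists_famSys_of (S : Scheme.{u}) (P M : ℕ → Type u) [∀ m, CommRing (P m)] [∀ m, CommRing (M m)]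
    [∀ m, Algebra (P m) (M m)] (bas : ∀ m, Module.Basis (Fin (m + 1)) (P m) (M m))
    [∀ m, Algebra Z₀.{u} (P m)] (hfp : ∀ m, Algebra.FinitePresentation Z₀.{u} (P m)) :
    ∃ (C D : Over S) (dPr : D ⟶ C), LocallyOfFinitePresentation C.hom ∧ IsFinite dPr.left ∧ Flat dPr.left ∧
      LocallyOfFinitePresentation dPr.left ∧ Surjective dPr.left ∧
      ∃ F : ∀ n, FamComp dPr (bas n), ∀ x : C.left, ∃ n, x ∈ (F n).O := by
  let X : ULift.{u} ℕ → Scheme.{u} := fun m => Spec (CommRingCat.of (P m.down))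
  let X' : ULift.{u} ℕ → Scheme.{u} := fun m => Spec (CommRingCat.of (M m.down))
  let dn : ∀ m, X' m ⟶ X m := fun m => Spec.map (CommRingCat.ofHom (algebraMap (P m.down) (M m.down)))
  let aC : ∐ X ⟶ Spec (CommRingCat.of Z₀.{u}) := Sigma.desc fun m => isTerminalZ₀.from (X m)
  let d := Limits.Sigma.map dn
  haveI : LocallyOfFinitePresentation aC := by
    refine IsZariskiLocalAtSource.sigmaDesc (P := @LocallyOfFinitePresentation) fun m => ?_
    rw [isTerminalZ₀.hom_ext (isTerminalZ₀.from (X m))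
      (Spec.map (CommRingCat.ofHom (algebraMap Z₀.{u} (P m.down))))]
    exact HasRingHomProperty.Spec_iff.2 (RingHom.finitePresentation_algebraMap.2 (hfp _))
  have hloc : ∀ (P : MorphismProperty Scheme.{u}) [IsZariskiLocalAtTarget P] [P.RespectsIso],
      (∀ m, P (dn m)) → P d := by
    intro P _ _ hP
    refine IsZariskiLocalAtTarget.of_openCover (P := P) (sigmaOpenCover X) fun m => ?_
    show P (pullback.snd d (Sigma.ι X m))
    rw [← IsPullback.isoPullback_inv_snd (CurveNF.isPullback_sigmaMap dn m).flip]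
    exact (P.cancel_left_of_respectsIso _ _).2 (hP m)
  haveI : IsFinite d := hloc @IsFinite fun m => (specMap_props (bas m.down)).1
  haveI : Flat d := hloc @Flat fun m => (specMap_props (bas m.down)).2.1
  haveI : LocallyOfFinitePresentation d := hloc @LocallyOfFinitePresentation fun m => (specMap_props (bas m.down)).2.2.1
  haveI : Surjective d := hloc @Surjective fun m => (specMap_props (bas m.down)).2.2.2
  let s₀ : S ⟶ Spec (CommRingCat.of Z₀.{u}) := isTerminalZ₀.from S
  let C : Over S := Over.mk (pullback.fst s₀ aC)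
  have hw : pullback.fst s₀ (d ≫ aC) ≫ s₀ = (pullback.snd s₀ (d ≫ aC) ≫ d) ≫ aC := by
    rw [Category.assoc, pullback.condition]
  let D : Over S := Over.mk (pullback.fst s₀ (d ≫ aC))
  let dPr : D ⟶ C := Over.homMk (pullback.lift _ _ hw) (pullback.lift_fst _ _ _)
  have hpb : IsPullback dPr.left (pullback.snd s₀ (d ≫ aC)) (pullback.snd s₀ aC) d :=
    IsPullback.of_right (by
      rw [show dPr.left ≫ pullback.fst s₀ aC = _ from pullback.lift_fst _ _ _]
      exact IsPullback.of_hasPullback s₀ (d ≫ aC))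
      (pullback.lift_snd _ _ _) (IsPullback.of_hasPullback s₀ aC)
  let κ : ∀ (n : ℕ) (R : Type u) [CommRing R] (sR : Spec (CommRingCat.of R) ⟶ S), (P n →+* R) → (baseO sR ⟶ C) :=
    fun n R _ sR φ => Over.homMk (pullback.lift sR (Spec.map (CommRingCat.ofHom φ) ≫ Sigma.ι X ⟨n⟩)
      (isTerminalZ₀.hom_ext _ _)) (pullback.lift_fst _ _ _)
  let η : ∀ (n : ℕ) (A : Type u) [CommRing A] (sA : Spec (CommRingCat.of A) ⟶ S), (M n →+* A) → (baseO sA ⟶ D) :=
    fun n A _ sA Ψ => Over.homMk (pullback.lift sA (Spec.map (CommRingCat.ofHom Ψ) ≫ Sigma.ι X' ⟨n⟩)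
      (isTerminalZ₀.hom_ext _ _)) (pullback.lift_fst _ _ _)
  have hκ : ∀ n (R : Type u) [CommRing R] (sR : Spec (CommRingCat.of R) ⟶ S) (φ : P n →+* R),
      (κ n R sR φ).left ≫ pullback.snd s₀ aC = Spec.map (CommRingCat.ofHom φ) ≫ Sigma.ι X ⟨n⟩ :=
    fun n R _ sR φ => pullback.lift_snd _ _ _
  refine ⟨C, D, dPr, MorphismProperty.pullback_fst _ _ inferInstance,
    MorphismProperty.of_isPullback hpb.flip inferInstance, MorphismProperty.of_isPullback hpb.flip inferInstance,
    MorphismProperty.of_isPullback hpb.flip inferInstance, MorphismProperty.of_isPullback hpb.flip inferInstance,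
    fun n =>
      { O := pullback.snd s₀ aC ⁻¹ᵁ (Sigma.ι X ⟨n⟩).opensRange
        κ := κ n
        η := η n
        range_κ := fun R _ sR φ => by
          rintro _ ⟨y, rfl⟩
          refine ⟨Spec.map (CommRingCat.ofHom φ) y, ?_⟩
          rw [← Scheme.Hom.comp_apply, ← hκ]
          rfl
        κ_surj := fun R _ sR c hc => ?_
        κ_inj := fun R _ sR φ φ' h => ?_
        κ_nat := fun R R' _ _ sR sR' g f hf φ => ?_
        η_nat := fun A A' _ _ sA sA' g f hf Ψ => ?_
        isPullback := fun R _ sR φ A _ _ b Ψ h hb => ?_ }, fun x => ?_⟩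
  · have hr : Set.range (c.left ≫ pullback.snd s₀ aC) ⊆ Set.range (Sigma.ι X ⟨n⟩) := by
      rintro _ ⟨y, rfl⟩
      exact hc ⟨y, rfl⟩
    obtain ⟨χ, hχ⟩ := Spec.map_surjective (R := CommRingCat.of (P n)) (S := CommRingCat.of R)
      (IsOpenImmersion.lift (Sigma.ι X ⟨n⟩) _ hr)
    refine ⟨χ.hom, Over.OverMorphism.ext (pullback.hom_ext ?_ ?_)⟩
    · exact (pullback.lift_fst _ _ _).trans (Over.w c).symm
    · exact (hκ n R sR χ.hom).trans
        ((congrArg (· ≫ Sigma.ι X ⟨n⟩) hχ).trans (IsOpenImmersion.lift_fac _ _ hr))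
  · have h' := congrArg (fun f => f.left ≫ pullback.snd s₀ aC) h
    rw [hκ, hκ, cancel_mono] at h'
    exact congrArg CommRingCat.Hom.hom (Spec.map_injective h')
  · refine Over.OverMorphism.ext (pullback.hom_ext ?_ ?_)
    · exact (Over.w (f ≫ κ n R sR φ)).trans (pullback.lift_fst _ _ _).symm
    · rw [Over.comp_left, Category.assoc, hκ, hκ, hf, ← Category.assoc, ← Spec.map_comp]
      rfl
  · refine Over.OverMorphism.ext (pullback.hom_ext ?_ ?_)
    · exact (Over.w (f ≫ η n A sA Ψ)).trans (pullback.lift_fst _ _ _).symm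
    · rw [Over.comp_left, Category.assoc, show (η n A sA Ψ).left ≫ pullback.snd s₀ (d ≫ aC) = _ from pullback.lift_snd _ _ _,
        show (η n A' sA' (g.comp Ψ)).left ≫ pullback.snd s₀ (d ≫ aC) = _ from pullback.lift_snd _ _ _, hf,
        ← Category.assoc, ← Spec.map_comp]
      rfl
  · have sq₂ : IsPullback (Spec.map (CommRingCat.ofHom Ψ) ≫ Sigma.ι X' ⟨n⟩)
        (Spec.map (CommRingCat.ofHom (algebraMap R A))) d (Spec.map (CommRingCat.ofHom φ) ≫ Sigma.ι X ⟨n⟩) :=
      ((isPullback_SpecMap_of_isPushout _ _ _ _ (isPushout_of_basis (bas n) b φ Ψ h hb)).flip).paste_horiz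
        (CurveNF.isPullback_sigmaMap dn ⟨n⟩).flip
    let sA := Spec.map (CommRingCat.ofHom (algebraMap R A)) ≫ sR
    refine IsPullback.of_map_of_faithful (Over.forget S) ?_
    show IsPullback (η n A sA Ψ).left (tc sR A).left dPr.left (κ n R sR φ).left
    refine IsPullback.of_right ?_ ?_ hpb.flip
    · rw [show (η n A sA Ψ).left ≫ pullback.snd s₀ (d ≫ aC) = _ from pullback.lift_snd _ _ _, hκ]
      exact sq₂
    · refine pullback.hom_ext ?_ ?_
      · show ((η n A sA Ψ).left ≫ dPr.left) ≫ _ = (_ ≫ (κ n R sR φ).left) ≫ _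
        simp [η, κ, dPr, sA]
      · rw [Category.assoc, Category.assoc, hκ,
          show dPr.left ≫ pullback.snd s₀ aC = pullback.snd s₀ (d ≫ aC) ≫ d from pullback.lift_snd _ _ _,
          ← Category.assoc, show (η n A sA Ψ).left ≫ pullback.snd s₀ (d ≫ aC) = _ from pullback.lift_snd _ _ _]
        exact sq₂.w
  · obtain ⟨⟨n⟩, y, hy⟩ := (sigmaOpenCover X).exists_eq (pullback.snd s₀ aC x)
    exact ⟨n, y, hy⟩

/-- the family of all finite free algebras of positive rank, by components -/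
theorem exists_famSys (S : Scheme.{u}) :
    ∃ (C D : Over S) (dPr : D ⟶ C), LocallyOfFinitePresentation C.hom ∧ IsFinite dPr.left ∧ Flat dPr.left ∧
      LocallyOfFinitePresentation dPr.left ∧ Surjective dPr.left ∧
      ∃ F : ∀ n, FamComp dPr (famBasis.{u} (n + 1)), ∀ x : C.left, ∃ n, x ∈ (F n).O :=
  exists_famSys_of S (fun m => FamBase.{u} (m + 1)) (fun m => FamAlg.{u} (m + 1)) (fun m => famBasis (m + 1))
    fun m => famBase_fp (m + 1)

end Groth.Agent.Bootst16

namespace Groth.Agent.Bootst16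

/-- a system of components of all positive ranks -/
abbrev FamSys {S : Scheme.{u}} {C D : Over S} (dPr : D ⟶ C) : Type (u + 1) :=
  ∀ n : ℕ, FamComp dPr (famBasis.{u} (n + 1))

end Groth.Agent.Bootst16
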