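import Mathlib.RingTheory.FinitePresentation
import Mathlib.RingTheory.Etale.Basic
import Mathlib.LinearAlgebra.TensorProduct.Basis
import Mathlib.RingTheory.Smooth.Basic

/-!
# Weil restriction of an algebra of finite presentation along a finite free algebra
-/

universe u

open TensorProduct

set_option linter.style.haveILetI false
set_option backward.isDefEq.respectTransparency.types false

namespace Groth.Agent.Bootst16

variable (A B E : Type u) [CommRing A] [CommRing B] [Algebra A B] [CommRing E] [Algebra B E]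

/-- `θ` exhibits `W` as the Weil restriction of `E` -/
def IsWeil (W : Type u) [CommRing W] [Algebra A W] (θ : E →ₐ[B] B ⊗[A] W) : Prop :=
  ∀ (R : Type u) [CommRing R] [Algebra A R] (φ : E →ₐ[B] B ⊗[A] R),
    ∃! g : W →ₐ[A] R, (Algebra.TensorProduct.map (AlgHom.id B B) g).comp θ = φ

omit [CommRing E] in
theorem map_map {R R' R'' : Type u} [CommRing R] [Algebra A R] [CommRing R'] [Algebra A R'] [CommRing R'']
    [Algebra A R''] (g : R →ₐ[A] R') (h : R' →ₐ[A] R'') (z : B ⊗[A] R) :
    Algebra.TensorProduct.map (AlgHom.id B B) h (Algebra.TensorProduct.map (AlgHom.id B B) g z) =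
      Algebra.TensorProduct.map (AlgHom.id B B) (h.comp g) z := by
  induction z using TensorProduct.induction_on with
  | zero => simp
  | tmul x r => simp
  | add z w hz hw => simp [hz, hw]

theorem exists_factor {R M N T : Type u} [CommRing R] [CommRing M] [CommRing N] [CommRing T] [Algebra R M]
    [Algebra R N] [Algebra R T] (f : M →ₐ[R] N) (hf : Function.Surjective f) (g : M →ₐ[R] T)
    (H : RingHom.ker f.toRingHom ≤ RingHom.ker g.toRingHom) : ∃ θ : N →ₐ[R] T, θ.comp f = g :=
  ⟨AlgHom.liftOfSurjective f hf g H, AlgHom.ext fun q => AlgHom.liftOfSurjective_apply f hf g H q⟩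

set_option maxHeartbeats 200000 in
theorem exists_weil [Module.Free A B] [Module.Finite A B] [Algebra.FinitePresentation B E] :
    ∃ (W : Type u) (_ : CommRing W) (_ : Algebra A W) (θ : E →ₐ[B] B ⊗[A] W),
      Algebra.FinitePresentation A W ∧ IsWeil A B E W θ := by
  classical
  obtain ⟨n, π, hπ, s, hs⟩ := Algebra.FinitePresentation.out (R := B) (A := E)
  let ι := Module.Free.ChooseBasisIndex A B
  let b : Module.Basis ι A B := Module.Free.chooseBasis A B
  let P := MvPolynomial (Fin n × ι) A
  let y : Fin n → B ⊗[A] P := fun k => ∑ i, b i ⊗ₜ MvPolynomial.X (k, i)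
  let Θ : MvPolynomial (Fin n) B →ₐ[B] B ⊗[A] P := MvPolynomial.aeval y
  let I : Ideal P := Ideal.span (Set.range fun t : ↥s × ι =>
    TensorProduct.equivFinsuppOfBasisLeft b (Θ t.1.1) t.2)
  let W := P ⧸ I
  let m : B ⊗[A] P →ₐ[B] B ⊗[A] W := Algebra.TensorProduct.map (AlgHom.id B B) (Ideal.Quotient.mkₐ A I)
  have hnat : ∀ {R R' : Type u} [CommRing R] [Algebra A R] [CommRing R'] [Algebra A R'] (g : R →ₐ[A] R')
      (z : B ⊗[A] R) (i : ι), TensorProduct.equivFinsuppOfBasisLeft b (Algebra.TensorProduct.map (AlgHom.id B B) g z) i =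
        g (TensorProduct.equivFinsuppOfBasisLeft b z i) := by
    intro R R' _ _ _ _ g z i
    induction z using TensorProduct.induction_on with
    | zero => simp
    | tmul x r => simp
    | add z w hz hw => simp [hz, hw]
  obtain ⟨θ, hθ⟩ : ∃ θ : E →ₐ[B] B ⊗[A] W, θ.comp π = m.comp Θ := by
    refine @exists_factor B (MvPolynomial (Fin n) B) E (B ⊗[A] W) _ _ _ _ _ _ _ π hπ (m.comp Θ) ?_
    rw [← hs]
    refine Ideal.span_le.2 fun f hf => ?_
    show (m.comp Θ) f = 0
    refine (TensorProduct.equivFinsuppOfBasisLeft b).injective (Finsupp.ext fun i => ?_)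
    rw [AlgHom.comp_apply, hnat, map_zero, Finsupp.zero_apply]
    exact Ideal.Quotient.eq_zero_iff_mem.2 (Ideal.subset_span ⟨(⟨f, hf⟩, i), rfl⟩)
  refine ⟨W, inferInstance, inferInstance, θ, Algebra.FinitePresentation.quotient ?_, fun R _ _ φ => ?_⟩
  · exact Submodule.fg_span (Set.finite_range _)
  let v : Fin n × ι → R := fun p => TensorProduct.equivFinsuppOfBasisLeft b (φ (π (MvPolynomial.X p.1))) p.2
  have hv : ∀ (g : P →ₐ[A] R), (∀ p, g (MvPolynomial.X p) = v p) →
      (Algebra.TensorProduct.map (AlgHom.id B B) g).comp Θ = φ.comp π := fun g hg =>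
    MvPolynomial.algHom_ext fun k => by
      refine (TensorProduct.equivFinsuppOfBasisLeft b).injective (Finsupp.ext fun i => ?_)
      rw [AlgHom.comp_apply, hnat, show Θ (MvPolynomial.X k) = y k from MvPolynomial.aeval_X _ _]
      simp [y, Finsupp.single_apply, hg, v, AlgHom.comp_apply]
  let g₀ : P →ₐ[A] R := MvPolynomial.aeval v
  have hg₀ : I ≤ RingHom.ker g₀ := Ideal.span_le.2 <| by
    rintro _ ⟨⟨⟨f, hf⟩, i⟩, rfl⟩
    have hf0 : π f = 0 := by
      have : f ∈ RingHom.ker π.toRingHom := hs ▸ Ideal.subset_span hf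
      exact this
    show g₀ _ = 0
    rw [← hnat, ← AlgHom.comp_apply, hv g₀ fun p => MvPolynomial.aeval_X _ _, AlgHom.comp_apply, hf0]
    simp
  let g : W →ₐ[A] R := Ideal.Quotient.liftₐ I g₀ fun a ha => hg₀ ha
  have key : ∀ (g : W →ₐ[A] R) (q : MvPolynomial (Fin n) B),
      (Algebra.TensorProduct.map (AlgHom.id B B) g) (θ (π q)) =
        ((Algebra.TensorProduct.map (AlgHom.id B B) (g.comp (Ideal.Quotient.mkₐ A I))).comp Θ) q := fun g q => by
    rw [← AlgHom.comp_apply θ, hθ, AlgHom.comp_apply, AlgHom.comp_apply]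
    exact map_map A B _ g (Θ q)
  refine ⟨g, AlgHom.ext fun e => ?_, fun g' hg' => Ideal.Quotient.algHom_ext _ (MvPolynomial.algHom_ext fun p => ?_)⟩
  · obtain ⟨q, rfl⟩ := hπ e
    rw [AlgHom.comp_apply, key, hv _ fun p => ?_]
    · rfl
    · show g₀ (MvPolynomial.X p) = v p
      exact MvPolynomial.aeval_X _ _
  · have h := congrArg (fun ψ => ψ (π (MvPolynomial.X p.1))) hg'
    simp only [AlgHom.comp_apply] at h
    rw [key, AlgHom.comp_apply, show Θ (MvPolynomial.X p.1) = y p.1 from MvPolynomial.aeval_X _ _] at h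
    have h2 := congrArg (fun z => TensorProduct.equivFinsuppOfBasisLeft b z p.2) h
    simp only [hnat] at h2
    have h3 : TensorProduct.equivFinsuppOfBasisLeft b (y p.1) p.2 = MvPolynomial.X p := by
      simp [y, Finsupp.single_apply]
    rw [h3] at h2
    rw [AlgHom.comp_apply]
    show _ = g₀ (MvPolynomial.X p)
    rw [show g₀ (MvPolynomial.X p) = v p from MvPolynomial.aeval_X _ _]
    exact h2

variable {A B E}

set_option maxHeartbeats 200000 in
/-- a Weil restriction of an etale algebra is etale -/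
theorem IsWeil.etale [Module.Free A B] [Module.Finite A B] [Algebra.Etale B E] {W : Type u} [CommRing W] [Algebra A W]
    [Algebra.FinitePresentation A W] {θ : E →ₐ[B] B ⊗[A] W} (h : IsWeil A B E W θ) : Algebra.Etale A W := by
  refine ⟨Algebra.FormallyEtale.iff_comp_bijective.2 fun R _ _ J hJ => ?_, inferInstance⟩
  let q : R →ₐ[A] R ⧸ J := Ideal.Quotient.mkₐ A J
  let Q : B ⊗[A] R →ₐ[B] B ⊗[A] (R ⧸ J) := Algebra.TensorProduct.map (AlgHom.id B B) q
  have hq : Function.Surjective q := Ideal.Quotient.mkₐ_surjective A J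
  have hQ : Function.Surjective Q := fun z => by
    induction z using TensorProduct.induction_on with
    | zero => exact ⟨0, map_zero Q⟩
    | tmul x r => obtain ⟨r, rfl⟩ := hq r; exact ⟨x ⊗ₜ r, by simp [Q]⟩
    | add z w hz hw => obtain ⟨z, rfl⟩ := hz; obtain ⟨w, rfl⟩ := hw; exact ⟨z + w, map_add Q z w⟩
  have hK : RingHom.ker Q = J.map Algebra.TensorProduct.includeRight := by
    rw [show RingHom.ker Q = RingHom.ker (Algebra.TensorProduct.map (AlgHom.id A B) q) from rfl,
      Algebra.TensorProduct.lTensor_ker _ hq, show RingHom.ker q = J from Ideal.mk_ker]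
  have hKn : IsNilpotent (RingHom.ker Q) := ⟨2, by rw [hK, ← Ideal.map_pow, hJ]; simp⟩
  constructor
  · intro g g' e
    refine (h R ((Algebra.TensorProduct.map (AlgHom.id B B) g).comp θ)).unique rfl ?_
    refine Algebra.FormallyUnramified.ext' (f := Q.toRingHom) hKn _ _ fun x => ?_
    show Algebra.TensorProduct.map (AlgHom.id B B) q _ = Algebra.TensorProduct.map (AlgHom.id B B) q _
    rw [AlgHom.comp_apply, AlgHom.comp_apply, map_map, map_map, show q.comp g' = q.comp g from e.symm]
  · intro f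
    let φ : E →ₐ[B] B ⊗[A] (R ⧸ J) := (Algebra.TensorProduct.map (AlgHom.id B B) f).comp θ
    let ψ := Algebra.FormallySmooth.liftOfSurjective φ Q hQ hKn
    obtain ⟨g, hg, -⟩ := h R ψ
    refine ⟨g, (h (R ⧸ J) φ).unique ?_ rfl⟩
    refine AlgHom.ext fun x => ?_
    show Algebra.TensorProduct.map (AlgHom.id B B) (q.comp g) (θ x) = φ x
    rw [← map_map A B g q, show Algebra.TensorProduct.map (AlgHom.id B B) g (θ x) = ψ x from congrArg (fun f => f x) hg]
    exact Algebra.FormallySmooth.liftOfSurjective_apply φ Q hQ hKn x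

end Groth.Agent.Bootst16
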