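import Groth.Agent.Lib.Bootst16.Res
import Groth.Agent.Lib.Bootst16.AffIso
import Groth.Agent.Lib.Bootst16.WeilAlg
import Mathlib.AlgebraicGeometry.Pullbacks
import Mathlib.AlgebraicGeometry.Morphisms.Etale

/-!
# Sheaves of sections of affine schemes along finite free covers
-/

universe u

open CategoryTheory CategoryTheory.Limits AlgebraicGeometry Opposite TensorProduct

set_option linter.style.haveILetI false
set_option linter.unusedSectionVars false
set_option backward.isDefEq.respectTransparency false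
set_option backward.isDefEq.respectTransparency.types false

namespace Groth.Agent.Bootst16

open AlgSp Groth.Agent.ChartLift16

variable {S : Scheme.{u}} {A : Type u} [CommRing A] (sA : Spec (CommRingCat.of A) ⟶ S)

/-- the base -/
noncomputable abbrev baseO : Over S := Over.mk sA

/-- an affine scheme over the base -/
noncomputable abbrev tO (R : Type u) [CommRing R] [Algebra A R] : Over S :=
  Over.mk (Spec.map (CommRingCat.ofHom (algebraMap A R)) ≫ sA)

/-- its structure map -/
noncomputable abbrev tc (R : Type u) [CommRing R] [Algebra A R] : tO sA R ⟶ baseO sA :=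
  Over.homMk (Spec.map (CommRingCat.ofHom (algebraMap A R))) rfl

/-- the map of a homomorphism -/
noncomputable def tmap {R R' : Type u} [CommRing R] [Algebra A R] [CommRing R'] [Algebra A R'] (φ : R →ₐ[A] R') :
    tO sA R' ⟶ tO sA R :=
  Over.homMk (Spec.map (CommRingCat.ofHom φ.toRingHom)) (by
    show Spec.map _ ≫ Spec.map _ ≫ sA = Spec.map _ ≫ sA
    rw [← Category.assoc, ← Spec.map_comp, ← CommRingCat.ofHom_comp, show φ.toRingHom.comp (algebraMap A R) = algebraMap A R' from φ.comp_algebraMap])

@[simp]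
theorem tmap_left {R R' : Type u} [CommRing R] [Algebra A R] [CommRing R'] [Algebra A R'] (φ : R →ₐ[A] R') :
    (tmap sA φ).left = Spec.map (CommRingCat.ofHom φ.toRingHom) := rfl

theorem tmap_tc {R R' : Type u} [CommRing R] [Algebra A R] [CommRing R'] [Algebra A R'] (φ : R →ₐ[A] R') :
    tmap sA φ ≫ tc sA R = tc sA R' := by
  apply Over.OverMorphism.ext
  show Spec.map _ ≫ Spec.map _ = Spec.map _
  rw [← Spec.map_comp, ← CommRingCat.ofHom_comp, show φ.toRingHom.comp (algebraMap A R) = algebraMap A R' from φ.comp_algebraMap]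

theorem tmap_comp {R R' R'' : Type u} [CommRing R] [Algebra A R] [CommRing R'] [Algebra A R'] [CommRing R'']
    [Algebra A R''] (φ : R →ₐ[A] R') (ψ : R' →ₐ[A] R'') : tmap sA ψ ≫ tmap sA φ = tmap sA (ψ.comp φ) := by
  apply Over.OverMorphism.ext
  show Spec.map _ ≫ Spec.map _ = Spec.map _
  rw [← Spec.map_comp]
  rfl

theorem tmap_injective {R R' : Type u} [CommRing R] [Algebra A R] [CommRing R'] [Algebra A R']
    {φ φ' : R →ₐ[A] R'} (h : tmap sA φ = tmap sA φ') : φ = φ' :=
  AlgHom.ext fun x => congrArg (fun f => f.hom x) (Spec.map_injective (congrArg CommaMorphism.left h))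

theorem exists_tmap {R R' : Type u} [CommRing R] [Algebra A R] [CommRing R'] [Algebra A R']
    (m : tO sA R' ⟶ tO sA R) (hm : m ≫ tc sA R = tc sA R') : ∃ φ : R →ₐ[A] R', tmap sA φ = m := by
  obtain ⟨χ, hχ⟩ := Spec.map_surjective (R := CommRingCat.of R) (S := CommRingCat.of R') m.left
  have h : CommRingCat.ofHom (algebraMap A R) ≫ χ = CommRingCat.ofHom (algebraMap A R') := by
    apply Spec.map_injective
    rw [Spec.map_comp, hχ]
    exact congrArg CommaMorphism.left hm
  refine ⟨{ χ.hom with commutes' := fun a => congrArg (fun f => f.hom a) h }, ?_⟩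
  apply Over.OverMorphism.ext
  exact hχ

variable (B : Type u) [CommRing B] [Algebra A B]

theorem isPullback_tensor (R : Type u) [CommRing R] [Algebra A R] :
    IsPullback (tmap sA (Algebra.TensorProduct.includeRight : R →ₐ[A] B ⊗[A] R))
      (tmap sA (Algebra.TensorProduct.includeLeft : B →ₐ[A] B ⊗[A] R)) (tc sA R) (tc sA B) :=
  IsPullback.of_map_of_faithful (Over.forget S)
    (isPullback_SpecMap_of_isPushout _ _ _ _ (CommRingCat.isPushout_tensorProduct A B R)).flip

/-- the pulled back cover of an affine scheme -/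
noncomputable def pR (R : Type u) [CommRing R] [Algebra A R] :
    tO sA (B ⊗[A] R) ≅ dObj (tc sA B) (tc sA R) :=
  (isPullback_tensor sA B R).isoPullback

theorem pR_hom_fst (R : Type u) [CommRing R] [Algebra A R] :
    (pR sA B R).hom ≫ pullback.fst _ _ = tmap sA (Algebra.TensorProduct.includeRight : R →ₐ[A] B ⊗[A] R) :=
  IsPullback.isoPullback_hom_fst _

theorem pR_hom_snd (R : Type u) [CommRing R] [Algebra A R] :
    (pR sA B R).hom ≫ pullback.snd _ _ = tmap sA (Algebra.TensorProduct.includeLeft : B →ₐ[A] B ⊗[A] R) :=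
  IsPullback.isoPullback_hom_snd _

variable {B} (E : Type u) [CommRing E] [Algebra B E] [Algebra A E] [IsScalarTower A B E]

/-- the structure map of an affine scheme over the cover -/
noncomputable abbrev tv : tO sA E ⟶ tO sA B := tmap sA (IsScalarTower.toAlgHom A B E)

variable {E} {R : Type u} [CommRing R] [Algebra A R]

/-- the section of a homomorphism -/
noncomputable def secOf (φ : E →ₐ[B] B ⊗[A] R) : RSec (tc sA B) ((yon S).map (tv sA E)) (tO sA R) where
  c := tc sA R
  l := (yon S).map ((pR sA B R).inv ≫ tmap sA (φ.restrictScalars A))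
  hl := by
    rw [← Functor.map_comp]
    congr 1
    rw [Category.assoc, Iso.inv_comp_eq, pR_hom_snd, tmap_comp]
    congr 1
    exact AlgHom.ext fun x => φ.commutes x

theorem secOf_injective {φ φ' : E →ₐ[B] B ⊗[A] R} (h : secOf sA φ = secOf sA φ') : φ = φ' := by
  have e := RSec.mk_inj h
  have e2 := tmap_injective sA ((cancel_epi (pR sA B R).inv).1 ((yon S).map_injective e))
  exact AlgHom.ext fun x => congrArg (fun f => f x) e2

theorem exists_secOf (s : RSec (tc sA B) ((yon S).map (tv sA E)) (tO sA R)) (hc : s.c = tc sA R) :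
    ∃ φ : E →ₐ[B] B ⊗[A] R, secOf sA φ = s := by
  obtain ⟨c, l, hl⟩ := s
  subst hc
  obtain ⟨m, rfl⟩ := (yon S).map_surjective l
  rw [← Functor.map_comp] at hl
  have hm : m ≫ tv sA E = pullback.snd _ _ := (yon S).map_injective hl
  have hm' : ((pR sA B R).hom ≫ m) ≫ tc sA E = tc sA (B ⊗[A] R) := by
    rw [← tmap_tc sA (IsScalarTower.toAlgHom A B E), Category.assoc, ← Category.assoc m, hm, ← Category.assoc,
      pR_hom_snd, tmap_tc]
  obtain ⟨ψ, hψ⟩ := exists_tmap sA _ hm'
  have h2 : ψ.comp (IsScalarTower.toAlgHom A B E) = Algebra.TensorProduct.includeLeft := by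
    apply tmap_injective sA
    rw [← tmap_comp, hψ, Category.assoc, hm, pR_hom_snd]
  refine ⟨{ ψ.toRingHom with commutes' := fun b => congrArg (fun f => f b) h2 }, ?_⟩
  refine RSec.mk_congr ?_
  congr 1
  rw [Iso.inv_comp_eq, ← hψ]
  rfl

theorem pR_dmap {R' : Type u} [CommRing R'] [Algebra A R'] (g : R →ₐ[A] R') :
    (pR sA B R').hom ≫ dmap (tmap sA g) (tmap_tc sA g) =
      tmap sA (Algebra.TensorProduct.map (AlgHom.id A B) g) ≫ (pR sA B R).hom := by
  apply pullback.hom_ext
  · rw [Category.assoc, Category.assoc, dmap_fst, ← Category.assoc, pR_hom_fst, pR_hom_fst, tmap_comp, tmap_comp]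
    congr 1
  · rw [Category.assoc, Category.assoc, dmap_snd, pR_hom_snd, pR_hom_snd, tmap_comp]
    congr 1
    exact AlgHom.ext fun x => by simp

theorem res_secOf {R' : Type u} [CommRing R'] [Algebra A R'] (g : R →ₐ[A] R') (φ : E →ₐ[B] B ⊗[A] R) :
    RSec.res _ _ (tmap sA g) (secOf sA φ) = secOf sA ((Algebra.TensorProduct.map (AlgHom.id B B) g).comp φ) := by
  refine RSec.ext' (by rw [Category.id_comp]; exact tmap_tc sA g) ?_
  show (yon S).map _ ≫ (yon S).map _ ≫ (yon S).map _ = (yon S).map _
  rw [← Functor.map_comp, ← Functor.map_comp]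
  congr 1
  have e : ((Algebra.TensorProduct.map (AlgHom.id B B) g).comp φ).restrictScalars A =
      (Algebra.TensorProduct.map (AlgHom.id A B) g).comp (φ.restrictScalars A) :=
    AlgHom.ext fun x => rfl
  rw [e, ← tmap_comp, Iso.eq_inv_comp, ← Category.assoc, ← Category.assoc]
  refine Eq.trans (congrArg (fun k => k ≫ (pR sA B R).inv ≫ tmap sA (φ.restrictScalars A)) ?_)
    ((Category.assoc _ _ _).trans (congrArg (tmap sA _ ≫ ·) (Iso.hom_inv_id_assoc _ _)))
  rw [← pR_dmap, Category.assoc]
  congr 1
  apply pullback.hom_ext <;> simp [secOf]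

variable (E) in
/-- sections of an affine scheme along a finite free cover form an affine scheme -/
theorem exists_resSp_affine [Module.Free A B] [Module.Finite A B] [Algebra.FinitePresentation B E] :
    ∃ (W : Over S) (w : W ⟶ baseO sA) (i : (yon S).obj W ≅ resSp (tc sA B) ((yon S).map (tv (B := B) sA E))),
      IsAffine W.left ∧ LocallyOfFinitePresentation w.left ∧ (Etale (tv (B := B) sA E).left → Etale w.left) ∧
      i.hom ≫ resπ _ _ = (yon S).map w := by
  obtain ⟨W, _, _, θ, hW, hWeil⟩ := exists_weil A B E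
  let f := (secOf sA θ).toHom
  have hf : f ≫ resπ _ _ = (yon S).map (tc sA W) := RSec.toHom_π _
  have key : ∀ (R : Type u) [CommRing R] [Algebra A R] (s : RSec (tc sA B) ((yon S).map (tv (B := B) sA E)) (tO sA R)),
      s.c = tc sA R → ∃! z : (yon S).obj (tO sA R) ⟶ (yon S).obj (tO sA W), z ≫ f = s.toHom := by
    intro R _ _ s hs
    obtain ⟨φ, rfl⟩ := exists_secOf sA s hs
    obtain ⟨g, hg, hgu⟩ := hWeil R φ
    refine ⟨(yon S).map (tmap sA g), ?_, fun z hz => ?_⟩
    · show _ ≫ RSec.toHom _ = _
      rw [RSec.map_toHom, res_secOf, hg]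
    · obtain ⟨m, rfl⟩ := (yon S).map_surjective z
      have hm : m ≫ tc sA W = tc sA R := (yon S).map_injective (by
        rw [Functor.map_comp, ← hf, ← Category.assoc, hz, RSec.toHom_π]
        rfl)
      obtain ⟨g', rfl⟩ := exists_tmap sA m hm
      simp only [f] at hz
      rw [RSec.map_toHom, res_secOf] at hz
      rw [hgu g' (secOf_injective sA (RSec.toHom_injective hz))]
  haveI : IsIso f := isIso_of_bijective_affine f fun T _ t => by
    obtain ⟨s, rfl⟩ := RSec.exists_toHom t
    let a : CommRingCat.of A ⟶ Γ(T.left, ⊤) := Spec.preimage (T.left.isoSpec.inv ≫ s.c.left)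
    letI : Algebra A Γ(T.left, ⊤) := a.hom.toAlgebra
    have ha : Spec.map (CommRingCat.ofHom (algebraMap A Γ(T.left, ⊤))) = T.left.isoSpec.inv ≫ s.c.left :=
      Spec.map_preimage _
    let j : tO sA Γ(T.left, ⊤) ⟶ T := Over.homMk T.left.isoSpec.inv (by
      show _ = Spec.map _ ≫ sA
      rw [ha, Category.assoc]
      exact congrArg (T.left.isoSpec.inv ≫ ·) (Over.w s.c).symm)
    haveI : IsIso j.left := inferInstanceAs (IsIso T.left.isoSpec.inv)
    haveI : IsIso ((Over.forget S).map j) := inferInstanceAs (IsIso T.left.isoSpec.inv)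
    haveI : IsIso j := isIso_of_reflects_iso j (Over.forget S)
    obtain ⟨z, hz, hzu⟩ := key Γ(T.left, ⊤) (RSec.res _ _ j s) (Over.OverMorphism.ext ha.symm)
    rw [← RSec.map_toHom] at hz
    refine ⟨inv ((yon S).map j) ≫ z, ?_, fun z' hz' => ?_⟩
    · show _ ≫ f = _
      rw [Category.assoc, hz, IsIso.inv_hom_id_assoc]
    · rw [IsIso.eq_inv_comp]
      exact hzu _ ((Category.assoc _ _ _).trans ((congrArg ((yon S).map j ≫ ·) hz').trans (RSec.map_toHom j s)))
  refine ⟨tO sA W, tc sA W, asIso f, inferInstanceAs (IsAffine (Spec (CommRingCat.of W))), ?_, fun he => ?_, hf⟩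
  · exact HasRingHomProperty.Spec_iff.2 (RingHom.finitePresentation_algebraMap.2 hW)
  · have h1 : RingHom.Etale (algebraMap B E) := HasRingHomProperty.Spec_iff.1 he
    haveI : Algebra.Etale B E := RingHom.etale_algebraMap.1 h1
    exact HasRingHomProperty.Spec_iff.2 (RingHom.etale_algebraMap.2 hWeil.etale)

end Groth.Agent.Bootst16
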