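import Groth.Agent.Lib.Bootst16.AlgFam
import Groth.Agent.Lib.Bootst16.ResAffine
import Groth.Agent.Lib.CurveNF.SigmaProper
import Mathlib.AlgebraicGeometry.Morphisms.Finite
import Mathlib.RingTheory.Finiteness.ModuleFinitePresentation
import Mathlib.RingTheory.Flat.FaithfullyFlat.Algebra

/-!
# The family of all finite free algebras with a basis
-/

universe u

open CategoryTheory CategoryTheory.Limits AlgebraicGeometry TensorProduct

set_option linter.style.haveILetI false
set_option linter.unusedSectionVars false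
set_option backward.isDefEq.respectTransparency false
set_option backward.isDefEq.respectTransparency.types false

namespace Groth.Agent.Bootst16

/-- the terminal scheme -/
noncomputable def isTerminalZ₀ : IsTerminal (Spec (CommRingCat.of Z₀.{u})) := specULiftZIsTerminal.{u}

theorem specMap_props {P M : Type u} [CommRing P] [CommRing M] [Algebra P M] {n : ℕ}
    (b : Module.Basis (Fin (n + 1)) P M) :
    IsFinite (Spec.map (CommRingCat.ofHom (algebraMap P M))) ∧ Flat (Spec.map (CommRingCat.ofHom (algebraMap P M))) ∧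
    LocallyOfFinitePresentation (Spec.map (CommRingCat.ofHom (algebraMap P M))) ∧
      Surjective (Spec.map (CommRingCat.ofHom (algebraMap P M))) := by
  haveI : Module.Free P M := Module.Free.of_basis b
  haveI : Module.Finite P M := Module.Finite.of_basis b
  haveI : Module.FinitePresentation P M := Module.finitePresentation_of_projective P M
  refine ⟨(IsFinite.SpecMap_iff _).2 (RingHom.finite_algebraMap.2 inferInstance),
    HasRingHomProperty.Spec_iff.2 (RingHom.flat_algebraMap_iff.2 inferInstance),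
    HasRingHomProperty.Spec_iff.2 (RingHom.finitePresentation_algebraMap.2 inferInstance), ⟨fun x => ?_⟩⟩
  haveI : Nontrivial P := PrimeSpectrum.nonempty_iff_nontrivial.1 ⟨x⟩
  haveI : Nontrivial M := ⟨⟨b 0, 0, b.ne_zero 0⟩⟩
  exact PrimeSpectrum.comap_surjective_of_faithfullyFlat (A := P) (B := M) x

theorem exists_family_of (S : Scheme.{u}) (P M : ℕ → Type u) [∀ m, CommRing (P m)] [∀ m, CommRing (M m)]
    [∀ m, Algebra (P m) (M m)] (bas : ∀ m, Module.Basis (Fin (m + 1)) (P m) (M m))
    [∀ m, Algebra Z₀.{u} (P m)] (hfp : ∀ m, Algebra.FinitePresentation Z₀.{u} (P m))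
    (hcl : ∀ (n : ℕ) (R A : Type u) [CommRing R] [CommRing A] [Algebra R A] (_ : Module.Basis (Fin (n + 1)) R A),
      ∃ c₀ : P n →+* R, letI := c₀.toAlgebra; Nonempty (R ⊗[P n] M n ≃ₐ[R] A)) :
    ∃ (C D : Over S) (dPr : D ⟶ C), LocallyOfFinitePresentation C.hom ∧ IsFinite dPr.left ∧ Flat dPr.left ∧
      LocallyOfFinitePresentation dPr.left ∧ Surjective dPr.left ∧
      ∀ (R : Type u) [CommRing R] (sR : Spec (CommRingCat.of R) ⟶ S) (A : Type u) [CommRing A] [Algebra R A]
        (n : ℕ) (_ : Module.Basis (Fin (n + 1)) R A),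
        ∃ (c : baseO sR ⟶ C) (h : tO sR A ⟶ D), IsPullback h (tc sR A) dPr c := by
  let X : ULift.{u} ℕ → Scheme.{u} := fun m => Spec (CommRingCat.of (P m.down))
  let X' : ULift.{u} ℕ → Scheme.{u} := fun m => Spec (CommRingCat.of (M m.down))
  let dn : ∀ m, X' m ⟶ X m := fun m => Spec.map (CommRingCat.ofHom (algebraMap (P m.down) (M m.down)))
  let aC : ∐ X ⟶ Spec (CommRingCat.of Z₀.{u}) := Sigma.desc fun m => isTerminalZ₀.from (X m)
  let d := Limits.Sigma.map dn
  haveI : LocallyOfFinitePresentation aC := by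
    refine IsZariskiLocalAtSource.sigmaDesc (P := @LocallyOfFinitePresentation) fun m => ?_
    rw [isTerminalZ₀.hom_ext (isTerminalZ₀.from (X m))
      (Spec.map (CommRingCat.ofHom (algebraMap Z₀.{u} (P m.down))))]
    exact HasRingHomProperty.Spec_iff.2 (RingHom.finitePresentation_algebraMap.2 (hfp _))
  have hloc : ∀ (P : MorphismProperty Scheme.{u}) [IsZariskiLocalAtTarget P] [P.RespectsIso],
      (∀ m, P (dn m)) → P d := by
    intro P _ _ hP
    refine IsZariskiLocalAtTarget.of_openCover (P := P) (sigmaOpenCover X) fun m => ?_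
    show P (pullback.snd d (Sigma.ι X m))
    rw [← IsPullback.isoPullback_inv_snd (CurveNF.isPullback_sigmaMap dn m).flip]
    exact (P.cancel_left_of_respectsIso _ _).2 (hP m)
  haveI : IsFinite d := hloc @IsFinite fun m => (specMap_props (bas m.down)).1
  haveI : Flat d := hloc @Flat fun m => (specMap_props (bas m.down)).2.1
  haveI : LocallyOfFinitePresentation d := hloc @LocallyOfFinitePresentation fun m => (specMap_props (bas m.down)).2.2.1
  haveI : Surjective d := hloc @Surjective fun m => (specMap_props (bas m.down)).2.2.2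
  let s₀ : S ⟶ Spec (CommRingCat.of Z₀.{u}) := isTerminalZ₀.from S
  let C : Over S := Over.mk (pullback.fst s₀ aC)
  have hw : pullback.fst s₀ (d ≫ aC) ≫ s₀ = (pullback.snd s₀ (d ≫ aC) ≫ d) ≫ aC := by
    rw [Category.assoc, pullback.condition]
  let D : Over S := Over.mk (pullback.fst s₀ (d ≫ aC))
  let dPr : D ⟶ C := Over.homMk (pullback.lift _ _ hw) (pullback.lift_fst _ _ _)
  have hpb : IsPullback dPr.left (pullback.snd s₀ (d ≫ aC)) (pullback.snd s₀ aC) d :=
    IsPullback.of_right (by
      rw [show dPr.left ≫ pullback.fst s₀ aC = _ from pullback.lift_fst _ _ _]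
      exact IsPullback.of_hasPullback s₀ (d ≫ aC))
      (pullback.lift_snd _ _ _) (IsPullback.of_hasPullback s₀ aC)
  refine ⟨C, D, dPr, MorphismProperty.pullback_fst _ _ inferInstance,
    MorphismProperty.of_isPullback hpb.flip inferInstance, MorphismProperty.of_isPullback hpb.flip inferInstance,
    MorphismProperty.of_isPullback hpb.flip inferInstance, MorphismProperty.of_isPullback hpb.flip inferInstance,
    fun R _ sR A _ _ n b => ?_⟩
  obtain ⟨c₀, ⟨e⟩⟩ := hcl n R A b
  let m : ULift.{u} ℕ := ⟨n⟩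
  letI := c₀.toAlgebra
  let γ : M n →+* A :=
    e.toRingEquiv.toRingHom.comp (Algebra.TensorProduct.includeRight : M n →ₐ[P n]
      R ⊗[P n] M n).toRingHom
  have po : IsPushout (CommRingCat.ofHom c₀) (CommRingCat.ofHom (algebraMap (P n) (M n)))
      (CommRingCat.ofHom (algebraMap R A)) (CommRingCat.ofHom γ) :=
    IsPushout.of_iso (CommRingCat.isPushout_tensorProduct (P n) R (M n))
      (Iso.refl _) (Iso.refl _) (Iso.refl _) e.toRingEquiv.toCommRingCatIso
      (CommRingCat.hom_ext (RingHom.ext fun _ => rfl))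
      (CommRingCat.hom_ext (RingHom.ext fun _ => rfl))
      (CommRingCat.hom_ext (RingHom.ext fun r => e.commutes r))
      (CommRingCat.hom_ext (RingHom.ext fun _ => rfl))
  have sq₂ : IsPullback (Spec.map (CommRingCat.ofHom γ) ≫ Sigma.ι X' m)
      (Spec.map (CommRingCat.ofHom (algebraMap R A))) d (Spec.map (CommRingCat.ofHom c₀) ≫ Sigma.ι X m) :=
    ((isPullback_SpecMap_of_isPushout _ _ _ _ po).flip).paste_horiz (CurveNF.isPullback_sigmaMap dn m).flip
  let c : baseO sR ⟶ C := Over.homMk (pullback.lift sR (Spec.map (CommRingCat.ofHom c₀) ≫ Sigma.ι X m)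
    (isTerminalZ₀.hom_ext _ _)) (pullback.lift_fst _ _ _)
  let h : tO sR A ⟶ D := Over.homMk (pullback.lift (Spec.map (CommRingCat.ofHom (algebraMap R A)) ≫ sR)
    (Spec.map (CommRingCat.ofHom γ) ≫ Sigma.ι X' m) (isTerminalZ₀.hom_ext _ _)) (pullback.lift_fst _ _ _)
  refine ⟨c, h, IsPullback.of_map_of_faithful (Over.forget S) ?_⟩
  show IsPullback h.left (tc sR A).left dPr.left c.left
  refine IsPullback.of_right ?_ ?_ hpb.flip
  · rw [show h.left ≫ pullback.snd s₀ (d ≫ aC) = _ from pullback.lift_snd _ _ _,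
      show c.left ≫ pullback.snd s₀ aC = _ from pullback.lift_snd _ _ _]
    exact sq₂
  · refine pullback.hom_ext ?_ ?_
    · show (h.left ≫ dPr.left) ≫ _ = (_ ≫ c.left) ≫ _
      simp [h, c, dPr]
    · show (h.left ≫ dPr.left) ≫ _ = (_ ≫ c.left) ≫ _
      simp only [Category.assoc]
      rw [show dPr.left ≫ pullback.snd s₀ aC = pullback.snd s₀ (d ≫ aC) ≫ d from pullback.lift_snd _ _ _,
        show c.left ≫ pullback.snd s₀ aC = _ from pullback.lift_snd _ _ _,
        ← Category.assoc, show h.left ≫ pullback.snd s₀ (d ≫ aC) = _ from pullback.lift_snd _ _ _]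
      exact sq₂.w

/-- A finite locally free surjective map over the base whose pullbacks include every finite free algebra of
positive rank. -/
theorem exists_free_family (S : Scheme.{u}) :
    ∃ (C D : Over S) (dPr : D ⟶ C), LocallyOfFinitePresentation C.hom ∧ IsFinite dPr.left ∧ Flat dPr.left ∧
      LocallyOfFinitePresentation dPr.left ∧ Surjective dPr.left ∧
      ∀ (R : Type u) [CommRing R] (sR : Spec (CommRingCat.of R) ⟶ S) (A : Type u) [CommRing A] [Algebra R A]
        (n : ℕ) (_ : Module.Basis (Fin (n + 1)) R A),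
        ∃ (c : baseO sR ⟶ C) (h : tO sR A ⟶ D), IsPullback h (tc sR A) dPr c :=
  exists_family_of S (fun m => FamBase.{u} (m + 1)) (fun m => FamAlg.{u} (m + 1)) (fun m => famBasis (m + 1))
    (fun m => famBase_fp (m + 1)) fun n R A _ _ _ b => by
      obtain ⟨c₀, e, -⟩ := exists_classify (n + 1) R A b
      exact ⟨c₀, ⟨e⟩⟩

end Groth.Agent.Bootst16
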