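import Mathlib.AlgebraicGeometry.Morphisms.Finite
import Mathlib.AlgebraicGeometry.Morphisms.Flat
import Mathlib.AlgebraicGeometry.Morphisms.FinitePresentation
import Mathlib.AlgebraicGeometry.Pullbacks
import Mathlib.RingTheory.Spectrum.Prime.FreeLocus
import Mathlib.RingTheory.Localization.BaseChange
import Mathlib.RingTheory.Finiteness.ModuleFinitePresentation

/-!
# Finite flat morphisms of finite presentation are locally free
-/

universe u

open CategoryTheory CategoryTheory.Limits AlgebraicGeometry TensorProduct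

set_option linter.style.haveILetI false
set_option backward.isDefEq.respectTransparency false
set_option backward.isDefEq.respectTransparency.types false

namespace Groth.Agent.Bootst16

theorem exists_free_away {R M : Type u} [CommRing R] [AddCommGroup M] [Module R M] [Module.FinitePresentation R M]
    [Module.Flat R M] (p : PrimeSpectrum R) :
    ∃ r, r ∉ p.asIdeal ∧ Module.Free (Localization.Away r) (Localization.Away r ⊗[R] M) := by
  haveI : Module.Free (Localization.AtPrime p.asIdeal) (LocalizedModule p.asIdeal.primeCompl M) :=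
    Module.mem_freeLocus.1 (Module.freeLocus_eq_univ (R := R) (M := M) ▸ Set.mem_univ p)
  obtain ⟨r, hr, hfree, -⟩ := Module.FinitePresentation.exists_free_localizedModule_powers
    p.asIdeal.primeCompl (LocalizedModule.mkLinearMap p.asIdeal.primeCompl M) (Localization.AtPrime p.asIdeal)
  refine ⟨r, hr, ?_⟩
  haveI := hfree
  exact Module.Free.of_equiv (IsLocalizedModule.isBaseChange (Submonoid.powers r) (Localization.Away r)
    (LocalizedModule.mkLinearMap (Submonoid.powers r) M)).equiv.symm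

theorem exists_free_nbhd_of_affine {U C D : Scheme.{u}} [IsAffine U] (j₁ : U ⟶ C) [IsOpenImmersion j₁] (d : D ⟶ C) [IsFinite d] [Flat d] [LocallyOfFinitePresentation d]
    (y : U) : ∃ (A B : Type u) (_ : CommRing A) (_ : CommRing B) (_ : Algebra A B)
      (j : Spec (CommRingCat.of A) ⟶ C) (h : Spec (CommRingCat.of B) ⟶ D),
      IsOpenImmersion j ∧ j₁ y ∈ Set.range j ∧ Module.Free A B ∧ Module.Finite A B ∧
        IsPullback h (Spec.map (CommRingCat.ofHom (algebraMap A B))) d j := by
  let j₀ : Spec Γ(U, ⊤) ⟶ C := U.isoSpec.inv ≫ j₁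
  haveI : IsFinite (pullback.snd d j₀) := MorphismProperty.pullback_snd _ _ inferInstance
  haveI : IsAffine (pullback d j₀) := isAffine_of_isAffineHom (pullback.snd d j₀)
  let P := pullback d j₀
  let φ : Γ(U, ⊤) ⟶ Γ(P, ⊤) := Spec.preimage (P.isoSpec.inv ≫ pullback.snd d j₀)
  have hφ : Spec.map φ = P.isoSpec.inv ≫ pullback.snd d j₀ := Spec.map_preimage _
  letI : Algebra Γ(U, ⊤) Γ(P, ⊤) := φ.hom.toAlgebra
  have h1 : IsFinite (Spec.map φ) := by rw [hφ]; infer_instance
  have h2 : Flat (Spec.map φ) := by rw [hφ]; infer_instance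
  have h3 : LocallyOfFinitePresentation (Spec.map φ) := by rw [hφ]; infer_instance
  haveI : Module.Finite Γ(U, ⊤) Γ(P, ⊤) := RingHom.finite_algebraMap.1 ((IsFinite.SpecMap_iff φ).1 h1)
  haveI : Module.Flat Γ(U, ⊤) Γ(P, ⊤) := RingHom.flat_algebraMap_iff.1 (HasRingHomProperty.Spec_iff.1 h2)
  haveI : Algebra.FinitePresentation Γ(U, ⊤) Γ(P, ⊤) :=
    RingHom.finitePresentation_algebraMap.1 (HasRingHomProperty.Spec_iff.1 h3)
  haveI : Module.FinitePresentation Γ(U, ⊤) Γ(P, ⊤) := Module.FinitePresentation.of_finite_of_finitePresentation _ _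
  obtain ⟨r, hr, hfree⟩ := exists_free_away (M := Γ(P, ⊤)) (U.isoSpec.hom y)
  let A := Localization.Away r
  let ι : Spec (CommRingCat.of A) ⟶ Spec Γ(U, ⊤) := Spec.map (CommRingCat.ofHom (algebraMap Γ(U, ⊤) A))
  have hιo : IsOpenImmersion ι := IsOpenImmersion.of_isLocalization r
  refine ⟨A, A ⊗[Γ(U, ⊤)] Γ(P, ⊤), inferInstance, inferInstance, inferInstance, ι ≫ j₀,
    Spec.map (CommRingCat.ofHom (Algebra.TensorProduct.includeRight : Γ(P, ⊤) →ₐ[Γ(U, ⊤)] A ⊗[Γ(U, ⊤)] Γ(P, ⊤)).toRingHom) ≫
      P.isoSpec.inv ≫ pullback.fst d j₀, inferInstance, ?_, hfree, inferInstance, ?_⟩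
  · have hy : U.isoSpec.hom y ∈ Set.range (PrimeSpectrum.comap (algebraMap Γ(U, ⊤) A)) := by
      rw [PrimeSpectrum.localization_away_comap_range A r]
      exact hr
    obtain ⟨z, hz⟩ := hy
    refine ⟨z, ?_⟩
    show j₁ (U.isoSpec.inv (ι z)) = j₁ y
    rw [show ι z = U.isoSpec.hom y from hz, ← Scheme.Hom.comp_apply U.isoSpec.hom, Iso.hom_inv_id]
    rfl
  · have s1 : IsPullback (P.isoSpec.inv ≫ pullback.fst d j₀) (Spec.map φ) d j₀ :=
      IsPullback.of_iso (IsPullback.of_hasPullback d j₀) P.isoSpec (Iso.refl _) (Iso.refl _) (Iso.refl _)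
        (by simp) (by rw [hφ]; simp) (by simp) (by simp)
    have s2 := (isPullback_SpecMap_of_isPushout _ _ _ _
      (CommRingCat.isPushout_tensorProduct Γ(U, ⊤) A Γ(P, ⊤))).flip
    exact s2.paste_horiz s1

/-- locally on the target a finite flat morphism of finite presentation is given by a finite free algebra -/
theorem exists_free_nbhd {C D : Scheme.{u}} (d : D ⟶ C) [IsFinite d] [Flat d] [LocallyOfFinitePresentation d]
    (x : C) : ∃ (A B : Type u) (_ : CommRing A) (_ : CommRing B) (_ : Algebra A B)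
      (j : Spec (CommRingCat.of A) ⟶ C) (h : Spec (CommRingCat.of B) ⟶ D),
      IsOpenImmersion j ∧ x ∈ Set.range j ∧ Module.Free A B ∧ Module.Finite A B ∧
        IsPullback h (Spec.map (CommRingCat.ofHom (algebraMap A B))) d j := by
  obtain ⟨i, y, rfl⟩ := C.affineCover.exists_eq x
  exact exists_free_nbhd_of_affine (C.affineCover.f i) d y

end Groth.Agent.Bootst16
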