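import Mathlib.AlgebraicGeometry.Morphisms.Etale
import Mathlib.AlgebraicGeometry.Morphisms.UniversallyOpen
import Mathlib.AlgebraicGeometry.Morphisms.Finite
import Mathlib.AlgebraicGeometry.Limits
import Mathlib.RingTheory.Etale.Basic
import Mathlib.RingTheory.Smooth.Basic
import Mathlib.RingTheory.Jacobson.Ring
import Mathlib.RingTheory.Artinian.Module
import Mathlib.RingTheory.Artinian.Ring
import Mathlib.RingTheory.Spectrum.Prime.Topology
import Mathlib.FieldTheory.IsAlgClosed.Basic

/-!
# Etale surjective algebras over finite algebras over algebraically closed fields have sections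
-/

universe u

open CategoryTheory CategoryTheory.Limits AlgebraicGeometry

set_option linter.style.haveILetI false
set_option backward.isDefEq.respectTransparency false
set_option backward.isDefEq.respectTransparency.types false

namespace Groth.Agent.Bootst16

theorem exists_residual_section {k B E : Type u} [Field k] [IsAlgClosed k] [CommRing B] [Algebra k B]
    [Module.Finite k B] [CommRing E] [Algebra B E] [Algebra.FiniteType B E]
    (hs : Function.Surjective (PrimeSpectrum.comap (algebraMap B E))) (m : Ideal B) [m.IsMaximal] :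
    Nonempty (E →ₐ[B] B ⧸ m) := by
  classical
  obtain ⟨q, hq⟩ := hs ⟨m, inferInstance⟩
  obtain ⟨q', hq', hle⟩ := Ideal.exists_le_maximal q.asIdeal q.2.ne_top
  haveI := hq'
  have hm : m ≤ q'.comap (algebraMap B E) :=
    le_trans (congrArg PrimeSpectrum.asIdeal hq).ge (Ideal.comap_mono hle)
  letI : Field (E ⧸ q') := Ideal.Quotient.field q'
  letI : Field (B ⧸ m) := Ideal.Quotient.field m
  letI : Algebra k E := ((algebraMap B E).comp (algebraMap k B)).toAlgebra
  haveI : IsScalarTower k B E := IsScalarTower.of_algebraMap_eq fun _ => rfl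
  haveI : Algebra.FiniteType k E := Algebra.FiniteType.trans (inferInstance : Algebra.FiniteType k B) ‹_›
  haveI : Module.Finite k (E ⧸ q') := finite_of_finite_type_of_isJacobsonRing k (E ⧸ q')
  have hK := IsAlgClosed.algebraMap_bijective_of_isIntegral (k := k) (K := E ⧸ q')
  have hR := IsAlgClosed.algebraMap_bijective_of_isIntegral (k := k) (K := B ⧸ m)
  let e : k ≃+* E ⧸ q' := RingEquiv.ofBijective _ hK
  let φ : E →+* B ⧸ m := ((algebraMap k (B ⧸ m)).comp e.symm.toRingHom).comp (Ideal.Quotient.mk q')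
  refine ⟨{ φ with commutes' := fun b => ?_ }⟩
  obtain ⟨c, hc⟩ := hR.2 (Ideal.Quotient.mk m b)
  have hbc : algebraMap k B c - b ∈ m := Ideal.Quotient.eq.1 hc
  have h1 : algebraMap k (E ⧸ q') c = Ideal.Quotient.mk q' (algebraMap B E b) := by
    refine (Ideal.Quotient.eq.2 ?_)
    show algebraMap B E (algebraMap k B c) - algebraMap B E b ∈ q'
    rw [← map_sub]
    exact hm hbc
  show algebraMap k (B ⧸ m) (e.symm (Ideal.Quotient.mk q' (algebraMap B E b))) = Ideal.Quotient.mk m b
  rw [← h1, show e.symm (algebraMap k (E ⧸ q') c) = c from e.symm_apply_apply c, hc]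

/-- etale surjective algebras over finite algebras over algebraically closed fields have sections -/
theorem exists_section_geom {k B E : Type u} [Field k] [IsAlgClosed k] [CommRing B] [Algebra k B]
    [Module.Finite k B] [CommRing E] [Algebra B E] [Algebra.Etale B E]
    (hs : Function.Surjective (PrimeSpectrum.comap (algebraMap B E))) : Nonempty (E →ₐ[B] B) := by
  classical
  haveI : IsArtinianRing B := IsArtinianRing.of_finite k B
  let φ := fun I : MaximalSpectrum B => (exists_residual_section (k := k) (E := E) hs I.asIdeal).some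
  let ψ : E →ₐ[B] ∀ I : MaximalSpectrum B, B ⧸ I.asIdeal := Pi.algHom B _ φ
  let π : B →ₐ[B] ∀ I : MaximalSpectrum B, B ⧸ I.asIdeal :=
    (IsArtinianRing.quotNilradicalEquivPi B).toAlgHom.comp (Ideal.Quotient.mkₐ B (nilradical B))
  have hπ : Function.Surjective π :=
    (IsArtinianRing.quotNilradicalEquivPi B).surjective.comp (Ideal.Quotient.mkₐ_surjective B _)
  have hker : IsNilpotent (RingHom.ker π.toRingHom) := by
    have : RingHom.ker π.toRingHom = nilradical B := by
      ext x
      simp only [RingHom.mem_ker]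
      show IsArtinianRing.quotNilradicalEquivPi B (Ideal.Quotient.mk (nilradical B) x) = 0 ↔ _
      rw [map_eq_zero_iff _ (IsArtinianRing.quotNilradicalEquivPi B).injective, Ideal.Quotient.eq_zero_iff_mem]
    rw [this]
    exact IsArtinianRing.isNilpotent_nilradical
  exact ⟨Algebra.FormallySmooth.liftOfSurjective ψ π hπ hker⟩

theorem exists_section_affine {k : Type u} [Field k] [IsAlgClosed k] {D W : Scheme.{u}} [IsAffine D] [IsAffine W]
    (π : D ⟶ Spec (CommRingCat.of k)) [IsFinite π] (r : W ⟶ D) [Etale r] [Surjective r] :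
    ∃ σ : D ⟶ W, σ ≫ r = 𝟙 D := by
  let φ : CommRingCat.of k ⟶ Γ(D, ⊤) := Spec.preimage (D.isoSpec.inv ≫ π)
  let ψ : Γ(D, ⊤) ⟶ Γ(W, ⊤) := r.appTop
  have hφ : Spec.map φ = D.isoSpec.inv ≫ π := Spec.map_preimage _
  have hψ : Spec.map ψ = W.isoSpec.inv ≫ r ≫ D.isoSpec.hom := by
    rw [← Scheme.isoSpec_hom_naturality, Iso.inv_hom_id_assoc]
  letI : Algebra k Γ(D, ⊤) := φ.hom.toAlgebra
  letI : Algebra Γ(D, ⊤) Γ(W, ⊤) := ψ.hom.toAlgebra
  have h1 : IsFinite (Spec.map φ) := by rw [hφ]; infer_instance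
  have h2 : Etale (Spec.map ψ) := by rw [hψ]; infer_instance
  have h3 : Surjective (Spec.map ψ) := by rw [hψ]; infer_instance
  haveI : Module.Finite k Γ(D, ⊤) := RingHom.finite_algebraMap.1 ((IsFinite.SpecMap_iff φ).1 h1)
  haveI : Algebra.Etale Γ(D, ⊤) Γ(W, ⊤) := RingHom.etale_algebraMap.1 (HasRingHomProperty.Spec_iff.1 h2)
  obtain ⟨s⟩ := exists_section_geom (k := k) (B := Γ(D, ⊤)) (E := Γ(W, ⊤)) h3.surj
  refine ⟨D.isoSpec.hom ≫ Spec.map (CommRingCat.ofHom s.toRingHom) ≫ W.isoSpec.inv, ?_⟩
  have e : Spec.map (CommRingCat.ofHom s.toRingHom) ≫ Spec.map ψ = 𝟙 _ := by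
    rw [← Spec.map_comp, ← Spec.map_id]
    congr 1
    exact CommRingCat.hom_ext (RingHom.ext s.commutes)
  rw [hψ] at e
  rw [← cancel_mono D.isoSpec.hom, Category.id_comp, Category.assoc, Category.assoc, Category.assoc, e]
  exact Category.comp_id _

/-- etale surjective maps to finite schemes over algebraically closed fields have sections -/
theorem exists_section_scheme {k : Type u} [Field k] [IsAlgClosed k] {D W : Scheme.{u}}
    (π : D ⟶ Spec (CommRingCat.of k)) [IsFinite π] (r : W ⟶ D) [Etale r] [Surjective r] :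
    ∃ σ : D ⟶ W, σ ≫ r = 𝟙 D := by
  haveI : IsAffine D := isAffine_of_isAffineHom π
  have hU : ∀ x : D, ∃ (i : W.affineCover.I₀) (y : W.affineCover.X i), r (W.affineCover.f i y) = x := fun x => by
    obtain ⟨w, rfl⟩ := r.surjective x
    obtain ⟨i, y, rfl⟩ := W.affineCover.exists_eq w
    exact ⟨i, y, rfl⟩
  choose i y hy using hU
  obtain ⟨t, ht⟩ := isCompact_univ.elim_finite_subcover
    (fun x : D => Set.range (W.affineCover.f (i x) ≫ r))
    (fun x => (W.affineCover.f (i x) ≫ r).isOpenMap.isOpen_range)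
    (fun x _ => Set.mem_iUnion.2 ⟨x, y x, hy x⟩)
  let q : (∐ fun z : t => W.affineCover.X (i z.1)) ⟶ W := Sigma.desc fun z => W.affineCover.f (i z.1)
  haveI : Etale q := IsZariskiLocalAtSource.sigmaDesc fun z => inferInstance
  haveI : Surjective (q ≫ r) := ⟨fun x => by
    obtain ⟨z, hz, w, hw⟩ := Set.mem_iUnion₂.1 (ht (Set.mem_univ x))
    refine ⟨Sigma.ι (fun z : t => W.affineCover.X (i z.1)) ⟨z, hz⟩ w, ?_⟩
    rw [← Scheme.Hom.comp_apply, Sigma.ι_desc_assoc]
    exact hw⟩
  haveI : IsAffine (∐ fun z : t => W.affineCover.X (i z.1)) := inferInstance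
  obtain ⟨σ, hσ⟩ := exists_section_affine π (q ≫ r)
  exact ⟨σ ≫ q, by rw [Category.assoc, hσ]⟩

end Groth.Agent.Bootst16
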