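import Groth.Agent.Lib.Slice4.Regular
import Mathlib.RingTheory.LocalRing.Module
import Mathlib.RingTheory.Nakayama
import Mathlib.RingTheory.TensorProduct.Basic

/-!
# Lifting finite free quotients cut out by fibrewise regular sequences along square-zero extensions
-/

universe u

open TensorProduct

set_option linter.style.haveILetI false
set_option backward.isDefEq.respectTransparency.types false

namespace Groth.Agent.Bootst16

theorem fibReg_comap {R C K Cb : Type u} [CommRing R] [CommRing C] [Algebra R C] [CommRing K] [CommRing Cb]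
    [Algebra K Cb] (π : C →+* Cb) (hπ : Function.Surjective π) (m : Ideal Cb) [m.IsPrime]
    (hker : RingHom.ker π = ((m.comap π).comap (algebraMap R C)).map (algebraMap R C))
    (hbot : (m.comap (algebraMap K Cb)).map (algebraMap K Cb) = ⊥) (fs : List C)
    (h : KoszulFibre4.FibReg m K (fs.map π)) : KoszulFibre4.FibReg (m.comap π) R fs := by
  intro j hj a t ht hmem
  have hj' : j < (fs.map π).length := by simpa using hj
  have e : ∀ x, x ∈ ((m.comap π).comap (algebraMap R C)).map (algebraMap R C) ⊔ Ideal.ofList (fs.take j) ↔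
      π x ∈ (m.comap (algebraMap K Cb)).map (algebraMap K Cb) ⊔ Ideal.ofList ((fs.map π).take j) := fun x => by
    rw [← hker, hbot, bot_sup_eq, ← List.map_take, ← Ideal.map_ofList, ← Ideal.mem_comap,
      Ideal.comap_map_of_surjective π hπ, ← RingHom.ker_eq_comap_bot, sup_comm]
  obtain ⟨s, hs, hsa⟩ := h j hj' (π a) (π t) ht (by
    rw [List.getElem_map, ← map_mul, ← map_mul]
    exact (e _).1 hmem)
  obtain ⟨s, rfl⟩ := hπ s
  exact ⟨s, hs, (e _).2 (by rwa [map_mul])⟩

/-- surjectivity onto a finite algebra is checked modulo the maximal ideal -/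
theorem surjective_of_residual {B' B C' A : Type u} [CommRing B'] [CommRing B] [IsLocalRing B] [CommRing C']
    [Algebra B' C'] [CommRing A] [Algebra B A] [Module.Finite B A] (π : B' →+* B) (hπ : Function.Surjective π)
    (σ : C' →+* A) (hσr : ∀ r, σ (algebraMap B' C' r) = algebraMap B A (π r))
    (hsurj : ∀ a : A, ∃ c, a - σ c ∈ (IsLocalRing.maximalIdeal B).map (algebraMap B A)) : Function.Surjective σ := by
  let N : Submodule B A :=
    { carrier := Set.range σ
      zero_mem' := ⟨0, map_zero σ⟩
      add_mem' := by rintro _ _ ⟨x, rfl⟩ ⟨y, rfl⟩; exact ⟨x + y, map_add σ x y⟩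
      smul_mem' := by
        rintro r _ ⟨x, rfl⟩
        obtain ⟨r, rfl⟩ := hπ r
        exact ⟨algebraMap B' C' r * x, by rw [map_mul, hσr, Algebra.smul_def]⟩ }
  have hN : (⊤ : Submodule B A) ≤ N := by
    refine Submodule.le_of_le_smul_of_le_jacobson_bot (I := IsLocalRing.maximalIdeal B) Module.Finite.fg_top
      (IsLocalRing.maximalIdeal_le_jacobson _) fun a _ => ?_
    obtain ⟨c, hc⟩ := hsurj a
    rw [← sub_add_cancel a (σ c), add_comm]
    refine Submodule.add_mem_sup ⟨c, rfl⟩ ?_
    rwa [Ideal.smul_top_eq_map, Submodule.restrictScalars_mem]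
  exact fun a => hN trivial

/-- A finite free quotient of a flat algebra cut out on the closed fibre by a regular sequence lifts along square
zero extensions of local rings. -/
theorem exists_lift_slice {B' B k C' A Cb : Type u} [CommRing B'] [CommRing B] [IsLocalRing B] [Field k]
    [CommRing C'] [Algebra B' C'] [Algebra.FinitePresentation B' C'] [Module.Flat B' C'] [CommRing A] [Algebra B A]
    [CommRing Cb] [Algebra k Cb] (π : B' →+* B) (hπ : Function.Surjective π) (hI : (RingHom.ker π) ^ 2 = ⊥)
    (ρ : B →+* k) (hρ : RingHom.ker ρ = IsLocalRing.maximalIdeal B) {d : ℕ} (b : Module.Basis (Fin d) B A)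
    (σ : C' →+* A) (hσ : σ.comp (algebraMap B' C') = (algebraMap B A).comp π)
    (πb : C' →+* Cb) (hπb : Function.Surjective πb)
    (hker : RingHom.ker πb = (RingHom.ker (ρ.comp π)).map (algebraMap B' C'))
    (hcomp : πb.comp (algebraMap B' C') = (algebraMap k Cb).comp (ρ.comp π))
    (hsurj : ∀ a : A, ∃ c, a - σ c ∈ (IsLocalRing.maximalIdeal B).map (algebraMap B A))
    (fs : List C') (h : C') (m : Ideal Cb) [m.IsPrime]
    (h₂ : ∀ f ∈ fs, σ f = 0) (hh : IsUnit (σ h))
    (h₃ : ∀ c, σ c ∈ (IsLocalRing.maximalIdeal B).map (algebraMap B A) → ∃ n, πb (h ^ n * c) ∈ Ideal.ofList (fs.map πb))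
    (h₄ : KoszulFibre4.FibReg m k (fs.map πb))
    (h₅ : ∀ P : Ideal A, P.IsMaximal → P.comap σ = m.comap πb) (h₆ : Ideal.ofList (fs.map πb) ≤ m) :
    ∃ (A' : Type u) (_ : CommRing A') (_ : Algebra B' A') (b' : Module.Basis (Fin d) B' A') (σ' : C' →ₐ[B'] A')
      (pA : A' →+* A), (∀ r, pA (algebraMap B' A' r) = algebraMap B A (π r)) ∧ (∀ i, pA (b' i) = b i) ∧
        ∀ c, pA (σ' c) = σ c := by
  classical
  let I := RingHom.ker π
  let mA := (IsLocalRing.maximalIdeal B).map (algebraMap B A)
  haveI : Module.Finite B A := Module.Finite.of_basis b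
  haveI : Module.Free B A := Module.Free.of_basis b
  letI : Algebra B' A := ((algebraMap B A).comp π).toAlgebra
  have hmem_m : ∀ r : B', r ∈ RingHom.ker (ρ.comp π) ↔ π r ∈ IsLocalRing.maximalIdeal B := fun r => by
    rw [← hρ, RingHom.mem_ker, RingHom.mem_ker, RingHom.comp_apply]
  have hσr : ∀ r, σ (algebraMap B' C' r) = algebraMap B A (π r) := fun r => congrArg (fun f => f r) hσ
  -- `σ` is surjective
  have hσs : Function.Surjective σ := surjective_of_residual π hπ σ hσr hsurj
  let σₐ : C' →ₐ[B'] A := ⟨σ, hσr⟩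
  -- the kernel of `σ`
  let J : Ideal C' := RingHom.ker σ
  let Fs : Ideal C' := Ideal.ofList fs
  let IC : Ideal C' := I.map (algebraMap B' C')
  have hFJ : Fs ≤ J := Ideal.span_le.2 fun f hf => h₂ f hf
  have hICJ : IC ≤ J := Ideal.map_le_iff_le_comap.2 fun r hr => by
    rw [Ideal.mem_comap]
    show σ (algebraMap B' C' r) = 0
    rw [hσr, RingHom.mem_ker.1 hr, map_zero]
  choose sec hsec using fun a => hσs a
  choose pπ hpπ using hπ
  let bb : Fin d → C' := fun i => sec (b i)
  let lin : A → C' := fun a => ∑ i, algebraMap B' C' (pπ (b.repr a i)) * bb i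
  have hlin : ∀ a, σ (lin a) = a := fun a => by
    simp only [lin, map_sum, map_mul, hσr, hpπ, bb, hsec]
    refine Eq.trans (Finset.sum_congr rfl fun i _ => ?_) (b.sum_repr a)
    rw [Algebra.smul_def]
  have haddI : ∀ a a', lin (a + a') - (lin a + lin a') ∈ IC := fun a a' => by
    simp only [lin, ← Finset.sum_add_distrib, ← Finset.sum_sub_distrib, ← add_mul, ← sub_mul, ← map_add, ← map_sub]
    refine Ideal.sum_mem _ fun i _ => IC.mul_mem_right _ (Ideal.mem_map_of_mem _ ?_)
    show π _ = 0
    simp [hpπ]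
  have hsmulI : ∀ (r : B') a, lin (algebraMap B A (π r) * a) - algebraMap B' C' r * lin a ∈ IC := fun r a => by
    simp only [lin, Finset.mul_sum, ← Finset.sum_sub_distrib, ← mul_assoc, ← map_mul, ← sub_mul, ← map_sub]
    refine Ideal.sum_mem _ fun i _ => IC.mul_mem_right _ (Ideal.mem_map_of_mem _ ?_)
    show π _ = 0
    simp [hpπ, ← Algebra.smul_def]
  have h0I : lin 0 ∈ IC := by
    refine Ideal.sum_mem _ fun i _ => IC.mul_mem_right _ (Ideal.mem_map_of_mem _ ?_)
    show π _ = 0
    simp [hpπ]
  have hJfg : ∃ s : Finset C', J = IC ⊔ Ideal.span (s : Set C') := by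
    haveI hfp : Algebra.FiniteType B' C' := inferInstance
    obtain ⟨G, hG⟩ := hfp.out
    let rel : Set C' := {(1 : C') - lin 1} ∪ (Set.range fun t : (G : Set C') => (t : C') - lin (σ t)) ∪
      Set.range fun t : Fin d × Fin d => bb t.1 * bb t.2 - lin (b t.1 * b t.2)
    have hrel : rel.Finite := ((Set.finite_singleton _).union (Set.finite_range _)).union (Set.finite_range _)
    refine ⟨hrel.toFinset, le_antisymm ?_ (sup_le hICJ (Ideal.span_le.2 ?_))⟩
    · let L : Ideal C' := IC ⊔ Ideal.span rel
      rw [Set.Finite.coe_toFinset]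
      show J ≤ L
      have hadd : ∀ a a', lin (a + a') - (lin a + lin a') ∈ L := fun a a' => Ideal.mem_sup_left (haddI a a')
      have hsmul : ∀ (r : B') a, lin (algebraMap B A (π r) * a) - algebraMap B' C' r * lin a ∈ L :=
        fun r a => Ideal.mem_sup_left (hsmulI r a)
      have h0 : lin 0 ∈ L := Ideal.mem_sup_left h0I
      have hmul : ∀ i a, lin (b i * a) - bb i * lin a ∈ L := fun i a => by
        have hs : ∀ t : Finset (Fin d), lin (b i * ∑ j ∈ t, b.repr a j • b j) -
            bb i * ∑ j ∈ t, algebraMap B' C' (pπ (b.repr a j)) * bb j ∈ L := by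
          intro t
          induction t using Finset.induction with
          | empty => simpa using h0
          | insert j t hj ih =>
            rw [Finset.sum_insert hj, Finset.sum_insert hj, mul_add, mul_add]
            have e1 := hadd (b i * b.repr a j • b j) (b i * ∑ x ∈ t, b.repr a x • b x)
            have e2 : lin (b i * b.repr a j • b j) - bb i * (algebraMap B' C' (pπ (b.repr a j)) * bb j) ∈ L := by
              have e3 := hsmul (pπ (b.repr a j)) (b i * b j)
              rw [hpπ, ← Algebra.smul_def, ← mul_smul_comm] at e3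
              have e4 : bb i * bb j - lin (b i * b j) ∈ L := Ideal.mem_sup_right (Ideal.subset_span (Or.inr ⟨(i, j), rfl⟩))
              convert L.sub_mem e3 (L.mul_mem_left (algebraMap B' C' (pπ (b.repr a j))) e4) using 1
              ring
            convert L.add_mem (L.add_mem e1 e2) ih using 1
            ring
        simpa [b.sum_repr, lin] using hs Finset.univ
      have key : ∀ c, c - lin (σ c) ∈ L := by
        intro c
        have hc : c ∈ Algebra.adjoin B' (G : Set C') := hG ▸ Algebra.mem_top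
        induction hc using Algebra.adjoin_induction with
        | mem x hx => exact Ideal.mem_sup_right (Ideal.subset_span (Or.inl (Or.inr ⟨⟨x, hx⟩, rfl⟩)))
        | algebraMap r =>
          have e1 := hsmul r 1
          rw [mul_one] at e1
          have e2 : (1 : C') - lin 1 ∈ L := Ideal.mem_sup_right (Ideal.subset_span (Or.inl (Or.inl rfl)))
          rw [hσr]
          convert L.sub_mem (L.mul_mem_left (algebraMap B' C' r) e2) e1 using 1
          ring
        | add x y _ _ hx hy =>
          rw [map_add]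
          convert L.sub_mem (L.add_mem hx hy) (hadd (σ x) (σ y)) using 1
          ring
        | mul x y _ _ hx hy =>
          rw [map_mul]
          have e1 : lin (σ x * σ y) - lin (σ x) * lin (σ y) ∈ L := by
            have hs : ∀ t : Finset (Fin d), lin ((∑ i ∈ t, b.repr (σ x) i • b i) * σ y) -
                (∑ i ∈ t, algebraMap B' C' (pπ (b.repr (σ x) i)) * bb i) * lin (σ y) ∈ L := by
              intro t
              induction t using Finset.induction with
              | empty => simpa using h0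
              | insert i t hi ih =>
                rw [Finset.sum_insert hi, Finset.sum_insert hi, add_mul, add_mul]
                have e2 := hadd (b.repr (σ x) i • b i * σ y) ((∑ j ∈ t, b.repr (σ x) j • b j) * σ y)
                have e3 := hsmul (pπ (b.repr (σ x) i)) (b i * σ y)
                rw [hpπ, ← Algebra.smul_def, ← smul_mul_assoc] at e3
                have e4 := L.mul_mem_left (algebraMap B' C' (pπ (b.repr (σ x) i))) (hmul i (σ y))
                convert L.add_mem (L.add_mem e2 (L.add_mem e3 e4)) ih using 1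
                ring
            simpa [b.sum_repr, lin] using hs Finset.univ
          convert L.sub_mem (L.add_mem (L.mul_mem_right y hx) (L.mul_mem_left (lin (σ x)) hy)) e1 using 1
          ring
      intro c hc
      have := key c
      rw [RingHom.mem_ker.1 hc] at this
      exact (Submodule.sub_mem_iff_left _ h0).1 this
    · intro z hz
      rw [Set.Finite.coe_toFinset] at hz
      show σ z = 0
      rcases hz with (rfl | ⟨t, rfl⟩) | ⟨t, rfl⟩ <;> simp [hlin, hsec, bb]
  obtain ⟨s, hs⟩ := hJfg
  have hπs : Function.Surjective π := fun y => ⟨pπ y, hpπ y⟩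
  have hnil : ∀ r ∈ I, r * r = 0 := fun r hr => by
    have h1 : r * r ∈ I ^ 2 := by rw [pow_two]; exact Ideal.mul_mem_mul hr hr
    rwa [show I ^ 2 = ⊥ from hI, Ideal.mem_bot] at h1
  have hunit : ∀ r, IsUnit (π r) → IsUnit r := fun r hr => by
    obtain ⟨v, hv⟩ := hr.exists_right_inv
    have h1 : r * pπ v - 1 ∈ I := by
      rw [RingHom.mem_ker, map_sub, map_mul, hpπ, hv, map_one, sub_self]
    exact IsUnit.of_mul_eq_one (pπ v * (1 - (r * pπ v - 1))) (by linear_combination -(hnil _ h1))
  haveI : Nontrivial B' := π.domain_nontrivial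
  haveI : IsLocalRing B' := IsLocalRing.of_isUnit_or_isUnit_one_sub_self fun r =>
    (IsLocalRing.isUnit_or_isUnit_one_sub_self (π r)).imp (hunit r) fun h' => hunit _ (by rwa [map_sub, map_one])
  have hmax : IsLocalRing.maximalIdeal B' = RingHom.ker (ρ.comp π) := by
    ext r
    rw [hmem_m, IsLocalRing.mem_maximalIdeal, IsLocalRing.mem_maximalIdeal, mem_nonunits_iff, mem_nonunits_iff]
    exact not_congr ⟨fun h' => h'.map π, hunit r⟩
  let mC : Ideal C' := (IsLocalRing.maximalIdeal B').map (algebraMap B' C')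
  have hmC : RingHom.ker πb = mC := by rw [hker, ← hmax]
  -- Nakayama for the kernel
  let Q : Ideal C' := Fs ⊔ IC
  have hQJ : Q ≤ J := sup_le hFJ hICJ
  let N : Ideal C' := Q ⊔ J * J
  have hNJ : N ≤ J := sup_le hQJ Ideal.mul_le_left
  have hsJ : ∀ j ∈ s, j ∈ J := fun j hj => by rw [hs]; exact Ideal.mem_sup_right (Ideal.subset_span hj)
  let G₀ : Submodule B' C' := Submodule.span B' (Set.range fun t : Fin d × (s : Set C') => bb t.1 * t.2)
  have hG₀ : G₀.FG := Submodule.fg_span (Set.finite_range _)
  have hG₀J : ∀ y ∈ G₀, y ∈ J := fun y hy => by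
    refine Submodule.span_induction ?_ J.zero_mem (fun _ _ _ _ => J.add_mem) (fun r x _ hx => ?_) hy
    · rintro _ ⟨t, rfl⟩
      exact J.mul_mem_left _ (hsJ _ t.2.2)
    · rw [Algebra.smul_def]
      exact J.mul_mem_left _ hx
  have hJG : ∀ y ∈ J, ∃ g ∈ G₀, y - g ∈ N := by
    intro y hy
    rw [hs] at hy
    obtain ⟨i, hi, z, hz, rfl⟩ := Submodule.mem_sup.1 hy
    have key : ∀ c, ∀ j ∈ s, ∃ g ∈ G₀, c * j - g ∈ N := fun c j hj => by
      refine ⟨∑ k, algebraMap B' C' (pπ (b.repr (σ c) k)) * (bb k * j), Submodule.sum_mem _ fun k _ => ?_, ?_⟩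
      · rw [← Algebra.smul_def]
        exact Submodule.smul_mem _ _ (Submodule.subset_span ⟨(k, ⟨j, hj⟩), rfl⟩)
      · rw [show c * j - _ = (c - lin (σ c)) * j by simp only [lin, sub_mul, Finset.sum_mul, mul_assoc]]
        exact Ideal.mem_sup_right (Ideal.mul_mem_mul (by rw [RingHom.mem_ker, map_sub, hlin, sub_self]) (hsJ j hj))
    suffices h' : ∀ c, ∃ g ∈ G₀, c * z - g ∈ N by
      obtain ⟨g, hg, hgz⟩ := h' 1
      rw [one_mul] at hgz
      exact ⟨g, hg, by rw [add_sub_assoc]; exact N.add_mem (Ideal.mem_sup_left (Ideal.mem_sup_right hi)) hgz⟩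
    refine Submodule.span_induction (fun j hj c => key c j hj) (fun c => ⟨0, G₀.zero_mem, by simp⟩)
      (fun x y _ _ hx hy c => ?_) (fun r x _ hx c => ?_) hz
    · obtain ⟨g, hg, hgx⟩ := hx c
      obtain ⟨g', hg', hgy⟩ := hy c
      exact ⟨g + g', G₀.add_mem hg hg', by
        rw [show c * (x + y) - (g + g') = (c * x - g) + (c * y - g') by ring]; exact N.add_mem hgx hgy⟩
    · rw [smul_eq_mul, show c * (r * x) = c * r * x by ring]
      exact hx (c * r)
  have hJN : J ≤ N := by
    -- elements of `J` are killed modulo `N` up to the maximal ideal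
    have hP : ∀ z ∈ mC, z - lin (σ z) ∈ IC ⊔ mC * J := by
      intro z hz
      have hz' : z ∈ (IsLocalRing.maximalIdeal B' • ⊤ : Submodule B' C') := by
        rw [Ideal.smul_top_eq_map, Submodule.restrictScalars_mem]; exact hz
      refine Submodule.smul_induction_on hz' (fun r hr c _ => ?_) fun x y hx hy => ?_
      · rw [Algebra.smul_def, map_mul, hσr]
        have h1 : algebraMap B' C' r * (c - lin (σ c)) ∈ mC * J :=
          Ideal.mul_mem_mul (Ideal.mem_map_of_mem _ hr) (by rw [RingHom.mem_ker, map_sub, hlin, sub_self])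
        convert (IC ⊔ mC * J).sub_mem (Ideal.mem_sup_right h1) (Ideal.mem_sup_left (hsmulI r (σ c))) using 1
        ring
      · rw [map_add]
        convert (IC ⊔ mC * J).sub_mem ((IC ⊔ mC * J).add_mem hx hy) (Ideal.mem_sup_left (haddI (σ x) (σ y))) using 1
        ring
    have hJm : J ≤ N ⊔ mC * J := by
      intro y hy
      obtain ⟨n, hn⟩ := h₃ y (by rw [RingHom.mem_ker.1 hy]; exact Ideal.zero_mem _)
      rw [← Ideal.map_ofList, ← Ideal.mem_comap, Ideal.comap_map_of_surjective πb hπb, ← RingHom.ker_eq_comap_bot,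
        hmC] at hn
      obtain ⟨f, hf, z, hz, hfz⟩ := Submodule.mem_sup.1 hn
      have hzJ : σ z = 0 := by
        have h1 : σ (f + z) = 0 := by rw [hfz, map_mul, RingHom.mem_ker.1 hy, mul_zero]
        rwa [map_add, RingHom.mem_ker.1 (hFJ hf), zero_add] at h1
      have hzm : z ∈ N ⊔ mC * J := by
        have h1 := hP z hz
        rw [hzJ] at h1
        have h2 : IC ⊔ mC * J ≤ N ⊔ mC * J := sup_le_sup_right (le_sup_right.trans le_sup_left) _
        have h3 := (N ⊔ mC * J).add_mem (h2 h1) (h2 (Ideal.mem_sup_left h0I))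
        rwa [sub_add_cancel] at h3
      obtain ⟨v, hv⟩ := (hh.pow n).exists_right_inv
      have hw : 1 - h ^ n * sec v ∈ J := by
        rw [RingHom.mem_ker, map_sub, map_one, map_mul, map_pow, hsec, hv, sub_self]
      have h4 : h ^ n * y ∈ N ⊔ mC * J := by
        rw [← hfz]
        exact add_mem (Ideal.mem_sup_left (Ideal.mem_sup_left (Ideal.mem_sup_left hf))) hzm
      rw [show y = (1 - h ^ n * sec v) * y + h ^ n * y * sec v by ring]
      exact add_mem (Ideal.mem_sup_left (Ideal.mem_sup_right (Ideal.mul_mem_mul hw hy))) (Ideal.mul_mem_right _ _ h4)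
    have hG : G₀ ≤ N.restrictScalars B' ⊔ IsLocalRing.maximalIdeal B' • G₀ := by
      intro y hy
      obtain ⟨n₁, hn₁, w, hw, rfl⟩ := Submodule.mem_sup.1 (hJm (hG₀J y hy))
      refine add_mem (Submodule.mem_sup_left hn₁) ?_
      refine Submodule.mul_induction_on hw (fun p hp q hq => ?_) fun _ _ => add_mem
      have hp' : p ∈ (IsLocalRing.maximalIdeal B' • ⊤ : Submodule B' C') := by
        rw [Ideal.smul_top_eq_map, Submodule.restrictScalars_mem]; exact hp
      refine Submodule.smul_induction_on hp' (fun r hr c _ => ?_) fun x x' hx hx' => by rw [add_mul]; exact add_mem hx hx'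
      obtain ⟨g, hg, hgq⟩ := hJG (c * q) (J.mul_mem_left c hq)
      rw [smul_mul_assoc, ← sub_add_cancel (c * q) g, smul_add]
      exact add_mem (Submodule.mem_sup_left (Submodule.smul_mem _ r hgq))
        (Submodule.mem_sup_right (Submodule.smul_mem_smul hr hg))
    have hle := Submodule.le_of_le_smul_of_le_jacobson_bot hG₀ (IsLocalRing.maximalIdeal_le_jacobson _) hG
    intro y hy
    obtain ⟨g, hg, hgy⟩ := hJG y hy
    rw [← sub_add_cancel y g]
    exact N.add_mem hgy (hle hg)
  obtain ⟨g, hg1, hgJ⟩ : ∃ g : C', σ g = 1 ∧ ∀ y ∈ J, g * y ∈ Q := by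
    let J₁ : Ideal (C' ⧸ Q) := J.map (Ideal.Quotient.mk Q)
    have hfg : J₁.FG := by
      refine ⟨s.image (Ideal.Quotient.mk Q), ?_⟩
      show Ideal.span _ = _
      rw [Finset.coe_image, ← Ideal.map_span]
      show _ = J.map _
      rw [hs, Ideal.map_sup, show IC.map (Ideal.Quotient.mk Q) = ⊥ from
        (Ideal.map_eq_bot_iff_le_ker _).2 (by rw [Ideal.mk_ker]; exact le_sup_right), bot_sup_eq]
    have hJ1 : J₁ ≤ J₁ • J₁ := by
      rw [smul_eq_mul, ← Ideal.map_mul]
      refine (Ideal.map_mono hJN).trans ?_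
      rw [Ideal.map_sup, show Q.map (Ideal.Quotient.mk Q) = ⊥ from Ideal.map_quotient_self Q, bot_sup_eq]
    obtain ⟨r, hr1, hr2⟩ := Submodule.exists_sub_one_mem_and_smul_eq_zero_of_fg_of_le_smul J₁ J₁ hfg hJ1
    obtain ⟨r, rfl⟩ := Ideal.Quotient.mk_surjective r
    refine ⟨r, ?_, fun y hy => ?_⟩
    · have h1 : r - 1 ∈ J := by
        rw [← map_one (Ideal.Quotient.mk Q), ← map_sub, ← Ideal.mem_comap,
          Ideal.comap_map_of_surjective _ Ideal.Quotient.mk_surjective, ← RingHom.ker_eq_comap_bot, Ideal.mk_ker,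
          sup_eq_left.2 hQJ] at hr1
        exact hr1
      rwa [RingHom.mem_ker, map_sub, map_one, sub_eq_zero] at h1
    · rw [← Ideal.Quotient.eq_zero_iff_mem, map_mul]
      exact hr2 _ (Ideal.mem_map_of_mem _ hy)
  -- localise to make the lift flat
  let q : Ideal C' := m.comap πb
  have hqB : q.comap (algebraMap B' C') = RingHom.ker (ρ.comp π) := by
    ext r
    rw [Ideal.mem_comap, Ideal.mem_comap, show πb (algebraMap B' C' r) = algebraMap k Cb (ρ.comp π r) from
      congrArg (fun f => f r) hcomp, RingHom.mem_ker]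
    refine ⟨fun h' => by_contra fun hne => Ideal.IsPrime.ne_top ‹m.IsPrime›
      (Ideal.eq_top_of_isUnit_mem _ h' ((isUnit_iff_ne_zero.2 hne).map _)), fun h' => by rw [h', map_zero]; exact m.zero_mem⟩
  have hfs : Ideal.ofList fs ≤ q := Ideal.map_le_iff_le_comap.1 (by rwa [Ideal.map_ofList])
  have hbot : (m.comap (algebraMap k Cb)).map (algebraMap k Cb) = ⊥ := by
    rw [(Ideal.eq_bot_or_top (m.comap (algebraMap k Cb))).resolve_right
      (Ideal.comap_ne_top _ (Ideal.IsPrime.ne_top ‹m.IsPrime›)), Ideal.map_bot]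
  obtain ⟨G, hGq, hdata⟩ := Slice4.exists_regular_flat_away (R := B') q fs hfs
    (fibReg_comap πb hπb m (hker.trans (by rw [hqB])) hbot fs h₄)
  have hσG : IsUnit (σ G) := by
    by_contra hG
    obtain ⟨P, hP, hGP⟩ := exists_max_ideal_of_mem_nonunits hG
    exact hGq ((h₅ P hP).le (Ideal.mem_comap.2 hGP))
  let g' := G * g
  have hσg' : IsUnit (σ g') := by rw [map_mul, hg1, mul_one]; exact hσG
  let D := Localization.Away g'
  obtain ⟨-, hflat⟩ := hdata g' (Dvd.intro g rfl) D
  let K : Ideal D := Ideal.ofList (fs.map (algebraMap C' D))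
  haveI hflat' : Module.Flat B' (D ⧸ K) := by
    have hfl := hflat fs.length le_rfl
    rwa [List.take_of_length_le (by simp)] at hfl
  let A' := D ⧸ K
  let σ' : C' →ₐ[B'] A' := (Ideal.Quotient.mkₐ B' K).comp (IsScalarTower.toAlgHom B' C' D)
  let pD : D →+* A := IsLocalization.Away.lift g' hσg'
  have hpD : ∀ c, pD (algebraMap C' D c) = σ c := IsLocalization.Away.lift_eq g' hσg'
  let pA : A' →+* A := Ideal.Quotient.lift K pD (fun x hx => by
    refine RingHom.mem_ker.1 ((Ideal.span_le (I := RingHom.ker pD)).2 ?_ hx)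
    intro y hy
    obtain ⟨f, hf, rfl⟩ := List.mem_map.1 hy
    show pD _ = 0
    rw [hpD, h₂ f hf])
  have hpA : ∀ c, pA (σ' c) = σ c := fun c => (Ideal.Quotient.lift_mk _ _ _).trans (hpD c)
  have hpr : ∀ r, pA (algebraMap B' A' r) = algebraMap B A (π r) := fun r => by
    rw [← σ'.commutes r, hpA, hσr]
  have hkerA : ∀ x, pA x = 0 → x ∈ (I • ⊤ : Submodule B' A') := by
    intro x hx
    rw [Ideal.smul_top_eq_map, Submodule.restrictScalars_mem]
    obtain ⟨x, rfl⟩ := Ideal.Quotient.mk_surjective x
    obtain ⟨n, c, hc⟩ := IsLocalization.Away.surj g' x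
    have hc0 : σ c = 0 := by
      rw [← hpD c, ← hc, map_mul, show pD x = 0 from (Ideal.Quotient.lift_mk K pD _).symm.trans hx, zero_mul]
    have hgc : (Ideal.Quotient.mk K (algebraMap C' D (g * c))) ∈ I.map (algebraMap B' A') := by
      obtain ⟨f, hf, z, hz, hfz⟩ := Submodule.mem_sup.1 (hgJ c hc0)
      rw [← hfz, map_add, map_add]
      refine add_mem ?_ ?_
      · rw [Ideal.Quotient.eq_zero_iff_mem.2 (show algebraMap C' D f ∈ K by
          rw [show K = Fs.map (algebraMap C' D) from (Ideal.map_ofList _ _).symm]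
          exact Ideal.mem_map_of_mem _ hf)]
        exact Ideal.zero_mem _
      · refine (Ideal.map_le_iff_le_comap.2 fun r hr => ?_ : IC ≤ (I.map (algebraMap B' A')).comap
          ((Ideal.Quotient.mk K).comp (algebraMap C' D))) hz
        rw [Ideal.mem_comap, Ideal.mem_comap]
        have e : (Ideal.Quotient.mk K).comp (algebraMap C' D) (algebraMap B' C' r) = algebraMap B' A' r :=
          σ'.commutes r
        rw [e]
        exact Ideal.mem_map_of_mem _ hr
    have hu : IsUnit (algebraMap C' D g') := IsLocalization.Away.algebraMap_isUnit g'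
    have hug : IsUnit (algebraMap C' D g) := isUnit_of_dvd_unit (map_dvd _ (Dvd.intro_left G rfl)) hu
    rw [map_mul, map_mul, ← hc, map_mul] at hgc
    have h1 := (Ideal.mul_unit_mem_iff_mem _ ((hu.pow n).map (Ideal.Quotient.mk K))).1
      ((Ideal.unit_mul_mem_iff_mem _ (hug.map (Ideal.Quotient.mk K))).1 hgc)
    exact h1
  have hsm : ∀ (r : B') (x : A'), pA (r • x) = algebraMap B A (π r) * pA x := fun r x => by
    rw [show r • x = algebraMap B' A' r * x from Algebra.smul_def r x, map_mul, hpr]
  let b' : Fin d → A' := fun i => σ' (bb i)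
  have hpb : ∀ i, pA (b' i) = b i := fun i => by rw [hpA]; exact hsec _
  have hspan : ∀ x : A', ∃ c : Fin d → B', x - ∑ i, c i • b' i ∈ (I • ⊤ : Submodule B' A') := fun x =>
    ⟨fun i => pπ (b.repr (pA x) i), hkerA _ (by
      rw [map_sub, map_sum]
      simp only [hsm, hpπ, hpb]
      rw [show ∑ i, algebraMap B A (b.repr (pA x) i) * b i = pA x by
        simp only [← Algebra.smul_def, b.sum_repr], sub_self])⟩
  have htop : (⊤ : Submodule B' A') ≤ Submodule.span B' (Set.range b') := by
    let P := Submodule.span B' (Set.range b')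
    have h1 : ∀ x : A', x ∈ P ⊔ I • ⊤ := fun x => by
      obtain ⟨c, hc⟩ := hspan x
      rw [← sub_add_cancel x (∑ i, c i • b' i), add_comm]
      exact add_mem (Submodule.mem_sup_left (Submodule.sum_mem _ fun i _ =>
        Submodule.smul_mem _ _ (Submodule.subset_span ⟨i, rfl⟩))) (Submodule.mem_sup_right hc)
    have h2 : (I • ⊤ : Submodule B' A') ≤ P := Submodule.smul_le.2 fun r hr x _ => by
      obtain ⟨p, hp, y, hy, rfl⟩ := Submodule.mem_sup.1 (h1 x)
      rw [smul_add]
      refine add_mem (P.smul_mem r hp) ?_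
      have h3 : r • y ∈ (I • (I • ⊤) : Submodule B' A') := Submodule.smul_mem_smul hr hy
      rw [← Submodule.mul_smul, ← pow_two, hI, Submodule.bot_smul] at h3
      rw [(Submodule.mem_bot B').1 h3]
      exact P.zero_mem
    exact fun x _ => (sup_le le_rfl h2 : P ⊔ I • ⊤ ≤ P) (h1 x)
  have hli : LinearIndependent B' b' := by
    refine Module.IsLocalRing.linearIndependent_of_flat b' (Fintype.linearIndependent_iff.2 fun c hc i => ?_)
    choose r hr using fun i => IsLocalRing.residue_surjective (c i)
    rw [← hr i, IsLocalRing.residue_eq_zero_iff, hmax, hmem_m]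
    have h1 : TensorProduct.mk B' (IsLocalRing.ResidueField B') A' 1 (∑ i, r i • b' i) = 0 := by
      rw [map_sum, ← hc]
      refine Finset.sum_congr rfl fun i _ => ?_
      rw [map_smul, Function.comp_apply, ← hr i, ← IsLocalRing.ResidueField.algebraMap_eq, algebraMap_smul]
    rw [← LinearMap.mem_ker, show LinearMap.ker (TensorProduct.mk B' (IsLocalRing.ResidueField B') A' 1) = IsLocalRing.maximalIdeal B' • ⊤ from LinearMap.ker_tensorProductMk _, Ideal.smul_top_eq_map, Submodule.restrictScalars_mem] at h1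
    have h2 : pA (∑ i, r i • b' i) ∈ (IsLocalRing.maximalIdeal B).map (algebraMap B A) := by
      refine (Ideal.map_le_iff_le_comap.2 fun x hx => ?_ : (IsLocalRing.maximalIdeal B').map (algebraMap B' A') ≤
        ((IsLocalRing.maximalIdeal B).map (algebraMap B A)).comap pA) h1
      rw [Ideal.mem_comap, Ideal.mem_comap, hpr]
      exact Ideal.mem_map_of_mem _ ((hmem_m x).1 (hmax ▸ hx))
    have h3 : pA (∑ i, r i • b' i) = ∑ i, π (r i) • b i := by
      simp only [map_sum, hsm, hpb, ← Algebra.smul_def]
    rw [h3] at h2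
    have h4 : ∀ z ∈ (IsLocalRing.maximalIdeal B • ⊤ : Submodule B A), ∀ j, b.repr z j ∈ IsLocalRing.maximalIdeal B := by
      intro z hz j
      refine Submodule.smul_induction_on hz (fun t ht n _ => ?_) fun x y hx hy => by simpa using add_mem hx hy
      rw [map_smul, Finsupp.smul_apply, smul_eq_mul]
      exact Ideal.mul_mem_right _ _ ht
    have h5 := h4 _ (by rw [Ideal.smul_top_eq_map, Submodule.restrictScalars_mem]; exact h2) i
    rwa [b.repr_sum_self] at h5
  exact ⟨A', inferInstance, inferInstance, Module.Basis.mk hli htop, σ', pA, hpr,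
    fun i => by rw [Module.Basis.mk_apply]; exact hpb i, hpA⟩

end Groth.Agent.Bootst16
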