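import Groth.Agent.Lib.Bootst16.PSpSpace
import Groth.Agent.Lib.StAlg16.LocQ

/-!
# Etale maps of spaces give etale maps of sheaves of lifts
-/

universe u

open CategoryTheory CategoryTheory.Limits AlgebraicGeometry Opposite

set_option linter.style.haveILetI false
set_option linter.unusedSectionVars false
set_option backward.isDefEq.respectTransparency false
set_option backward.isDefEq.respectTransparency.types false

namespace Groth.Agent.Bootst16

open AlgSp Groth.Agent.ChartLift16

variable {S : Scheme.{u}}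

section PMap

variable {C D T : Over S} (dPr : D ⟶ C) {F F' : Sp S} {a : F ⟶ (yon S).obj T} {a' : F' ⟶ (yon S).obj T}
  (z : F' ⟶ F) (hz : z ≫ a = a')

/-- the image of a lift -/
noncomputable abbrev pSecMap {T' : Over S} (s : PSec dPr a' T') : PSec dPr a T' where
  g := s.g
  c := s.c
  l := s.l ≫ z
  hl := by rw [Category.assoc, hz, s.hl]

theorem pSecMap_res {T' T'' : Over S} (m : T'' ⟶ T') (s : PSec dPr a' T') :
    pSecMap dPr z hz (PSec.res dPr a' m s) = PSec.res dPr a m (pSecMap dPr z hz s) := by
  refine PSec.ext' rfl (Category.id_comp _) ?_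
  show (yon S).map _ ≫ ((yon S).map _ ≫ s.l) ≫ z = (yon S).map _ ≫ s.l ≫ z
  rw [Category.assoc, dmap_eq_id rfl, CategoryTheory.Functor.map_id, Category.id_comp]

/-- functoriality of the sheaf of lifts -/
noncomputable def pMap : pSp dPr a' ⟶ pSp dPr a :=
  ObjectProperty.homMk
    { app := fun _ => ↾fun s => pSecMap dPr z hz s
      naturality := fun _ _ m => ConcreteCategory.hom_ext _ _ fun s => pSecMap_res dPr z hz m.unop s }

theorem toHom_pMap {T' : Over S} (s : PSec dPr a' T') :
    s.toHom ≫ pMap dPr z hz = (pSecMap dPr z hz s).toHom := by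
  apply AlgSpace.sect.injective
  rw [SpQuot16.sect_comp, PSec.toHom, PSec.toHom, Equiv.apply_symm_apply, Equiv.apply_symm_apply]
  rfl

theorem pMap_toT : pMap dPr z hz ≫ toT dPr a = toT dPr a' := by
  apply ObjectProperty.hom_ext
  ext T' s
  rfl

end PMap

section Etale

variable {C D : Over S} (dPr : D ⟶ C) {F V : Sp S} {b : F ⟶ (yon S).obj D} {bV : V ⟶ (yon S).obj D}

theorem isEtaleMor_resOver (g : V ⟶ F) (hg : g ≫ b = bV) (hV : IsAlgSpace (resSp dPr bV))
    (hF : IsAlgSpace (resSp dPr b))
    (hfib : ∀ (T : Over S) (s : RSec dPr b T), ResEt (dfst dPr s.c) (pullback.snd g s.l)) :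
    IsEtaleMor (resOver dPr g hg) := by
  refine StAlg.desc_of_local
    (StAlg.isLocalOnBase_fppf_of_fpqc AlgSpDescent.isLocalOnBase_fpqc_isEtaleMor) hV hF _
    ((repBySpWith_hom_iff _ _).2 fun T ξ P fst snd sqP => ?_)
  obtain ⟨s, rfl⟩ := RSec.exists_toHom ξ
  have sqF := isPullback_fibre dPr g hg s
  obtain ⟨hA, hE⟩ := hfib _ s
  let e := sqP.isoIsPullback _ _ sqF
  refine ⟨hA.of_iso e.symm, ?_⟩
  rw [show snd = e.hom ≫ resπ (dfst dPr s.c) (pullback.snd g s.l) from (sqP.isoIsPullback_hom_snd _ _ sqF).symm]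
  exact isEtaleMor_iso_comp e hE

end Etale

section Chart

variable {C D T : Over S} (dPr : D ⟶ C) [IsFinite dPr.left] [Flat dPr.left] [LocallyOfFinitePresentation dPr.left]
  [LocallyOfFinitePresentation C.hom] {F : Sp S} {a : F ⟶ (yon S).obj T} {V : Over S} [IsAffine V.left]
  (z : (yon S).obj V ⟶ F)

/-- etale charts with affine source give separated etale fibres -/
theorem resEt_chart_fibre (hze : RepWith @Etale z) {C' D' : Over S} (d' : D' ⟶ C') [IsFinite d'.left] [Flat d'.left]
    [LocallyOfFinitePresentation d'.left] {G : Sp S} (w : G ⟶ (yon S).obj D')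
    (l : (yon S).obj D' ⟶ F) {fst : G ⟶ (yon S).obj V} (sq : IsPullback fst w z l) : ResEt d' w := by
  let sqP := hze.1.isPullback l
  obtain ⟨p₀, hp₀⟩ := (yon S).map_surjective (hze.1.fst l)
  let d₀ : hze.1.pullback l ⟶ D' := hze.1.snd l
  change IsPullback _ ((yon S).map d₀) z l at sqP
  rw [← hp₀] at sqP
  haveI : Etale d₀.left := hze.2 l _ _ sqP
  let j : hze.1.pullback l ⟶ D' ⨯ V := prod.lift d₀ p₀
  haveI : Mono j := ⟨fun x y e => (yon S).map_injective (sqP.hom_ext
    (by
      have := congrArg (fun m => (yon S).map (m ≫ prod.snd)) e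
      simpa only [Category.assoc, j, prod.lift_snd, Functor.map_comp] using this)
    (by
      have := congrArg (fun m => (yon S).map (m ≫ prod.fst)) e
      simpa only [Category.assoc, j, prod.lift_fst, Functor.map_comp] using this))⟩
  haveI : Mono j.left := inferInstance
  haveI : IsSeparated V.hom := inferInstance
  haveI : IsSeparated (prod.fst : D' ⨯ V ⟶ D').left := by
    rw [← Over.prodLeftIsoPullback_hom_fst D' V]
    infer_instance
  haveI : IsSeparated d₀.left := by
    rw [show d₀ = j ≫ prod.fst from (prod.lift_fst _ _).symm, Over.comp_left]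
    infer_instance
  exact (resEt_of_separated_etale d' d₀).transport (sqP.isoIsPullback _ _ sq) (sqP.isoIsPullback_hom_snd _ _ sq)

theorem isEtaleMor_pMap (hF : IsAlgSpace F) (ha : LocP @LocallyOfFinitePresentation a) (hze : RepWith @Etale z)
    (v : V ⟶ T) (hz : z ≫ a = (yon S).map v) : IsEtaleMor (pMap dPr z hz) := by
  haveI : IsFinite (dfst dPr (prod.snd : T ⨯ C ⟶ C)).left := prop_dfst _ inferInstance
  haveI : Flat (dfst dPr (prod.snd : T ⨯ C ⟶ C)).left := prop_dfst _ inferInstance
  haveI : LocallyOfFinitePresentation (dfst dPr (prod.snd : T ⨯ C ⟶ C)).left := prop_dfst _ inferInstance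
  let d := dfst dPr (prod.snd : T ⨯ C ⟶ C)
  let B := lB dPr a
  let B' := lB dPr ((yon S).map v)
  let g : pullback ((yon S).map v) ((yon S).map (lT dPr T)) ⟶ pullback a ((yon S).map (lT dPr T)) :=
    pullback.lift (pullback.fst _ _ ≫ z) (pullback.snd _ _) (by rw [Category.assoc, hz, pullback.condition])
  have hg : g ≫ B = B' := pullback.lift_snd _ _ _
  have hfst : g ≫ pullback.fst a _ = pullback.fst _ _ ≫ z := pullback.lift_fst _ _ _
  have sqg : IsPullback (pullback.fst _ _) g z (pullback.fst a ((yon S).map (lT dPr T))) := by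
    refine (IsPullback.of_right ?_ hfst (IsPullback.of_hasPullback a _).flip).flip
    rw [hg, hz]
    exact (IsPullback.of_hasPullback _ _).flip
  have hv : LocP @LocallyOfFinitePresentation ((yon S).map v) := by
    rw [← hz]
    exact AlgSpace.locP_comp (IsAlgSpace.yon_obj V) hF (IsAlgSpace.yon_obj T)
      (AlgSpace.locP_of_repWith hF (AlgSpace.repWith_mono (Q := @LocallyOfFinitePresentation)
        (fun _ _ f (_ : Etale f) => inferInstance) hze)) ha
  have hres : IsEtaleMor (resOver d g hg) := by
    obtain ⟨h1, -⟩ := pSp_space dPr ((yon S).map v) (IsAlgSpace.yon_obj V) hv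
    obtain ⟨h2, -⟩ := pSp_space dPr a hF ha
    refine isEtaleMor_resOver d g hg (h1.of_iso (asIso (toPSp dPr ((yon S).map v))).symm)
      (h2.of_iso (asIso (toPSp dPr a)).symm) fun T' s => ?_
    haveI : IsFinite (dfst d s.c).left := prop_dfst _ inferInstance
    haveI : Flat (dfst d s.c).left := prop_dfst _ inferInstance
    haveI : LocallyOfFinitePresentation (dfst d s.c).left := prop_dfst _ inferInstance
    exact resEt_chart_fibre z hze (dfst d s.c) (pullback.snd g s.l) (s.l ≫ pullback.fst a _)
      ((IsPullback.of_hasPullback g s.l).paste_horiz sqg)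
  have e : toPSp dPr ((yon S).map v) ≫ pMap dPr z hz = resOver d g hg ≫ toPSp dPr a := by
    refine AlgSpace.hom_ext_yon fun T' t => ?_
    obtain ⟨s, rfl⟩ := RSec.exists_toHom t
    rw [← Category.assoc, toHom_toPSp, toHom_pMap, ← Category.assoc, toHom_resOver, toHom_toPSp]
    congr 1
    refine pSec_eq_of dPr a ?_
    simp only [toPSec, Category.assoc, hfst]
  rw [show pMap dPr z hz = (asIso (toPSp dPr ((yon S).map v))).symm.hom ≫ resOver d g hg ≫
    (asIso (toPSp dPr a)).hom by rw [Iso.symm_hom, asIso_inv, asIso_hom, ← e, IsIso.inv_hom_id_assoc]]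
  exact isEtaleMor_iso_comp _ (Induction15.isEtaleMor_comp hres fun U φ hφ =>
    AlgSpace.repWith_comp hφ (MorphismProperty.of_isIso (RepWith @Etale) _))

end Chart

end Groth.Agent.Bootst16
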