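import Groth.Agent.Lib.Bootst16.Versal
import Groth.Agent.Lib.Bootst16.Lift
import Mathlib.RingTheory.Smooth.Locus
import Mathlib.RingTheory.Smooth.Basic
import Mathlib.RingTheory.IsTensorProduct

/-!
# Slices give smooth points of the parameter ring
-/

universe u

open TensorProduct

set_option linter.style.haveILetI false
set_option backward.isDefEq.respectTransparency false
set_option backward.isDefEq.respectTransparency.types false

namespace Groth.Agent.Bootst16

theorem exists_section_of_slice {Λ C : Type u} [CommRing Λ] [CommRing C] [Algebra Λ C] [Algebra.FinitePresentation Λ C]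
    [Module.Flat Λ C] {d : ℕ} {W AW : Type u} [CommRing W] [Algebra Λ W] [CommRing AW] [Algebra W AW]
    {bW : Module.Basis (Fin d) W AW} {σW : C →+* AW}
    (hV : IsVersal Λ C W AW bW σW) {K AK : Type u} [Field K] [Algebra Λ K] [CommRing AK] [Algebra K AK]
    (bK : Module.Basis (Fin d) K AK) (g₀ : W →ₐ[Λ] K) (G₀ : AW →+* AK)
    (hG₀ : ∀ w, G₀ (algebraMap W AW w) = algebraMap K AK (g₀ w)) (hG₀b : ∀ i, G₀ (bW i) = bK i)
    (σb : K ⊗[Λ] C →ₐ[K] AK) (hσb : ∀ c, σb (1 ⊗ₜ c) = G₀ (σW c)) (hs : Function.Surjective σb)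
    (fs : List (K ⊗[Λ] C)) (h : K ⊗[Λ] C) (m : Ideal (K ⊗[Λ] C)) [m.IsPrime] (hfs : ∀ f ∈ fs, σb f = 0)
    (hh : IsUnit (σb h)) (h₃ : ∀ z, σb z = 0 → ∃ n, h ^ n * z ∈ Ideal.ofList fs)
    (h₄ : KoszulFibre4.FibReg m K fs)
    (h₅ : ∀ P : Ideal (K ⊗[Λ] C), P.IsPrime → RingHom.ker σb ≤ P → P = m) (h₆ : Ideal.ofList fs ≤ m)
    {B' B : Type u} [CommRing B'] [Algebra Λ B'] [CommRing B] [IsLocalRing B] [Algebra Λ B] [Algebra W B]
    [IsScalarTower Λ W B] (π : B' →ₐ[Λ] B) (hπ : Function.Surjective π) (hI : RingHom.ker π.toRingHom ^ 2 = ⊥)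
    (ρ : B →ₐ[Λ] K) (hρW : ∀ x, ρ (algebraMap W B x) = g₀ x) (hρs : Function.Surjective ρ)
    (hρ : RingHom.ker ρ.toRingHom = IsLocalRing.maximalIdeal B) :
    ∃ g' : W →ₐ[Λ] B', π.comp g' = IsScalarTower.toAlgHom Λ W B := by
  classical
  -- the algebra over `B`
  let A := B ⊗[W] AW
  let bA : Module.Basis (Fin d) B A := Algebra.TensorProduct.basis B bW
  haveI : Module.Finite B A := Module.Finite.of_basis bA
  letI : Algebra B AK := ((algebraMap K AK).comp ρ.toRingHom).toAlgebra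
  letI : Algebra W AK := ((algebraMap K AK).comp g₀.toRingHom).toAlgebra
  haveI : IsScalarTower W B AK := IsScalarTower.of_algebraMap_eq fun x => congrArg (algebraMap K AK) (hρW x).symm
  let G₀' : AW →ₐ[W] AK := { G₀ with commutes' := hG₀ }
  let τ : A →ₐ[B] AK := Algebra.TensorProduct.lift (Algebra.ofId B AK) G₀' fun _ _ => .all _ _
  have hτ : ∀ (r : B) (a : AW), τ (r ⊗ₜ a) = algebraMap K AK (ρ r) * G₀ a := fun r a =>
    Algebra.TensorProduct.lift_tmul _ _ _ r a
  have hτb : ∀ i, τ (bA i) = bK i := fun i => by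
    rw [show bA i = (1 : B) ⊗ₜ bW i from Algebra.TensorProduct.basis_apply _ _, hτ, map_one, map_one, one_mul, hG₀b]
  have hτsum : ∀ c : Fin d → B, τ (∑ i, c i • bA i) = ∑ i, ρ (c i) • bK i := fun c => by
    rw [map_sum]
    refine Finset.sum_congr rfl fun i _ => ?_
    rw [map_smul, hτb, Algebra.smul_def, Algebra.smul_def]
    rfl
  have hkerτ : ∀ a, τ a = 0 → a ∈ (IsLocalRing.maximalIdeal B).map (algebraMap B A) := fun a ha => by
    rw [← bA.sum_repr a, hτsum] at ha
    rw [← bA.sum_repr a]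
    rw [← Submodule.restrictScalars_mem B, ← Ideal.smul_top_eq_map]
    refine Submodule.sum_mem _ fun i _ => Submodule.smul_mem_smul ?_ Submodule.mem_top
    rw [← hρ]
    exact Fintype.linearIndependent_iff.1 bK.linearIndependent _ ha i
  have hτm : (IsLocalRing.maximalIdeal B).map (algebraMap B A) ≤ RingHom.ker τ.toRingHom :=
    Ideal.map_le_iff_le_comap.2 fun r hr => by
      rw [← hρ] at hr
      show τ (algebraMap B A r) = 0
      rw [τ.commutes]
      show algebraMap K AK (ρ r) = 0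
      rw [show ρ r = 0 from RingHom.mem_ker.1 hr, map_zero]
  -- the map to be lifted
  let C' := B' ⊗[Λ] C
  haveI : Algebra.FinitePresentation B' C' := Algebra.FinitePresentation.baseChange B'
  haveI : Module.Flat B' C' := Module.Flat.baseChange Λ B' C
  let σC : C →ₐ[Λ] A :=
    { (Algebra.TensorProduct.includeRight : AW →ₐ[W] A).toRingHom.comp σW with
      commutes' := fun l => by
        show (Algebra.TensorProduct.includeRight : AW →ₐ[W] A) (σW (algebraMap Λ C l)) = _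
        rw [hV.1, AlgHom.commutes]
        rw [IsScalarTower.algebraMap_apply W B A, ← IsScalarTower.algebraMap_apply Λ W B]
        exact (IsScalarTower.algebraMap_apply Λ B A l).symm }
  let πA : B' →ₐ[Λ] A := { (algebraMap B A).comp π.toRingHom with
    commutes' := fun l => (congrArg (algebraMap B A) (π.commutes l)).trans (IsScalarTower.algebraMap_apply Λ B A l).symm }
  let σ : C' →ₐ[Λ] A := Algebra.TensorProduct.lift πA σC fun _ _ => .all _ _
  let πb : C' →ₐ[Λ] K ⊗[Λ] C := Algebra.TensorProduct.map (ρ.comp π) (AlgHom.id Λ C)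
  have hρπ : Function.Surjective (ρ.comp π) := hρs.comp hπ
  have hσ1 : ∀ r, σ (algebraMap B' C' r) = algebraMap B A (π r) := fun r => by
    rw [show algebraMap B' C' r = r ⊗ₜ[Λ] (1 : C) by
      rw [Algebra.algebraMap_eq_smul_one, Algebra.TensorProduct.one_def, TensorProduct.smul_tmul', smul_eq_mul, mul_one]]
    refine (Algebra.TensorProduct.lift_tmul _ _ _ r 1).trans ?_
    rw [map_one, mul_one]
    rfl
  have hcomm : ∀ z, τ (σ z) = σb (πb z) := by
    intro z
    induction z using TensorProduct.induction_on with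
    | zero => simp
    | tmul r c =>
      rw [show σ (r ⊗ₜ[Λ] c) = algebraMap B A (π r) * σC c from Algebra.TensorProduct.lift_tmul _ _ _ r c, map_mul,
        τ.commutes]
      show algebraMap K AK (ρ (π r)) * τ ((1 : B) ⊗ₜ σW c) = σb (ρ (π r) ⊗ₜ[Λ] c)
      rw [hτ, map_one, map_one, one_mul]
      have e1 : (ρ (π r)) ⊗ₜ[Λ] c = (ρ (π r)) • ((1 : K) ⊗ₜ[Λ] c) := by rw [TensorProduct.smul_tmul', smul_eq_mul, mul_one]
      rw [e1, map_smul, hσb, Algebra.smul_def]
    | add z z' hz hz' => simp only [map_add, hz, hz']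
  have hπbs : Function.Surjective πb := fun z => by
    induction z using TensorProduct.induction_on with
    | zero => exact ⟨0, map_zero πb⟩
    | tmul x c => obtain ⟨x, rfl⟩ := hρπ x; exact ⟨x ⊗ₜ c, Algebra.TensorProduct.map_tmul _ _ _ _⟩
    | add z z' hz hz' =>
      obtain ⟨z, rfl⟩ := hz
      obtain ⟨z', rfl⟩ := hz'
      exact ⟨z + z', map_add πb z z'⟩
  have hker : RingHom.ker πb.toRingHom = (RingHom.ker (ρ.toRingHom.comp π.toRingHom)).map (algebraMap B' C') := by
    show RingHom.ker (Algebra.TensorProduct.map (ρ.comp π) (AlgHom.id Λ C)) = _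
    rw [Algebra.TensorProduct.rTensor_ker _ hρπ]
    rfl
  have hcompb : πb.toRingHom.comp (algebraMap B' C') = (algebraMap K (K ⊗[Λ] C)).comp (ρ.toRingHom.comp π.toRingHom) :=
    RingHom.ext fun r => by
      show πb (r ⊗ₜ[Λ] (1 : C)) = (ρ (π r)) ⊗ₜ[Λ] (1 : C)
      exact Algebra.TensorProduct.map_tmul _ _ _ _
  have hsurj : ∀ a : A, ∃ c, a - σ.toRingHom c ∈ (IsLocalRing.maximalIdeal B).map (algebraMap B A) := fun a => by
    obtain ⟨z, hz⟩ := hs (τ a)
    obtain ⟨c, rfl⟩ := hπbs z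
    refine ⟨c, hkerτ _ ?_⟩
    show τ (a - σ c) = 0
    rw [map_sub, hcomm, hz, sub_self]
  have hσs := surjective_of_residual π.toRingHom hπ σ.toRingHom hσ1 hsurj
  have hfl : ∀ f₀ : {x // x ∈ fs}, ∃ c, πb c = f₀.1 ∧ σ c = 0 := by
    rintro ⟨f₀, hf₀⟩
    obtain ⟨c, rfl⟩ := hπbs f₀
    have hm' : σ c ∈ (IsLocalRing.maximalIdeal B).map (algebraMap B A) := hkerτ _ (by rw [hcomm, hfs _ hf₀])
    rw [← hρ, ← Ideal.map_comap_of_surjective π.toRingHom hπ (RingHom.ker ρ.toRingHom), Ideal.map_map,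
      show (algebraMap B A).comp π.toRingHom = σ.toRingHom.comp (algebraMap B' C') from RingHom.ext fun r => (hσ1 r).symm,
      ← Ideal.map_map, Ideal.mem_map_iff_of_surjective _ hσs, RingHom.comap_ker, ← hker] at hm'
    obtain ⟨z, hz, hzc⟩ := hm'
    exact ⟨c - z, by rw [map_sub, show πb z = 0 from hz, sub_zero],
      by rw [map_sub, show σ z = σ c from hzc, sub_self]⟩
  choose lf hlf hlf0 using hfl
  obtain ⟨h', rfl⟩ := hπbs h
  have hl : (fs.attach.map lf).map πb.toRingHom = fs := by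
    rw [List.map_map]
    exact (List.map_congr_left (fun x _ => hlf x)).trans (List.attach_map_subtype_val fs)
  have hmax : ∀ Q : Ideal A, Q.IsMaximal → RingHom.ker τ.toRingHom ≤ Q := fun Q hQ => by
    intro a ha
    refine (Ideal.map_le_iff_le_comap.2 ?_) (hkerτ a ha)
    haveI := Algebra.IsIntegral.of_finite B A
    exact (IsLocalRing.eq_maximalIdeal (Ideal.isMaximal_comap_of_isIntegral_of_isMaximal (R := B) Q)).ge
  have hτs : Function.Surjective τ := fun y => by
    obtain ⟨z, rfl⟩ := hs y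
    obtain ⟨c, rfl⟩ := hπbs z
    exact ⟨σ c, hcomm c⟩
  obtain ⟨A', _, _, b', σ', pA, hpr, hpb, hpσ⟩ := exists_lift_slice π.toRingHom hπ hI ρ.toRingHom hρ bA σ.toRingHom
    (RingHom.ext hσ1) πb.toRingHom hπbs hker hcompb hsurj (fs.attach.map lf) h' m
    (fun f₁ hf₁ => by obtain ⟨x, -, rfl⟩ := List.mem_map.1 hf₁; exact hlf0 x)
    (by
      by_contra hu
      obtain ⟨Q, hQ, hhQ⟩ := exists_max_ideal_of_mem_nonunits hu
      have hmap : (Q.map τ.toRingHom).IsPrime := Ideal.map_isPrime_of_surjective hτs (hmax Q hQ)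
      exact hmap.ne_top (Ideal.eq_top_of_isUnit_mem _ (Ideal.mem_map_of_mem τ.toRingHom hhQ)
        (by show IsUnit (τ (σ h')); rw [hcomm]; exact hh)))
    (fun c hc => by
      obtain ⟨k, hk⟩ := h₃ (πb c) (by rw [← hcomm]; exact hτm hc)
      exact ⟨k, by rw [hl, map_mul, map_pow]; exact hk⟩)
    (by rw [hl]; exact h₄)
    (fun Q hQ => by
      haveI := hQ.isPrime
      have hQp : (Q.map τ.toRingHom).IsPrime := Ideal.map_isPrime_of_surjective hτs (hmax Q hQ)
      have e1 : Q = (Q.map τ.toRingHom).comap τ.toRingHom := by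
        rw [Ideal.comap_map_of_surjective τ.toRingHom hτs, ← RingHom.ker_eq_comap_bot, sup_eq_left.2 (hmax Q hQ)]
      have e2 : (Q.map τ.toRingHom).comap σb.toRingHom = m :=
        h₅ _ (Ideal.IsPrime.comap _) fun z hz => by
          rw [Ideal.mem_comap, show σb.toRingHom z = 0 from hz]; exact Ideal.zero_mem _
      rw [e1, ← e2, Ideal.comap_comap, Ideal.comap_comap]
      congr 1
      exact RingHom.ext hcomm)
    (by rw [hl]; exact h₆)
  have hσ' : ∀ l, σ' ((Algebra.TensorProduct.includeRight : C →ₐ[Λ] C') (algebraMap Λ C l)) =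
      algebraMap B' A' (algebraMap Λ B' l) := fun l => by
    rw [AlgHom.commutes, IsScalarTower.algebraMap_apply Λ B' C']
    exact σ'.commutes _
  obtain ⟨⟨g', G', hG', hG'b, hG'c⟩, -⟩ :=
    hV.2 B' A' b' (σ'.toRingHom.comp (Algebra.TensorProduct.includeRight : C →ₐ[Λ] C').toRingHom) hσ'
  have hπg : π.comp g' = IsScalarTower.toAlgHom Λ W B := by
    refine (hV.2 B A bA σC.toRingHom fun l => σC.commutes l).2 (π.comp g') _ (pA.comp G')
      (Algebra.TensorProduct.includeRight : AW →ₐ[W] A).toRingHom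
      (fun x => by rw [RingHom.comp_apply, hG', hpr]; rfl) (fun i => by rw [RingHom.comp_apply, hG'b, hpb])
      (fun c => by
        rw [RingHom.comp_apply, hG'c, RingHom.comp_apply]
        refine (hpσ _).trans ?_
        refine (Algebra.TensorProduct.lift_tmul πA σC (fun _ _ => .all _ _) (1 : B') c).trans ?_
        rw [map_one, one_mul]
        rfl) (fun x => ?_) (fun i => (Algebra.TensorProduct.basis_apply _ _).symm) (fun c => rfl)
    show (Algebra.TensorProduct.includeRight : AW →ₐ[W] A) (algebraMap W AW x) = _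
    rw [AlgHom.commutes, IsScalarTower.algebraMap_apply W B A]
    rfl
  exact ⟨g', hπg⟩

theorem formallySmooth_of_sections {Λ W P B : Type u} [CommRing Λ] [CommRing W] [Algebra Λ W] [CommRing P] [Algebra Λ P]
    [Algebra.FormallySmooth Λ P] [CommRing B] [Algebra Λ B] [Algebra W B] [IsScalarTower Λ W B] (M : Submonoid W)
    [IsLocalization M B] (f : P →ₐ[Λ] B) (hf : Function.Surjective f)
    (hex : ∀ (B' : Type u) [CommRing B'] [Algebra Λ B'] (π : B' →ₐ[Λ] B), Function.Surjective π →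
      RingHom.ker π.toRingHom ^ 2 = ⊥ → ∃ g' : W →ₐ[Λ] B', π.comp g' = IsScalarTower.toAlgHom Λ W B) :
    Algebra.FormallySmooth Λ B := by
  let B' := P ⧸ RingHom.ker f.toRingHom ^ 2
  let π : B' →ₐ[Λ] B := f.kerSquareLift
  have hπ : Function.Surjective π := fun y => by
    obtain ⟨x, rfl⟩ := hf y
    exact ⟨Ideal.Quotient.mk _ x, rfl⟩
  have hI : RingHom.ker π.toRingHom ^ 2 = ⊥ := by
    rw [AlgHom.ker_kerSquareLift]
    exact Ideal.cotangentIdeal_square _
  obtain ⟨g', hπg⟩ := hex B' π hπ hI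
  have hsq : ∀ r : B', IsUnit (π r) → IsUnit r := fun r hr => by
    obtain ⟨v, hv⟩ := hr.exists_right_inv
    obtain ⟨v, rfl⟩ := hπ v
    have h1 : r * v - 1 ∈ RingHom.ker π.toRingHom := by
      show π (r * v - 1) = 0
      rw [map_sub, map_mul, hv, map_one, sub_self]
    have h2 : (r * v - 1) * (r * v - 1) = 0 := by
      have h3 : (r * v - 1) * (r * v - 1) ∈ RingHom.ker π.toRingHom ^ 2 :=
        (pow_two (RingHom.ker π.toRingHom)).ge (Ideal.mul_mem_mul h1 h1)
      rwa [hI, Ideal.mem_bot] at h3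
    exact IsUnit.of_mul_eq_one (v * (1 - (r * v - 1))) (by linear_combination -h2)
  have hgu : ∀ y : M, IsUnit (g' y.1) := fun y => hsq _ (by
    rw [show π (g' y.1) = algebraMap W B y.1 from congrArg (fun φ => φ y.1) hπg]
    exact IsLocalization.map_units B y)
  let gB : B →ₐ[Λ] B' := IsLocalization.liftAlgHom (M := M) (f := g') hgu
  exact Algebra.FormallySmooth.of_split f gB (IsLocalization.algHom_ext M (AlgHom.ext fun x => by
    show π (gB (algebraMap W B x)) = algebraMap W B x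
    rw [show gB (algebraMap W B x) = g' x from IsLocalization.lift_eq _ x]
    exact congrArg (fun φ => φ x) hπg))

theorem isSmoothAt_of_slice {Λ C : Type u} [CommRing Λ] [CommRing C] [Algebra Λ C] [Algebra.FinitePresentation Λ C]
    [Module.Flat Λ C] {d : ℕ} {W AW : Type u} [CommRing W] [Algebra Λ W] [CommRing AW] [Algebra W AW]
    [Algebra.FinitePresentation Λ W] {bW : Module.Basis (Fin d) W AW} {σW : C →+* AW}
    (hV : IsVersal Λ C W AW bW σW) {K AK : Type u} [Field K] [Algebra Λ K] [CommRing AK] [Algebra K AK]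
    (bK : Module.Basis (Fin d) K AK) (g₀ : W →ₐ[Λ] K) (G₀ : AW →+* AK)
    (hG₀ : ∀ w, G₀ (algebraMap W AW w) = algebraMap K AK (g₀ w)) (hG₀b : ∀ i, G₀ (bW i) = bK i)
    (hK : ∀ x : K, ∃ a b : Λ, algebraMap Λ K b ≠ 0 ∧ algebraMap Λ K b * x = algebraMap Λ K a)
    (σb : K ⊗[Λ] C →ₐ[K] AK) (hσb : ∀ c, σb (1 ⊗ₜ c) = G₀ (σW c)) (hs : Function.Surjective σb)
    (fs : List (K ⊗[Λ] C)) (h : K ⊗[Λ] C) (m : Ideal (K ⊗[Λ] C)) [m.IsPrime] (hfs : ∀ f ∈ fs, σb f = 0)
    (hh : IsUnit (σb h)) (h₃ : ∀ z, σb z = 0 → ∃ n, h ^ n * z ∈ Ideal.ofList fs)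
    (h₄ : KoszulFibre4.FibReg m K fs)
    (h₅ : ∀ P : Ideal (K ⊗[Λ] C), P.IsPrime → RingHom.ker σb ≤ P → P = m) (h₆ : Ideal.ofList fs ≤ m) :
    @Algebra.IsSmoothAt Λ W _ _ _ (RingHom.ker g₀.toRingHom) (RingHom.ker_isPrime g₀.toRingHom) := by
  classical
  haveI hp : (RingHom.ker g₀.toRingHom).IsPrime := RingHom.ker_isPrime g₀.toRingHom
  let w := RingHom.ker g₀.toRingHom
  let B := Localization.AtPrime w
  obtain ⟨n, π₀, hπ₀⟩ := Algebra.FiniteType.iff_quotient_mvPolynomial''.1 (inferInstance : Algebra.FiniteType Λ W)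
  let P := Localization.AtPrime (w.comap π₀)
  haveI : Algebra.FormallySmooth Λ P := Algebra.FormallySmooth.comp Λ (MvPolynomial (Fin n) Λ) P
  have hu : ∀ y : (w.comap π₀).primeCompl, IsUnit (algebraMap W B (π₀ y.1)) :=
    fun y => IsLocalization.map_units B (⟨π₀ y.1, y.2⟩ : w.primeCompl)
  let f : P →ₐ[Λ] B := IsLocalization.liftAlgHom (M := (w.comap π₀).primeCompl)
    (f := (IsScalarTower.toAlgHom Λ W B).comp π₀) hu
  have hf : ∀ x, f (algebraMap (MvPolynomial (Fin n) Λ) P x) = algebraMap W B (π₀ x) := fun x =>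
    IsLocalization.lift_eq (M := (w.comap π₀).primeCompl) hu x
  have hfs' : Function.Surjective f := by
    intro y
    obtain ⟨⟨a, s⟩, hy⟩ := IsLocalization.surj w.primeCompl y
    obtain ⟨a, rfl⟩ := hπ₀ a
    obtain ⟨t, ht⟩ := hπ₀ s.1
    have htm : t ∈ (w.comap π₀).primeCompl := fun h' => s.2 (ht ▸ h')
    refine ⟨IsLocalization.mk' P a ⟨t, htm⟩, ?_⟩
    refine (IsLocalization.lift_mk'_spec (M := (w.comap π₀).primeCompl) a y ⟨t, htm⟩ (hg := hu)).2 ?_
    show algebraMap W B (π₀ a) = algebraMap W B (π₀ t) * y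
    rw [ht, mul_comm, ← hy]
  -- the residue map
  let ρ : B →ₐ[Λ] K := IsLocalization.liftAlgHom (M := w.primeCompl) (f := g₀) fun y =>
    isUnit_iff_ne_zero.2 fun h0 => y.2 (RingHom.mem_ker.2 h0)
  have hρW : ∀ x, ρ (algebraMap W B x) = g₀ x := fun x => IsLocalization.lift_eq _ x
  have hρs : Function.Surjective ρ := fun x => by
    obtain ⟨a, b, hb, hx⟩ := hK x
    have hbw : algebraMap Λ W b ∉ w := fun h' => hb (by rw [← g₀.commutes]; exact h')
    refine ⟨IsLocalization.mk' B (algebraMap Λ W a) (⟨algebraMap Λ W b, hbw⟩ : w.primeCompl), mul_left_cancel₀ hb ?_⟩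
    have h1 := congrArg ρ (IsLocalization.mk'_spec' B (algebraMap Λ W a) (⟨algebraMap Λ W b, hbw⟩ : w.primeCompl))
    rw [map_mul, hρW, hρW, g₀.commutes, g₀.commutes] at h1
    rw [h1, hx]
  have hρ : RingHom.ker ρ.toRingHom = IsLocalRing.maximalIdeal B :=
    IsLocalRing.eq_maximalIdeal (RingHom.ker_isMaximal_of_surjective _ hρs)
  exact formallySmooth_of_sections w.primeCompl f hfs' fun B' _ _ π hπ hI =>
    exists_section_of_slice hV bK g₀ G₀ hG₀ hG₀b σb hσb hs fs h m hfs hh h₃ h₄ h₅ h₆ π hπ hI ρ hρW hρs hρ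

end Groth.Agent.Bootst16
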