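import Groth.Agent.Lib.Bootst16.Slice
import Groth.Agent.Lib.Bootst16.SmoothPt
import Mathlib.RingTheory.Jacobson.Artinian
import Mathlib.RingTheory.HopkinsLevitzki

/-!
# Smooth points of the parameter rings over every point of the base
-/

universe u

open TensorProduct

set_option linter.style.haveILetI false
set_option backward.isDefEq.respectTransparency false
set_option backward.isDefEq.respectTransparency.types false

namespace Groth.Agent.Bootst16

theorem exists_finite_quotient (K : Type u) [Field K] {Cb : Type u} [CommRing Cb] [Algebra K Cb]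
    [Algebra.FiniteType K Cb] (m : Ideal Cb) [m.IsMaximal] (fs : List Cb) (h : Cb)
    (hle : Ideal.ofList fs ≤ m) (hh : h ∉ m) (huniq : ∀ P : Ideal Cb, P.IsPrime → Ideal.ofList fs ≤ P → h ∉ P → P = m) :
    ∃ (AK : Type u) (_ : CommRing AK) (_ : Algebra K AK) (σb : Cb →ₐ[K] AK) (n : ℕ)
      (_ : Module.Basis (Fin (n + 1)) K AK), Function.Surjective σb ∧ (∀ f ∈ fs, σb f = 0) ∧ IsUnit (σb h) ∧
        (∀ z, σb z = 0 → ∃ k, h ^ k * z ∈ Ideal.ofList fs) ∧
        ∀ P : Ideal Cb, P.IsPrime → RingHom.ker σb ≤ P → P = m := by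
  let I := Ideal.ofList fs
  let Q := Cb ⧸ I
  let hq : Q := Ideal.Quotient.mk I h
  let AK := Localization.Away hq
  haveI : Algebra.FiniteType K Q := inferInstance
  haveI : Algebra.FiniteType K AK := Algebra.FiniteType.trans (S := Q) inferInstance inferInstance
  let σb : Cb →ₐ[K] AK := (IsScalarTower.toAlgHom K Q AK).comp (Ideal.Quotient.mkₐ K I)
  have hσ : ∀ x, σb x = algebraMap Q AK (Ideal.Quotient.mk I x) := fun _ => rfl
  have hfs : ∀ f ∈ fs, σb f = 0 := fun f hf => by
    rw [hσ, (Ideal.Quotient.eq_zero_iff_mem (I := I)).2 (Ideal.subset_span (show f ∈ {x | x ∈ fs} from hf)), map_zero]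
  have hu : IsUnit (σb h) := IsLocalization.Away.algebraMap_isUnit hq
  have hcomap : ∀ P : Ideal AK, P.IsPrime → P.comap σb.toRingHom = m := fun P hP => by
    refine huniq _ (Ideal.IsPrime.comap _) ?_ fun h' => hP.ne_top (Ideal.eq_top_of_isUnit_mem _ h' hu)
    rw [Ideal.ofList, Ideal.span_le]
    intro f hf
    show σb f ∈ P
    rw [hfs f hf]
    exact P.zero_mem
  haveI : IsNoetherianRing AK := Algebra.FiniteType.isNoetherianRing K AK
  haveI : Ring.KrullDimLE 0 AK := Ring.KrullDimLE.mk₀ fun P hP => by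
    obtain ⟨M, hM, hPM⟩ := Ideal.exists_le_maximal P hP.ne_top
    have e : P.comap σb.toRingHom = M.comap σb.toRingHom := by rw [hcomap P hP, hcomap M hM.isPrime]
    have e2 : P = M := by
      refine IsLocalization.orderEmbedding (Submonoid.powers hq) AK |>.injective ?_
      show P.comap (algebraMap Q AK) = M.comap (algebraMap Q AK)
      exact Ideal.comap_injective_of_surjective _ Ideal.Quotient.mk_surjective e
    exact e2 ▸ hM
  haveI : IsArtinianRing AK := isArtinianRing_iff_krullDimLE_zero.2 inferInstance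
  haveI : Module.Finite K AK := (Module.finite_iff_isArtinianRing K AK).2 inferInstance
  haveI : Nontrivial AK := by
    refine ⟨⟨0, 1, fun h01 => ?_⟩⟩
    have h1 : σb 1 = 0 := by rw [map_one]; exact h01.symm
    rw [hσ, IsLocalization.map_eq_zero_iff (Submonoid.powers hq)] at h1
    obtain ⟨⟨_, k, rfl⟩, hk⟩ := h1
    change Ideal.Quotient.mk I h ^ k * Ideal.Quotient.mk I 1 = 0 at hk
    rw [← map_pow, ← map_mul, mul_one, Ideal.Quotient.eq_zero_iff_mem] at hk
    exact hh (Ideal.IsPrime.mem_of_pow_mem inferInstance k (hle hk))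
  have hs : Function.Surjective σb := by
    let N : Submodule K AK := LinearMap.range σb.toLinearMap
    let L : N →ₗ[K] N := (LinearMap.mulLeft K (σb h)).restrict fun x ⟨y, hy⟩ => ⟨h * y, by
      rw [← hy]; exact map_mul σb h y⟩
    have hL : Function.Injective L := fun x y e => Subtype.ext (hu.mul_left_cancel (congrArg Subtype.val e))
    obtain ⟨⟨v, t, rfl⟩, hv⟩ := LinearMap.injective_iff_surjective.1 hL ⟨1, 1, map_one σb⟩
    have hv' : σb h * σb t = 1 := congrArg Subtype.val hv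
    intro y
    obtain ⟨⟨a, ⟨_, k, rfl⟩⟩, hy⟩ := IsLocalization.surj (Submonoid.powers hq) y
    obtain ⟨a, rfl⟩ := Ideal.Quotient.mk_surjective a
    refine ⟨a * t ^ k, ?_⟩
    rw [map_mul, map_pow, hσ a, ← hy]
    show y * algebraMap Q AK (hq ^ k) * σb t ^ k = y
    rw [map_pow, mul_assoc, ← mul_pow]
    show y * (σb h * σb t) ^ k = y
    rw [hv', one_pow, mul_one]
  obtain ⟨n, hn⟩ : ∃ n, Module.finrank K AK = n + 1 := Nat.exists_eq_succ_of_ne_zero Module.finrank_pos.ne'
  refine ⟨AK, inferInstance, inferInstance, σb, n, Module.finBasisOfFinrankEq K AK hn, hs, hfs, hu,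
    fun z hz => ?_, fun P hP hPle => ?_⟩
  · rw [hσ, IsLocalization.map_eq_zero_iff (Submonoid.powers hq)] at hz
    obtain ⟨⟨_, k, rfl⟩, hk⟩ := hz
    change Ideal.Quotient.mk I h ^ k * Ideal.Quotient.mk I z = 0 at hk
    rw [← map_pow, ← map_mul, Ideal.Quotient.eq_zero_iff_mem] at hk
    exact ⟨k, hk⟩
  · haveI := hP
    haveI : (P.map σb.toRingHom).IsPrime := Ideal.map_isPrime_of_surjective hs hPle
    rw [← hcomap (P.map σb.toRingHom) inferInstance, Ideal.comap_map_of_surjective σb.toRingHom hs,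
      ← RingHom.ker_eq_comap_bot]
    exact (sup_eq_left.2 hPle).symm

/-- over every prime whose fibre is nonempty some parameter ring has a smooth point -/
theorem exists_smooth_point {Λ C : Type u} [CommRing Λ] [CommRing C] [Algebra Λ C] [Algebra.FinitePresentation Λ C]
    [Module.Flat Λ C] (p : Ideal Λ) [p.IsPrime] [Nontrivial (p.ResidueField ⊗[Λ] C)] :
    ∃ (n : ℕ) (W AW : Type u) (_ : CommRing W) (_ : Algebra Λ W) (_ : CommRing AW) (_ : Algebra W AW)
      (bW : Module.Basis (Fin (n + 1)) W AW) (σW : C →+* AW) (w : PrimeSpectrum W),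
      Algebra.FinitePresentation Λ W ∧ IsVersal Λ C W AW bW σW ∧ w.asIdeal.comap (algebraMap Λ W) = p ∧
        Algebra.IsSmoothAt Λ w.asIdeal := by
  let K := p.ResidueField
  haveI : Algebra.FiniteType K (K ⊗[Λ] C) := Algebra.FiniteType.baseChange K
  obtain ⟨m, _, fs, h, hle, hreg, hh, hm, huniq⟩ := exists_slice K (K ⊗[Λ] C)
  obtain ⟨AK, _, _, σb, n, bK, hs, hfs, hu, h₃, h₅⟩ := exists_finite_quotient K m fs h hle hh huniq
  obtain ⟨W, AW, _, _, _, _, bW, σW, hfp, hV⟩ := exists_versal Λ C (n + 1)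
  let iC : C →ₐ[Λ] K ⊗[Λ] C := Algebra.TensorProduct.includeRight
  obtain ⟨⟨g₀, G₀, hG₀, hG₀b, hG₀c⟩, -⟩ := hV.2 K AK bK (σb.toRingHom.comp iC.toRingHom) fun l => by
    show σb (iC (algebraMap Λ C l)) = _
    rw [AlgHom.commutes, IsScalarTower.algebraMap_apply Λ K (K ⊗[Λ] C)]
    exact σb.commutes _
  have hK : ∀ x : K, ∃ a b : Λ, algebraMap Λ K b ≠ 0 ∧ algebraMap Λ K b * x = algebraMap Λ K a := fun x => by
    obtain ⟨a, b, hb, rfl⟩ := IsFractionRing.div_surjective (A := Λ ⧸ p) x
    obtain ⟨a, rfl⟩ := Ideal.Quotient.mk_surjective a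
    obtain ⟨b, rfl⟩ := Ideal.Quotient.mk_surjective b
    have e : ∀ l : Λ, algebraMap (Λ ⧸ p) K (Ideal.Quotient.mk p l) = algebraMap Λ K l := fun _ => rfl
    have hb' : algebraMap Λ K b ≠ 0 := by
      rw [← e]
      exact IsFractionRing.to_map_ne_zero_of_mem_nonZeroDivisors hb
    exact ⟨a, b, hb', by rw [e, e, mul_div_cancel₀ _ hb']⟩
  haveI := RingHom.ker_isPrime g₀.toRingHom
  refine ⟨n, W, AW, inferInstance, inferInstance, inferInstance, inferInstance, bW, σW,
    ⟨RingHom.ker g₀.toRingHom, inferInstance⟩, hfp, hV, ?_,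
    isSmoothAt_of_slice hV bK g₀ G₀ hG₀ hG₀b hK σb (fun c => (hG₀c c).symm) hs fs h m hfs hu h₃ hreg h₅ hle⟩
  rw [RingHom.comap_ker, show g₀.toRingHom.comp (algebraMap Λ W) = algebraMap Λ K from g₀.comp_algebraMap]
  exact p.ker_algebraMap_residueField

end Groth.Agent.Bootst16
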