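import Groth.Agent.Lib.Bootst16.CompChart
import Groth.Agent.Lib.Bootst16.SlicePoint
import Groth.Agent.Lib.Bootst16.PMap
import Groth.Agent.Lib.AlgSpRel14.Nbhd
import Groth.Agent.Lib.AlgSpace.Sub
import Mathlib.AlgebraicGeometry.Morphisms.Smooth
import Mathlib.AlgebraicGeometry.Morphisms.Etale

/-!
# Every point of the base is the image of a smooth point of the space of lifts
-/

universe u

open CategoryTheory CategoryTheory.Limits AlgebraicGeometry Opposite TensorProduct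

set_option linter.style.haveILetI false
set_option linter.unusedSectionVars false
set_option backward.isDefEq.respectTransparency false
set_option backward.isDefEq.respectTransparency.types false

namespace Groth.Agent.Bootst16

open AlgSp Groth.Agent.ChartLift16 Groth.Agent.AlgSpRel14

theorem near_smooth_of_isSmoothAt {Λ W : Type u} [CommRing Λ] [CommRing W] [Algebra Λ W]
    [Algebra.FinitePresentation Λ W] (w : PrimeSpectrum W) [Algebra.IsSmoothAt Λ w.asIdeal] :
    Near @Smooth (Spec (CommRingCat.of W)) (Spec (CommRingCat.of Λ)) (Spec.map (CommRingCat.ofHom (algebraMap Λ W))) w := by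
  obtain ⟨f, hf, hsm⟩ := Algebra.IsSmoothAt.exists_notMem_smooth Λ w.asIdeal
  let O : (Spec (CommRingCat.of W)).Opens := PrimeSpectrum.basicOpen f
  refine ⟨O, hf, ?_⟩
  have e : (basicOpenIsoSpecAway (R := CommRingCat.of W) f).hom ≫
      Spec.map (CommRingCat.ofHom (algebraMap W (Localization.Away f))) = O.ι :=
    IsOpenImmersion.isoOfRangeEq_hom_fac _ _ _
  rw [← e, Category.assoc, ← Spec.map_comp, ← CommRingCat.ofHom_comp]
  haveI : Smooth (Spec.map (CommRingCat.ofHom ((algebraMap W (Localization.Away f)).comp (algebraMap Λ W)))) := by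
    rw [HasRingHomProperty.Spec_iff (P := @Smooth), ← IsScalarTower.algebraMap_eq Λ W (Localization.Away f)]
    exact RingHom.smooth_algebraMap.2 hsm
  infer_instance

theorem near_smooth_comp {A B B' : Scheme.{u}} (ψ : A ⟶ B) [Etale ψ] {h : B ⟶ B'} {y : A}
    (hy : Near @Smooth B B' h (ψ y)) {B'' : Scheme.{u}} (j : B' ⟶ B'') [IsOpenImmersion j] :
    Near @Smooth A B'' (ψ ≫ h ≫ j) y := by
  obtain ⟨O, hO, hs⟩ := hy
  refine ⟨ψ ⁻¹ᵁ O, hO, ?_⟩
  rw [← Category.assoc, ← morphismRestrict_ι, Category.assoc, ← Category.assoc O.ι]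
  haveI : Etale (ψ ∣_ O) := IsZariskiLocalAtTarget.restrict (P := @Etale) inferInstance O
  infer_instance

variable {S : Scheme.{u}} {C₀ D₀ U : Over S} {dPr : D₀ ⟶ C₀}

section Chart

variable {d : ℕ} (E : FamComp dPr (famBasis.{u} d)) {Λ : Type u} [CommRing Λ] {sΛ : Spec (CommRingCat.of Λ) ⟶ S}
  (jO : baseO sΛ ⟶ U) [Mono jO] {C : Type u} [CommRing C] [Algebra Λ C] {W AW : Type u} [CommRing W] [Algebra Λ W]
  [CommRing AW] [Algebra W AW] {bW : Module.Basis (Fin d) W AW} {σW : C →+* AW} (hV : IsVersal Λ C W AW bW σW)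
  (aW : AlgData (d := d) W AW) (haW : aW.b = bW)

include hV haW

/-- the classifying map of the parameter ring is a monomorphism on schemes -/
theorem eq_of_toHom_eq {T' : Over S} {f f' : T' ⟶ tO sΛ W}
    (h : (yon S).map f ≫ (secMk E jO aW σW hV.1).toHom = (yon S).map f' ≫ (secMk E jO aW σW hV.1).toHom) : f = f' := by
  let 𝒰 := T'.left.affineCover
  refine Over.OverMorphism.ext (𝒰.hom_ext _ _ fun i => ?_)
  haveI : IsAffine (𝒰.X i) := inferInstanceAs (IsAffine (T'.left.affineCover.X i))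
  let R := Γ(𝒰.X i, ⊤)
  let ι₀ : Spec R ⟶ T'.left := (𝒰.X i).isoSpec.inv ≫ 𝒰.f i
  let χ := Spec.preimage (ι₀ ≫ (f ≫ tc sΛ W).left)
  have hχ : Spec.map χ = ι₀ ≫ (f ≫ tc sΛ W).left := Spec.map_preimage _
  letI : Algebra Λ R := χ.hom.toAlgebra
  let ι : tO sΛ R ⟶ T' := Over.homMk ι₀ (by
    show ι₀ ≫ T'.hom = Spec.map χ ≫ sΛ
    rw [hχ, Category.assoc]
    exact congrArg (ι₀ ≫ ·) (Over.w (f ≫ tc sΛ W)).symm)
  have hg := congrArg PSec.g (PSec.toHom_injective
    (((PSec.map_toHom f _).symm.trans h).trans (PSec.map_toHom f' _)))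
  have hff : f ≫ tc sΛ W = f' ≫ tc sΛ W := by
    rw [← cancel_mono jO, Category.assoc, Category.assoc]
    exact hg
  have h1 : (ι ≫ f) ≫ tc sΛ W = tc sΛ R := Over.OverMorphism.ext (by
    show (ι₀ ≫ f.left) ≫ _ = Spec.map χ
    rw [hχ, Category.assoc]
    rfl)
  have h2 : (ι ≫ f') ≫ tc sΛ W = tc sΛ R := by rw [Category.assoc, ← hff, ← Category.assoc, h1]
  obtain ⟨g, hg₁⟩ := exists_tmap sΛ _ h1
  obtain ⟨g', hg₁'⟩ := exists_tmap sΛ _ h2
  have key : g = g' := tmap_eq_of_res E jO hV aW haW (PSec.toHom_injective (by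
    rw [← PSec.map_toHom, ← PSec.map_toHom]
    refine (congrArg (fun m => (yon S).map m ≫ _) hg₁).trans ?_
    refine Eq.trans ?_ (congrArg (fun m => (yon S).map m ≫ _) hg₁').symm
    simp only [Functor.map_comp, Category.assoc]
    rw [h]))
  have e := congrArg CommaMorphism.left (hg₁.symm.trans ((congrArg (tmap sΛ) key).trans hg₁'))
  change ((𝒰.X i).isoSpec.inv ≫ 𝒰.f i) ≫ f.left = ((𝒰.X i).isoSpec.inv ≫ 𝒰.f i) ≫ f'.left at e
  rw [Category.assoc, Category.assoc, cancel_epi] at e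
  exact e

include E

variable [IsOpenImmersion jO.left] [Algebra.FinitePresentation Λ W]

/-- a smooth point of the parameter ring gives a smooth point of the lifts to the chart -/
theorem exists_smooth_pt_chart (hP : IsAlgSpace (pSp dPr ((yon S).map (chartU jO C)))) (w : PrimeSpectrum W)
    [Algebra.IsSmoothAt Λ w.asIdeal] :
    ∃ (Y : Over S) (a₁ : (yon S).obj Y ⟶ pSp dPr ((yon S).map (chartU jO C))) (g : Y ⟶ U) (y : Y.left),
      RepWith @Etale a₁ ∧ a₁ ≫ toT dPr _ = (yon S).map g ∧ Near @Smooth Y.left U.left g.left y ∧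
        g.left y = jO.left ((tc sΛ W).left w) := by
  let s := secMk E jO aW σW hV.1
  obtain ⟨Y₀, a, hae, has⟩ := hP.atlas
  let sqQ := hae.1.isPullback s.toHom
  obtain ⟨p₁, hp₁⟩ := (yon S).map_surjective (hae.1.fst s.toHom)
  let p₂ : hae.1.pullback s.toHom ⟶ tO sΛ W := hae.1.snd s.toHom
  change IsPullback _ ((yon S).map p₂) a s.toHom at sqQ
  rw [← hp₁] at sqQ
  haveI : Etale p₂.left := hae.2 s.toHom _ _ sqQ
  obtain ⟨y', hy'⟩ := AlgSpace.surjective_ofPt has (Points.ofPt s.toHom w)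
  obtain ⟨q₀, -, hq₀⟩ := AlgSpace.exists_pt_of_isPullback sqQ (x := Points.ofScheme Y₀ y') (t := w) (by
    rw [← Points.ofPt_eq_map_ofScheme, hy'])
  obtain ⟨sY, rfl⟩ := PSec.exists_toHom a
  have hpg : p₁ ≫ sY.g = p₂ ≫ s.g := (yon S).map_injective (by
    rw [(yon S).map_comp p₁ sY.g, (yon S).map_comp p₂ s.g, ← PSec.toHom_toT, ← PSec.toHom_toT, ← Category.assoc, sqQ.w,
      Category.assoc])
  have hpc : p₁ ≫ sY.c = p₂ ≫ s.c := (yon S).map_injective (by
    rw [(yon S).map_comp p₁ sY.c, (yon S).map_comp p₂ s.c, ← PSec.toHom_toC, ← PSec.toHom_toC, ← Category.assoc, sqQ.w,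
      Category.assoc])
  let y₀ := p₁.left q₀
  have hyc : sY.c.left y₀ ∈ E.O := by
    show sY.c.left (p₁.left q₀) ∈ E.O
    rw [← Scheme.Hom.comp_apply, ← Over.comp_left, hpc]
    exact E.range_κ W (sOf W) aW.φ ⟨p₂.left q₀, rfl⟩
  have hyg : sY.g.left y₀ ∈ jO.left.opensRange := by
    show sY.g.left (p₁.left q₀) ∈ jO.left.opensRange
    rw [← Scheme.Hom.comp_apply, ← Over.comp_left, hpg]
    exact ⟨(tc sΛ W).left (p₂.left q₀), rfl⟩
  obtain ⟨O', hO', hyO', hsub⟩ := exists_isAffineOpen_mem_and_subset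
    (U := (sY.c.left ⁻¹ᵁ E.O) ⊓ (sY.g.left ⁻¹ᵁ jO.left.opensRange)) (x := y₀) ⟨hyc, hyg⟩
  let R := Γ(Y₀.left, O')
  have hrg : Set.range (hO'.fromSpec ≫ sY.g.left) ⊆ Set.range jO.left := by
    rintro _ ⟨x, rfl⟩
    exact (hsub (hO'.range_fromSpec.subset ⟨x, rfl⟩)).2
  let χ := Spec.preimage (R := CommRingCat.of Λ) (S := R) (IsOpenImmersion.lift jO.left _ hrg)
  have hχ : Spec.map χ ≫ jO.left = hO'.fromSpec ≫ sY.g.left := by
    rw [Spec.map_preimage]
    exact IsOpenImmersion.lift_fac _ _ _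
  letI : Algebra Λ R := χ.hom.toAlgebra
  let ιY : tO sΛ R ⟶ Y₀ := Over.homMk hO'.fromSpec (by
    show hO'.fromSpec ≫ Y₀.hom = Spec.map χ ≫ sΛ
    rw [← Over.w sY.g, ← Category.assoc, ← hχ, Category.assoc, Over.w jO]
    rfl)
  haveI : Etale ιY.left := inferInstanceAs (Etale hO'.fromSpec)
  obtain ⟨g, hg⟩ := exists_tmap_of_sec E jO hV aW haW (R := R) (PSec.res dPr _ ιY sY)
    (Over.OverMorphism.ext hχ.symm) (by
      rintro _ ⟨x, rfl⟩
      exact (hsub (hO'.range_fromSpec.subset ⟨x, rfl⟩)).1)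
  let a₁ := (yon S).map ιY ≫ sY.toHom
  have ha₁ : a₁ = (yon S).map (tmap sΛ g) ≫ s.toHom := by
    rw [PSec.map_toHom, show a₁ = _ from PSec.map_toHom ιY sY, hg]
  have sqY : IsPullback ((yon S).map (pullback.fst ιY p₁)) ((yon S).map (pullback.snd ιY p₁ ≫ p₂)) a₁ s.toHom := by
    rw [(yon S).map_comp (pullback.snd ιY p₁) p₂]
    exact ((IsPullback.of_hasPullback ιY p₁).map (yon S)).paste_vert sqQ
  let q₁ := pullback.snd ιY p₁ ≫ p₂
  let q₂ := pullback.fst ιY p₁
  haveI : Etale q₁.left := by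
    haveI : Etale (pullback.snd ιY p₁).left := prop_pullback_snd ιY p₁ inferInstance
    rw [Over.comp_left]
    infer_instance
  have hψ : q₂ ≫ tmap sΛ g = q₁ := eq_of_toHom_eq E jO hV aW haW (by
    rw [(yon S).map_comp q₂ (tmap sΛ g), Category.assoc, ← ha₁, sqY.w])
  obtain ⟨sec, hs₂, hs₁⟩ : ∃ sec : tO sΛ R ⟶ pullback ιY p₁, sec ≫ q₂ = 𝟙 _ ∧ sec ≫ q₁ = tmap sΛ g := by
    obtain ⟨m, hm⟩ := (yon S).map_surjective (sqY.lift (𝟙 _) ((yon S).map (tmap sΛ g))
      (by rw [Category.id_comp, ← ha₁]))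
    refine ⟨m, (yon S).map_injective ?_, (yon S).map_injective ?_⟩
    · rw [Functor.map_comp, hm, sqY.lift_fst, CategoryTheory.Functor.map_id]
    · rw [Functor.map_comp, hm, sqY.lift_snd]
  have hqs : q₂ ≫ sec = 𝟙 _ := (yon S).map_injective (sqY.hom_ext
    (by rw [← Functor.map_comp, ← Functor.map_comp, Category.assoc, hs₂, Category.comp_id, Category.id_comp])
    (by rw [← Functor.map_comp, ← Functor.map_comp, Category.assoc, hs₁, Category.id_comp, hψ]))
  haveI : IsIso sec := ⟨q₂, hs₂, hqs⟩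
  haveI : IsIso sec.left := inferInstanceAs (IsIso ((Over.forget S).map sec))
  haveI : Etale (tmap sΛ g).left := by
    rw [← hs₁, Over.comp_left]
    infer_instance
  obtain ⟨y, hy⟩ := hO'.range_fromSpec.superset hyO'
  obtain ⟨q, hq₂, hq₁⟩ := Scheme.exists_preimage_of_isPullback
    ((IsPullback.of_hasPullback ιY p₁).map (Over.forget S)) y q₀ hy
  have hyw : (tmap sΛ g).left y = w := by
    rw [← hq₂, ← hq₀, ← hq₁]
    exact congrArg (fun m : _ ⟶ tO sΛ W => m.left q) hψ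
  refine ⟨tO sΛ R, a₁, tmap sΛ g ≫ s.g, y,
    AlgSpace.repWith_comp ((repWith_yon_map_iff @Etale ιY).2 inferInstance) hae, ?_, ?_, ?_⟩
  · rw [ha₁, Category.assoc, PSec.toHom_toT, ← Functor.map_comp]
  · rw [Over.comp_left]
    refine near_smooth_comp (tmap sΛ g).left (h := (tc sΛ W).left) ?_ jO.left
    rw [hyw]
    exact near_smooth_of_isSmoothAt w
  · rw [← hyw]
    rfl

end Chart

variable [IsFinite dPr.left] [Flat dPr.left] [LocallyOfFinitePresentation dPr.left] [LocallyOfFinitePresentation C₀.hom]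

/-- over every point in the image of a flat chart the lifts have a smooth point -/
theorem exists_smooth_lift (Fam : FamSys dPr) {F : Sp S} (hF : IsAlgSpace F)
    {a : F ⟶ (yon S).obj U} (haf : LocP @Flat a) (hal : LocP @LocallyOfFinitePresentation a) (u : U.left)
    (hu : ∃ x, Points.map a x = Points.ofScheme U u) :
    ∃ p : Points (pSp dPr a), Points.map (toT dPr a) p = Points.ofScheme U u ∧
      HasAtMor (Near @Smooth) (toT dPr a) p := by
  obtain ⟨x, hx⟩ := hu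
  obtain ⟨V, a₀, hae, has⟩ := hF.atlas
  obtain ⟨v, rfl⟩ := AlgSpace.surjective_ofPt has x
  obtain ⟨v₀, hv₀⟩ := (yon S).map_surjective (a₀ ≫ a)
  haveI hfl : Flat v₀.left := haf a₀ (𝟙 _) v₀ hae (AlgSp.repWith_id _ _) (by rw [Category.comp_id, hv₀])
  haveI hlfp : LocallyOfFinitePresentation v₀.left :=
    hal a₀ (𝟙 _) v₀ hae (AlgSp.repWith_id _ _) (by rw [Category.comp_id, hv₀])
  have hvu : v₀.left v = u := by
    rw [Points.map_ofPt, ← hv₀, AlgSpDecent.ofPt_map_eq] at hx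
    exact (Points.schemeEquiv U).injective hx
  obtain ⟨O, hO, huO, -⟩ := exists_isAffineOpen_mem_and_subset (x := u) (U := (⊤ : U.left.Opens)) trivial
  obtain ⟨O', hO', hvO', hsub⟩ := exists_isAffineOpen_mem_and_subset (x := v) (U := v₀.left ⁻¹ᵁ O)
    (show v₀.left v ∈ O by rw [hvu]; exact huO)
  let Λ := Γ(U.left, O)
  let C := Γ(V.left, O')
  let sΛ : Spec (CommRingCat.of Λ) ⟶ S := hO.fromSpec ≫ U.hom
  let jO : baseO sΛ ⟶ U := Over.homMk hO.fromSpec rfl
  let α := v₀.left.appLE O O' hsub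
  letI : Algebra Λ C := α.hom.toAlgebra
  haveI : Algebra.FinitePresentation Λ C :=
    RingHom.finitePresentation_algebraMap.1 (HasRingHomProperty.appLE @LocallyOfFinitePresentation v₀.left hlfp ⟨O, hO⟩ ⟨O', hO'⟩ hsub)
  haveI : Module.Flat Λ C :=
    RingHom.flat_algebraMap_iff.1 (HasRingHomProperty.appLE @Flat v₀.left hfl ⟨O, hO⟩ ⟨O', hO'⟩ hsub)
  have hsq : Spec.map α ≫ hO.fromSpec = hO'.fromSpec ≫ v₀.left := IsAffineOpen.SpecMap_appLE_fromSpec _ hO hO' hsub
  let jV : tO sΛ C ⟶ V := Over.homMk hO'.fromSpec (by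
    show hO'.fromSpec ≫ V.hom = Spec.map α ≫ hO.fromSpec ≫ U.hom
    rw [← Category.assoc (Spec.map α), hsq, Category.assoc, Over.w v₀])
  haveI : Etale jV.left := inferInstanceAs (Etale hO'.fromSpec)
  haveI : IsOpenImmersion jO.left := inferInstanceAs (IsOpenImmersion hO.fromSpec)
  haveI : Mono jO := (Over.forget S).mono_of_mono_map (show Mono jO.left by infer_instance)
  have hjv : jV ≫ v₀ = chartU jO C := Over.OverMorphism.ext hsq.symm
  let z := (yon S).map jV ≫ a₀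
  have hz : z ≫ a = (yon S).map (chartU jO C) := by rw [Category.assoc, ← hv₀, ← Functor.map_comp, hjv]
  have hze : RepWith @Etale z := AlgSpace.repWith_comp ((repWith_yon_map_iff @Etale jV).2 inferInstance) hae
  haveI : IsAffine (tO sΛ C).left := inferInstanceAs (IsAffine (Spec (CommRingCat.of C)))
  have hpm := isEtaleMor_pMap dPr z hF hal hze (chartU jO C) hz
  have hv : LocP @LocallyOfFinitePresentation ((yon S).map (chartU jO C)) := by
    rw [StAlg16.locP_yon_iff, ← hjv, Over.comp_left]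
    infer_instance
  obtain ⟨hP, -⟩ := pSp_space dPr ((yon S).map (chartU jO C)) (IsAlgSpace.yon_obj _) hv
  let p := hO.primeIdealOf ⟨u, huO⟩
  let q := hO'.primeIdealOf ⟨v, hvO'⟩
  have hpq : Spec.map α q = p := hO.fromSpec.isOpenEmbedding.injective (by
    rw [← Scheme.Hom.comp_apply, hsq, Scheme.Hom.comp_apply, hO'.fromSpec_primeIdealOf, hO.fromSpec_primeIdealOf]
    exact hvu)
  have hpq' : p.asIdeal = q.asIdeal.comap (Algebra.ofId Λ C).toRingHom := (congrArg PrimeSpectrum.asIdeal hpq).symm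
  haveI : Nontrivial (p.asIdeal.ResidueField ⊗[Λ] C) :=
    (Algebra.TensorProduct.lift (Ideal.ResidueField.mapₐ p.asIdeal q.asIdeal (Algebra.ofId Λ C) hpq')
      (IsScalarTower.toAlgHom Λ C q.asIdeal.ResidueField) fun _ _ => .all _ _).toRingHom.domain_nontrivial
  obtain ⟨n, W, AW, _, _, _, _, bW, σW, w, hfp, hV, hwp, hsm⟩ := exists_smooth_point (C := C) p.asIdeal
  obtain ⟨φ, Ψ, hΨ, hΨb⟩ := exists_famHom (n + 1) W AW bW
  obtain ⟨Y, a₁, g, y, ha₁, hag, hnear, hgy⟩ := exists_smooth_pt_chart (Fam n) jO hV ⟨φ, Ψ, bW, hΨ, hΨb⟩ rfl hP w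
  have hge : (a₁ ≫ pMap dPr z hz) ≫ toT dPr a = (yon S).map g ≫ 𝟙 _ := by
    rw [Category.assoc, pMap_toT, hag, Category.comp_id]
  refine ⟨Points.ofPt (a₁ ≫ pMap dPr z hz) y, ?_,
    (hasAtMor_near_iff @Smooth (hpm a₁ ha₁) (AlgSp.repWith_id _ _) hge y).2 hnear⟩
  rw [Points.map_ofPt, hge, Category.comp_id, AlgSpDecent.ofPt_map_eq, hgy]
  congr 1
  have hwp' : (tc sΛ W).left w = p := PrimeSpectrum.ext hwp
  rw [hwp']
  exact hO.fromSpec_primeIdealOf ⟨u, huO⟩

end Groth.Agent.Bootst16
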