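import Groth.Agent.Lib.Bootst16.PSpSpace
import Groth.Agent.Lib.ChartLift16.Rep
import Groth.Agent.Lib.StAlg16.Setoid
import Groth.Agent.Lib.StAlg16.LocQ

/-!
# The space of trivializations along a finite locally free cover
-/

universe u

open CategoryTheory CategoryTheory.Functor CategoryTheory.Limits AlgebraicGeometry Opposite

set_option linter.style.haveILetI false
set_option linter.unusedSectionVars false
set_option backward.isDefEq.respectTransparency false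
set_option backward.isDefEq.respectTransparency.types false

namespace Groth.Agent.Bootst16

open Groth.Agent.FC16 Groth.Agent.IsoNat5 Groth.Agent.ChartLift16 Groth.Agent.StAlg Groth.Agent.StAlg16

variable {S : Scheme.{u}} {C D U : Over S} (dPr : D ⟶ C) [IsFinite dPr.left] [Flat dPr.left]
  [LocallyOfFinitePresentation dPr.left] [Surjective dPr.left]

theorem dfst_mem_fppf {T : Over S} (c : T ⟶ C) :
    Sieve.generate (Presieve.singleton (dfst dPr c)) ∈ QuotSh.J Scheme.fppfPrecoverage S T := by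
  haveI : Flat (dfst dPr c).left := prop_dfst c inferInstance
  haveI : LocallyOfFinitePresentation (dfst dPr c).left := prop_dfst c inferInstance
  haveI hs : Surjective (dfst dPr c).left := prop_dfst c inferInstance
  let 𝒰 : T.left.Cover Scheme.fppfPrecoverage.{u} :=
    Scheme.Cover.mkOfCovers PUnit.{u + 1} (fun _ => (dObj dPr c).left) (fun _ => (dfst dPr c).left)
      (fun t => ⟨PUnit.unit, hs.surj t⟩) (fun _ => ⟨inferInstance, inferInstance⟩)
  refine (AlgSpace.mem_J_iff _).2 ⟨𝒰, fun k => ?_⟩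
  rw [AlgSpace.overEquiv_arrow]
  exact ⟨dObj dPr c, Over.homMk (𝟙 (dObj dPr c).left) (by simp [𝒰]; exact Category.id_comp _), dfst dPr c, ⟨⟩,
    Over.OverMorphism.ext (Category.id_comp _)⟩

variable {𝒳 : AlgSt.Cat S} (h𝒳 : Stk.IsStack (QuotSh.J Scheme.fppfPrecoverage S) 𝒳)
  (x : FibCat.overCat U ⥤ᵇ 𝒳)

include h𝒳 in
theorem cat_isFibSetoid : FibCat.IsFibSetoid (cat dPr x).p := by
  refine ⟨cat_isFibGrpd h𝒳.1, fun T A B => ⟨fun a b => Functor.Fiber.hom_ext ?_⟩⟩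
  obtain ⟨A, hA⟩ := A
  obtain ⟨B, hB⟩ := B
  obtain ⟨a, ha⟩ := a
  obtain ⟨b, hb⟩ := b
  change Obj dPr x at A B
  change Obj.Hom A B at a b
  subst hA
  have hf : a.f = b.f :=
    (@IsHomLift.fac' _ _ _ _ (cat dPr x).p _ _ _ _ _ (a : (A : (cat dPr x).obj) ⟶ B) ha).trans
      (@IsHomLift.fac' _ _ _ _ (cat dPr x).p _ _ _ _ _ (b : (A : (cat dPr x).obj) ⟶ B) hb).symm
  have hx : x.map (sl (dmap a.f a.hc) a.hu) ≫ B.φ = x.map (sl (dmap b.f b.hc) b.hu) ≫ B.φ :=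
    congrArg (fun m => x.map m ≫ B.φ) (Over.OverMorphism.ext (by
      show dmap a.f a.hc = dmap b.f b.hc
      congr 1))
  rw [a.hφ, b.hφ] at hx
  refine hom_ext ?_
  haveI : 𝒳.p.IsHomLift (𝟙 A.base) a.ψ :=
    @BasedFunctor.preserves_isHomLift _ _ _ _ (forget dPr x) _ _ _ _ _ (a : (A : (cat dPr x).obj) ⟶ B) ha
  haveI : 𝒳.p.IsHomLift (𝟙 A.base) b.ψ :=
    @BasedFunctor.preserves_isHomLift _ _ _ _ (forget dPr x) _ _ _ _ _ (b : (A : (cat dPr x).obj) ⟶ B) hb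
  refine StAlg16.hom_ext_of_cover (isPrestack_of_isStack _ h𝒳) (dfst_mem_fppf dPr A.c) a.ψ b.ψ ?_
  rintro w π V g ⟨_, q, _, ⟨⟩, rfl⟩ hπ
  haveI := A.hφ
  haveI := hπ
  haveI := FC16.isStronglyCartesian h𝒳.1 (dfst dPr A.c) A.φ
  rw [← IsStronglyCartesian.fac 𝒳.p (dfst dPr A.c) A.φ (g := q) rfl π, Category.assoc, Category.assoc, hx]

variable [LocallyOfFinitePresentation C.hom]
  (hx₁ : AlgSt.RepByAlgSpWith (AlgSp.LocP @Flat) x)
  (hx₂ : AlgSt.RepByAlgSpWith (AlgSp.LocP @LocallyOfFinitePresentation) x)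
  (hx₃ : AlgSt.RepByAlgSpWith AlgSp.IsSurjectiveMor x)

include h𝒳 hx₂ in
theorem forget_repLfp : AlgSt.RepByAlgSpWith (AlgSp.LocP @LocallyOfFinitePresentation) (forget dPr x) := by
  intro T y
  obtain ⟨F, e, he, ha⟩ := hx₂ T y
  obtain ⟨hP, hT⟩ := pSp_space dPr (repMap x y e) F.property ha
  refine ⟨⟨_, hP⟩, psi dPr h𝒳.1 x y he, psi_isEquivOver h𝒳.1 he, ?_⟩
  rw [spMap_psi]
  exact hT

include h𝒳 hx₂ in
theorem cat_isStack : Stk.IsStack (QuotSh.J Scheme.fppfPrecoverage S) (cat dPr x) :=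
  isStack_of_rep1 (cat_isFibGrpd h𝒳.1) h𝒳 (forget dPr x) (repByAlgSp1_of_with (forget_repLfp dPr h𝒳 x hx₂))

include h𝒳 hx₁ hx₂ hx₃ in
/-- the trivializations form an algebraic space -/
theorem cat_rep : AlgSt.RepByAlgSp (cat dPr x) := by
  obtain ⟨G, e, he⟩ := StAlg.exists_psh.{u + 1} (cat_isFibSetoid dPr h𝒳 x)
  have hG : Presieve.IsSheaf (QuotSh.J Scheme.fppfPrecoverage S) G :=
    (isStack_ofPsh_iff _ G).1 ((isStack_iff_of_isEquivOver _ he).2 (cat_isStack dPr h𝒳 x hx₂))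
  let F : AlgSp.Sp S := ⟨G, (isSheaf_iff_isSheaf_of_type _ _).2 hG⟩
  obtain ⟨A, eA, heA, ha⟩ := hx₂ U x
  obtain ⟨hP, -⟩ := pSp_space dPr (repMap x x eA) A.property ha
  let E := psi dPr h𝒳.1 x x heA
  have hE : FibCat.IsEquivOver E := psi_isEquivOver h𝒳.1 heA
  let w := FibCat.fpSnd x (forget dPr x)
  obtain ⟨e', he', ⟨α⟩, ⟨β⟩⟩ := exists_inverse he
  let Φ : AlgSt.ofSp (pSp dPr (repMap x x eA)) ⥤ᵇ Stk.ofPsh G := BasedFunctor.comp (BasedFunctor.comp E w) e'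
  let p : pSp dPr (repMap x x eA) ⟶ F := ObjectProperty.homMk (mapOf Φ)
  have key : ∀ {P : MorphismProperty (AlgSp.Sp S)}, PreIso P → AlgSt.RepByAlgSpWith P x →
      AlgSp.RepBySpWith P p.hom := fun {P} hPi h =>
    repBySpWith_of_with hPi ((with_congr (f := w) (f' := Stk.ofPshMap (mapOf Φ)) (a := E)
      (b := e) hE he
      (wrIso (isoMapOf Φ).symm e ≪≫ wlIso (BasedFunctor.comp E w) β)).1 (with_fpSnd (forget dPr x) h))
  have hp : AlgSp.RepBySpWith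
      (AlgSp.IsSurjectiveMor ⊓ AlgSp.LocP @Flat ⊓ AlgSp.LocP @LocallyOfFinitePresentation) p.hom :=
    repBySpWith_inf (repBySpWith_inf (key goodP_surjective.preIso hx₃)
      (key (goodP_locP (P := @Flat)).preIso hx₁))
      (key (goodP_locP (P := @LocallyOfFinitePresentation)).preIso hx₂)
  exact ⟨⟨F, AlgSpace.isAlgSpace_of_repBySp_fppf p hP hp⟩, e, he⟩

include h𝒳 hx₁ hx₂ hx₃ in
/-- an etale atlas of the trivializations -/
theorem exists_atlas : ∃ (W : Over S) (w : FibCat.overCat W ⥤ᵇ cat dPr x),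
    AlgSt.RepByAlgSpWith (AlgSp.LocP @Smooth) w ∧ AlgSt.RepByAlgSpWith AlgSp.IsSurjectiveMor w ∧
      AlgSt.RepByAlgSpWith (AlgSp.LocP @LocallyOfFinitePresentation) (BasedFunctor.comp w (forget dPr x)) := by
  obtain ⟨W, w, hw, hws⟩ := (isDM_of_rep (cat_rep dPr h𝒳 x hx₁ hx₂ hx₃)).1.atlas
  exact ⟨W, w, hw, hws, with_comp goodP_locP (overCat_isFibGrpd W) (cat_isFibGrpd h𝒳.1)
    (with_locP_mono smooth_le_lfp hw) (forget_repLfp dPr h𝒳 x hx₂)⟩

end Groth.Agent.Bootst16
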