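import Groth.Agent.Lib.Bootst16.SmoothPart
import Groth.Agent.Lib.Bootst16.StackCat
import Groth.Agent.Lib.Bootst16.Points

/-!
# A stack with a flat cover locally of finite presentation by a scheme is algebraic
-/

universe u

open CategoryTheory CategoryTheory.Functor CategoryTheory.Limits AlgebraicGeometry Opposite

set_option linter.style.haveILetI false
set_option linter.unusedSectionVars false
set_option backward.isDefEq.respectTransparency false
set_option backward.isDefEq.respectTransparency.types false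

namespace Groth.Agent.Bootst16

open Groth.Agent.FC16 Groth.Agent.StAlg Groth.Agent.StAlg16 Groth.Agent.ChartLift16 Groth.Agent.AlgSpRel14 AlgSt

variable {S : Scheme.{u}}

theorem hasAtMor_near_smooth_comp {A P : AlgSp.Sp S} {U : Over S} (hA : AlgSp.IsAlgSpace A) (hP : AlgSp.IsAlgSpace P)
    {φ : A ⟶ P} (hφ : AlgSp.LocP @Smooth φ) {t : P ⟶ (AlgSp.yon S).obj U} (q : AlgSp.Points A)
    (hq : AlgSp.HasAtMor (Near @Smooth) t (AlgSp.Points.map φ q)) :
    AlgSp.HasAtMor (Near @Smooth) (φ ≫ t) q := by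
  obtain ⟨Z, Y, a, b, h, z, hae, hbe, w, rfl⟩ := exists_diagram hA hP φ q
  haveI : Smooth h.left := hφ a b h hae hbe w
  obtain ⟨g, hg⟩ := (AlgSp.yon S).map_surjective (b ≫ t)
  have wg : b ≫ t = (AlgSp.yon S).map g ≫ 𝟙 _ := by rw [Category.comp_id, hg]
  rw [AlgSp.Points.map_ofPt, w, AlgSpDecent.ofPt_map_comp,
    hasAtMor_near_iff @Smooth hbe (AlgSp.repWith_id _ _) wg] at hq
  have wgh : a ≫ φ ≫ t = (AlgSp.yon S).map (h ≫ g) ≫ 𝟙 _ := by
    rw [Category.comp_id, ← Category.assoc, w, Category.assoc, ← hg, ← Functor.map_comp]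
  rw [hasAtMor_near_iff @Smooth hae (AlgSp.repWith_id _ _) wgh]
  obtain ⟨O, hO, hs⟩ := hq
  refine ⟨h.left ⁻¹ᵁ O, hO, ?_⟩
  rw [Over.comp_left, ← Category.assoc, ← morphismRestrict_ι, Category.assoc]
  haveI : Smooth (h.left ∣_ O) := IsZariskiLocalAtTarget.restrict (P := @Smooth) inferInstance O
  infer_instance

section

variable {𝒳 : AlgSt.Cat S} {U W : Over S} {C D : Over S} {dPr : D ⟶ C} (h𝒳 : FibCat.IsFibGrpd 𝒳.p)
  (x : FibCat.overCat U ⥤ᵇ 𝒳) {F : AlgSp.Sp S} {eF : AlgSt.ofSp F ⥤ᵇ FibCat.fp x x} (heF : FibCat.IsEquivOver eF)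
  (w : FibCat.overCat W ⥤ᵇ cat dPr x)

include h𝒳 heF in
/-- the base change of the atlas of the trivializations -/
theorem exists_to_pSp (hw : AlgSt.RepByAlgSpWith (AlgSp.LocP @Smooth) w)
    (hws : AlgSt.RepByAlgSpWith AlgSp.IsSurjectiveMor w) (hP : AlgSp.IsAlgSpace (pSp dPr (repMap x x eF)))
    (A : AlgSp.Space S) (a : A.obj ⟶ (AlgSp.yon S).obj U)
    (e : AlgSt.ofSp A.obj ⥤ᵇ
      FibCat.fp (BasedFunctor.comp (AlgSt.toOverCat U) x) (BasedFunctor.comp w (forget dPr x)))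
    (he : FibCat.IsEquivOver e)
    (i : BasedFunctor.comp e (FibCat.fpFst _ _) ≅ AlgSt.ofSpMap a) :
    ∃ φ : A.obj ⟶ pSp dPr (repMap x x eF), AlgSp.LocP @Smooth φ ∧ AlgSp.IsSurjectiveMor φ ∧
      φ ≫ toT dPr (repMap x x eF) = a := by
  let z := BasedFunctor.comp (AlgSt.toOverCat U) x
  obtain ⟨E', hE', -, ⟨β'⟩⟩ := exists_inverse (pasteR_isEquivOver z (forget dPr x) w)
  let Θ : FibCat.fp z (BasedFunctor.comp w (forget dPr x)) ⥤ᵇ FibCat.fp z (forget dPr x) :=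
    BasedFunctor.comp E' (FibCat.fpFst (FibCat.fpSnd z (forget dPr x)) w)
  let hΨ := psi_isEquivOver (dPr := dPr) h𝒳 (x := x) (y := x) heF
  let T : FibCat.fp x (forget dPr x) ⥤ᵇ FibCat.fp z (forget dPr x) :=
    fpMap (F := x) (G := forget dPr x) (F' := z) (G' := forget dPr x) (a := AlgSt.ofOverCat U)
      (b := BasedFunctor.id _) (s := BasedFunctor.id _) (Iso.refl _) (Iso.refl _)
  haveI := idFun_full (𝒳 := 𝒳)
  haveI := idFun_faithful (𝒳 := 𝒳)
  have hT : FibCat.IsEquivOver T := fpMap_isEquivOver _ _ (ofOverCat_isEquivOver U) isEquivOver_id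
  let B := BasedFunctor.comp (psi dPr h𝒳 x x heF) T
  have hB : FibCat.IsEquivOver B := isEquivOver_comp hΨ hT
  obtain ⟨Bi, -, -, ⟨γ⟩⟩ := exists_inverse hB
  let Φ := BasedFunctor.comp (BasedFunctor.comp e Θ) Bi
  let φ : A.obj ⟶ pSp dPr (repMap x x eF) := ObjectProperty.homMk (mapOf Φ)
  let k : BasedFunctor.comp (AlgSt.ofSpMap φ) B ≅ BasedFunctor.comp e Θ :=
    wrIso (isoMapOf Φ).symm B ≪≫ wlIso (BasedFunctor.comp e Θ) γ
  have key : ∀ {Q : MorphismProperty (AlgSp.Sp S)}, PbP Q → AlgSp.IsLocalOnBase AlgSp.IsFppfCover Q →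
      GoodP Q → AlgSt.RepByAlgSpWith Q w → Q φ := fun hQ hQl hQg h => by
    have hΘ := with_comp_equiv hE' (with_fpFst (FibCat.fpSnd z (forget dPr x)) h)
    exact desc_of_local hQl A.property hP φ (repBySpWith_of_with (preIso_of_pullback hQ)
      ((with_congr (f := Θ) (f' := AlgSt.ofSpMap φ) (a := e) (b := B) he hB k).1 hΘ))
  refine ⟨φ, key GerbAbs.Chart.pbP_locP' isLocalOnBase_fppf_locP_smooth goodP_locP hw,
    key pbP_surjective GerbAbs.Chart.isLocalOnBase_fppf_surjective goodP_surjective hws, ?_⟩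
  apply ObjectProperty.hom_ext
  let j : BasedFunctor.comp (AlgSt.ofSpMap φ)
      (BasedFunctor.comp (BasedFunctor.comp (psi dPr h𝒳 x x heF) (FibCat.fpFst x (forget dPr x)))
        (AlgSt.ofOverCat U)) ≅ AlgSt.ofSpMap a :=
    wrIso k (FibCat.fpFst z (forget dPr x)) ≪≫
      wlIso e (wrIso β' (FibCat.fpFst z (BasedFunctor.comp w (forget dPr x)))) ≪≫ i
  show φ.hom ≫ (toT dPr (repMap x x eF)).hom = a.hom
  rw [← spMap_psi dPr h𝒳 x x heF, spMapOfOver_hom]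
  have h1 := (mapOf_congr j).trans (mapOf_ofPshMap a.hom)
  rw [mapOf_comp (AlgSt.ofSpMap φ), show mapOf (AlgSt.ofSpMap φ) = φ.hom from mapOf_ofPshMap φ.hom] at h1
  exact h1

end

/-- A stack with a flat surjective morphism locally of finite presentation from a scheme, representable by algebraic
spaces, is an algebraic stack. -/
theorem isAlgStack_of_fppf_cover {𝒳 : AlgSt.Cat S} (h𝒳 : Stk.IsStack (QuotSh.J Scheme.fppfPrecoverage S) 𝒳)
    {U : Over S} (x : FibCat.overCat U ⥤ᵇ 𝒳) (hx₁ : AlgSt.RepByAlgSpWith (AlgSp.LocP @Flat) x)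
    (hx₂ : AlgSt.RepByAlgSpWith (AlgSp.LocP @LocallyOfFinitePresentation) x)
    (hx₃ : AlgSt.RepByAlgSpWith AlgSp.IsSurjectiveMor x) : IsAlgStack Scheme.fppfPrecoverage 𝒳 := by
  obtain ⟨C, D, dPr, hC, h1, h2, h3, h4, Fam, -⟩ := exists_famSys S
  obtain ⟨W, w, hw, hws, hv⟩ := exists_atlas dPr h𝒳 x hx₁ hx₂ hx₃
  refine isAlgStack_of_smooth_points h𝒳 x hx₁ hx₂ hx₃ (BasedFunctor.comp w (forget dPr x)) hv
    fun A a e he ⟨i⟩ t => ?_
  let Pf : MorphismProperty (AlgSp.Sp S) := AlgSp.LocP @Flat ⊓ AlgSp.LocP @LocallyOfFinitePresentation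
  have hPf : PreIso Pf := fun _ _ h₁ h₂ e _ a h =>
    ⟨goodP_locP.preIso h₁ h₂ e a h.1, goodP_locP.preIso h₁ h₂ e a h.2⟩
  obtain ⟨F, eF, heF, ha⟩ := with_inf (P := Pf) hPf goodP_surjective.preIso (overCat_isFibGrpd U) h𝒳.1
    (with_inf goodP_locP.preIso goodP_locP.preIso (overCat_isFibGrpd U) h𝒳.1 hx₁ hx₂) hx₃ U x
  obtain ⟨u, rfl⟩ := (AlgSp.Points.schemeEquiv U).surjective t
  obtain ⟨p, hp, hps⟩ := exists_smooth_lift Fam F.property ha.1.1 ha.1.2 u (ha.2 _)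
  obtain ⟨hP, -⟩ := pSp_space dPr (repMap x x eF) F.property ha.1.2
  obtain ⟨φ, hφ, hφs, rfl⟩ := exists_to_pSp h𝒳.1 x heF w hw hws hP A a e he i
  obtain ⟨q, rfl⟩ := hφs p
  exact ⟨q, by rw [AlgSp.Points.map_comp]; exact hp, hasAtMor_near_smooth_comp A.property hP hφ q hps⟩

end Groth.Agent.Bootst16
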