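import Groth.Agent.Lib.Bootst16.ResSpace
import Mathlib.CategoryTheory.Limits.Constructions.Over.Products

/-!
# The sheaf of lifts of a space along a finite locally free cover is a space
-/

universe u

open CategoryTheory CategoryTheory.Limits AlgebraicGeometry Opposite

set_option linter.style.haveILetI false
set_option linter.unusedSectionVars false
set_option backward.isDefEq.respectTransparency false
set_option backward.isDefEq.respectTransparency.types false

namespace Groth.Agent.Bootst16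

open AlgSp Groth.Agent.ChartLift16

variable {S : Scheme.{u}} {C D T : Over S} (dPr : D ⟶ C) {F : Sp S} (a : F ⟶ (yon S).obj T)

/-- the cover over `T × C` -/
noncomputable abbrev lD (T : Over S) : Over S := dObj dPr (prod.snd : T ⨯ C ⟶ C)

/-- its map to `T` -/
noncomputable abbrev lT (T : Over S) : lD dPr T ⟶ T := dfst dPr (prod.snd : T ⨯ C ⟶ C) ≫ prod.fst

/-- the space to take sections of -/
noncomputable abbrev lB : pullback a ((yon S).map (lT dPr T)) ⟶ (yon S).obj (lD dPr T) := pullback.snd _ _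

/-- comparison of sheaves of sections and sheaves of lifts -/
noncomputable abbrev toPSec {T' : Over S}
    (s : RSec (dfst dPr (prod.snd : T ⨯ C ⟶ C)) (lB dPr a) T') : PSec dPr a T' where
  g := s.c ≫ prod.fst
  c := s.c ≫ prod.snd
  l := (yon S).map (sqInv (isPullback_dfst dPr prod.snd) s.c) ≫ s.l ≫ pullback.fst a _
  hl := by
    rw [Category.assoc, Category.assoc, pullback.condition, ← Category.assoc s.l, s.hl, ← Functor.map_comp,
      ← Functor.map_comp]
    congr 1
    simp only [lT, ← pullback.condition_assoc, pullback.lift_fst_assoc]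

theorem toPSec_res {T' T'' : Over S} (m : T'' ⟶ T') (s : RSec (dfst dPr (prod.snd : T ⨯ C ⟶ C)) (lB dPr a) T') :
    toPSec dPr a (RSec.res _ _ m s) = PSec.res dPr a m (toPSec dPr a s) := by
  refine PSec.ext' (Category.assoc _ _ _) (by rw [Category.id_comp]; exact Category.assoc _ _ _) ?_
  show (yon S).map _ ≫ (yon S).map _ ≫ ((yon S).map _ ≫ s.l) ≫ _ = (yon S).map _ ≫ (yon S).map _ ≫ s.l ≫ _
  rw [Category.assoc, ← Functor.map_comp_assoc, ← Functor.map_comp_assoc, ← Functor.map_comp_assoc]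
  congr 2
  refine pullback.hom_ext (by simp) ((isPullback_dfst dPr prod.snd).hom_ext ?_ ?_) <;> simp

/-- the comparison map -/
noncomputable def toPSp : resSp (dfst dPr (prod.snd : T ⨯ C ⟶ C)) (lB dPr a) ⟶ pSp dPr a :=
  ObjectProperty.homMk
    { app := fun _ => ↾fun s => toPSec dPr a s
      naturality := fun _ _ m => ConcreteCategory.hom_ext _ _ fun s => toPSec_res dPr a m.unop s }

theorem toHom_toPSp {T' : Over S} (s : RSec (dfst dPr (prod.snd : T ⨯ C ⟶ C)) (lB dPr a) T') :
    s.toHom ≫ toPSp dPr a = (toPSec dPr a s).toHom := by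
  apply AlgSpace.sect.injective
  rw [SpQuot16.sect_comp, RSec.toHom, PSec.toHom, Equiv.apply_symm_apply, Equiv.apply_symm_apply]
  rfl

theorem pSec_eq_of {T' : Over S} {g : T' ⟶ T} {c : T' ⟶ C} {l l' : (yon S).obj (dObj dPr c) ⟶ F}
    {hl : l ≫ a = (yon S).map (dfst dPr c ≫ g)} {hl' : l' ≫ a = (yon S).map (dfst dPr c ≫ g)} (h : l = l') :
    (⟨g, c, l, hl⟩ : PSec dPr a T') = ⟨g, c, l', hl'⟩ := by
  subst h
  rfl

theorem pSec_inj {T' : Over S} {g : T' ⟶ T} {c : T' ⟶ C} {l l' : (yon S).obj (dObj dPr c) ⟶ F}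
    {hl : l ≫ a = (yon S).map (dfst dPr c ≫ g)} {hl' : l' ≫ a = (yon S).map (dfst dPr c ≫ g)}
    (h : (⟨g, c, l, hl⟩ : PSec dPr a T') = ⟨g, c, l', hl'⟩) : l = l' := by
  injection h

instance isIso_toPSp : IsIso (toPSp dPr a) := AlgSpDescent.isIso_of_bijective_maps _ fun T' t => by
  obtain ⟨⟨g, c, l, hl⟩, rfl⟩ := PSec.exists_toHom t
  obtain ⟨c', rfl, rfl⟩ : ∃ c' : T' ⟶ T ⨯ C, c' ≫ prod.fst = g ∧ c' ≫ prod.snd = c :=
    ⟨prod.lift g c, prod.lift_fst _ _, prod.lift_snd _ _⟩
  have sq := isPullback_dfst dPr (prod.snd : T ⨯ C ⟶ C)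
  let m : (yon S).obj (dObj (dfst dPr (prod.snd : T ⨯ C ⟶ C)) c') ⟶ pullback a ((yon S).map (lT dPr T)) :=
    pullback.lift ((yon S).map (sqHom sq c') ≫ l) ((yon S).map (pullback.snd c' _)) (by
      rw [Category.assoc, hl, ← Functor.map_comp, ← Functor.map_comp]
      congr 1
      simp only [lT, ← pullback.condition_assoc, pullback.lift_fst_assoc])
  refine ⟨RSec.toHom ⟨c', m, pullback.lift_snd _ _ _⟩, ?_, ?_⟩
  · show _ ≫ toPSp dPr a = _
    rw [toHom_toPSp]
    congr 1
    refine pSec_eq_of dPr a ?_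
    rw [pullback.lift_fst, ← Functor.map_comp_assoc, sqInv_hom, CategoryTheory.Functor.map_id, Category.id_comp]
  · intro z hz
    obtain ⟨⟨c'', l', hl'⟩, rfl⟩ := RSec.exists_toHom z
    change _ ≫ toPSp dPr a = _ at hz
    rw [toHom_toPSp] at hz
    have hz' := PSec.toHom_injective hz
    obtain rfl : c'' = c' := Limits.prod.hom_ext (congrArg PSec.g hz') (congrArg PSec.c hz')
    have e := pSec_inj dPr a hz'
    congr 1
    refine RSec.mk_congr ?_
    apply pullback.hom_ext
    · rw [pullback.lift_fst, ← e, ← Functor.map_comp_assoc, sqHom_inv, CategoryTheory.Functor.map_id, Category.id_comp]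
    · rw [pullback.lift_snd, hl']

theorem toPSp_toT : toPSp dPr a ≫ toT dPr a = resπ _ (lB dPr a) ≫ (yon S).map prod.fst := by
  apply ObjectProperty.hom_ext
  ext T' s
  rfl

variable [IsFinite dPr.left] [Flat dPr.left] [LocallyOfFinitePresentation dPr.left]
  [LocallyOfFinitePresentation C.hom]

/-- lifts of a space locally of finite presentation along a finite locally free cover form such a space -/
theorem pSp_space (hF : IsAlgSpace F) (ha : LocP @LocallyOfFinitePresentation a) :
    IsAlgSpace (pSp dPr a) ∧ LocP @LocallyOfFinitePresentation (toT dPr a) := by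
  haveI : IsFinite (dfst dPr (prod.snd : T ⨯ C ⟶ C)).left := prop_dfst _ inferInstance
  haveI : Flat (dfst dPr (prod.snd : T ⨯ C ⟶ C)).left := prop_dfst _ inferInstance
  haveI : LocallyOfFinitePresentation (dfst dPr (prod.snd : T ⨯ C ⟶ C)).left := prop_dfst _ inferInstance
  have sq := IsPullback.of_hasPullback a ((yon S).map (lT dPr T))
  obtain ⟨hR, hπ⟩ := resGood_of_lfp (dfst dPr (prod.snd : T ⨯ C ⟶ C)) (lB dPr a)
    (AlgSpace.isAlgSpace_pullback (IsAlgSpace.yon_obj T) hF (IsAlgSpace.yon_obj _) sq)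
    (AlgSpace.locP_of_isPullback hF (IsAlgSpace.yon_obj T) (IsAlgSpace.yon_obj _) sq ha)
  have hP : IsAlgSpace (pSp dPr a) := hR.of_iso (asIso (toPSp dPr a))
  refine ⟨hP, ?_⟩
  have hfst : LocallyOfFinitePresentation (prod.fst : T ⨯ C ⟶ T).left := by
    rw [← Over.prodLeftIsoPullback_hom_fst T C]
    infer_instance
  have e : toT dPr a = inv (toPSp dPr a) ≫ resπ _ (lB dPr a) ≫ (yon S).map prod.fst := by
    rw [← toPSp_toT, IsIso.inv_hom_id_assoc]
  rw [e]
  exact AlgSpace.locP_comp hP hR (IsAlgSpace.yon_obj T)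
    (AlgSpace.locP_of_repWith hR (MorphismProperty.of_isIso (RepWith @LocallyOfFinitePresentation) _))
    (AlgSpace.locP_comp hR (IsAlgSpace.yon_obj _) (IsAlgSpace.yon_obj T) hπ ((StAlg16.locP_yon_iff _).2 hfst))

end Groth.Agent.Bootst16
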