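import Groth.Agent.Lib.Bootst16.Main

/-!
# A stack with a flat cover locally of finite presentation by an algebraic space is algebraic
-/

universe u

open CategoryTheory CategoryTheory.Functor CategoryTheory.Limits AlgebraicGeometry Opposite

set_option linter.style.haveILetI false
set_option backward.isDefEq.respectTransparency false
set_option backward.isDefEq.respectTransparency.types false

namespace Groth.Agent.Bootst16

open Groth.Agent.FC16 Groth.Agent.StAlg Groth.Agent.StAlg16 AlgSt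

variable {S : Scheme.{u}} {𝒰 𝒳 : AlgSt.Cat S}

theorem isAlgStack_of_fppf_rep_cover (h𝒰 : FibCat.IsFibGrpd 𝒰.p)
    (h𝒳 : Stk.IsStack (QuotSh.J Scheme.fppfPrecoverage S) 𝒳) (hU : AlgSt.RepByAlgSp 𝒰) {u : 𝒰 ⥤ᵇ 𝒳}
    (hu₁ : AlgSt.RepByAlgSpWith (AlgSp.LocP @Flat) u)
    (hu₂ : AlgSt.RepByAlgSpWith (AlgSp.LocP @LocallyOfFinitePresentation) u)
    (hu₃ : AlgSt.RepByAlgSpWith AlgSp.IsSurjectiveMor u) : IsAlgStack Scheme.fppfPrecoverage 𝒳 := by
  obtain ⟨W, w, hw, hws⟩ := (isDM_of_rep hU).1.atlas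
  exact isAlgStack_of_fppf_cover h𝒳 (BasedFunctor.comp w u)
    (with_comp goodP_locP (overCat_isFibGrpd W) h𝒰 (with_locP_mono smooth_le_flat hw) hu₁)
    (with_comp goodP_locP (overCat_isFibGrpd W) h𝒰 (with_locP_mono smooth_le_lfp hw) hu₂)
    (with_comp goodP_surjective (overCat_isFibGrpd W) h𝒰 hws hu₃)

end Groth.Agent.Bootst16
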