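import Groth.Agent.Lib.ChartLift16.PSheaf

/-!
# Sections over pulled back covers, as a sheaf over the base of the cover
-/

universe u

open CategoryTheory CategoryTheory.Limits AlgebraicGeometry Opposite

set_option linter.style.haveILetI false
set_option linter.unusedSectionVars false
set_option backward.isDefEq.respectTransparency false
set_option backward.isDefEq.respectTransparency.types false

namespace Groth.Agent.Bootst16

open AlgSp Groth.Agent.ChartLift16

variable {S : Scheme.{u}} {C D : Over S} (dPr : D ⟶ C) {F : Sp S} (b : F ⟶ (yon S).obj D)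

/-- a point of the base and a section over the pulled back cover -/
structure RSec (T : Over S) : Type (u + 1) where
  /-- the point of the base -/
  c : T ⟶ C
  /-- the section -/
  l : (yon S).obj (dObj dPr c) ⟶ F
  hl : l ≫ b = (yon S).map (pullback.snd c dPr)

variable {dPr b}

theorem RSec.ext' {T : Over S} {s s' : RSec dPr b T} (hc : 𝟙 T ≫ s.c = s'.c)
    (hl : (yon S).map (dmap (𝟙 T) hc) ≫ s.l = s'.l) : s = s' := by
  obtain ⟨c, l, hla⟩ := s
  obtain ⟨c', l', hla'⟩ := s'
  obtain rfl : c = c' := (Category.id_comp c).symm.trans hc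
  rw [dmap_eq_id rfl, CategoryTheory.Functor.map_id, Category.id_comp] at hl
  obtain rfl : l = l' := hl
  rfl

theorem RSec.l_eq {T : Over S} {s s' : RSec dPr b T} (h : s = s') (hc : 𝟙 T ≫ s.c = s'.c) :
    (yon S).map (dmap (𝟙 T) hc) ≫ s.l = s'.l := by
  subst h
  rw [dmap_eq_id rfl, CategoryTheory.Functor.map_id, Category.id_comp]

variable (dPr b)

/-- restriction -/
noncomputable abbrev RSec.res {T T' : Over S} (f : T' ⟶ T) (s : RSec dPr b T) : RSec dPr b T' where
  c := f ≫ s.c
  l := (yon S).map (dmap f rfl) ≫ s.l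
  hl := by rw [Category.assoc, s.hl, ← Functor.map_comp, dmap_snd]

variable {dPr b}

theorem RSec.res_id {T : Over S} (s : RSec dPr b T) : RSec.res dPr b (𝟙 T) s = s := by
  refine RSec.ext' (by simp) ?_
  rw [← Functor.map_comp_assoc]
  convert Category.id_comp s.l using 2
  rw [← (yon S).map_id]
  congr 1
  apply pullback.hom_ext <;> simp

theorem RSec.res_res {T₁ T₂ T₃ : Over S} (f : T₂ ⟶ T₁) (g : T₃ ⟶ T₂) (s : RSec dPr b T₁) :
    RSec.res dPr b (g ≫ f) s = RSec.res dPr b g (RSec.res dPr b f s) := by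
  refine RSec.ext' (by simp) ?_
  show (yon S).map _ ≫ (yon S).map _ ≫ s.l = (yon S).map _ ≫ (yon S).map _ ≫ s.l
  rw [← Functor.map_comp_assoc, ← Functor.map_comp_assoc]
  congr 2
  apply pullback.hom_ext <;> simp

variable (dPr b)

/-- the presheaf of sections -/
noncomputable def resPsh : PSp S where
  obj T := RSec dPr b T.unop
  map {T T'} f := ↾fun s => RSec.res dPr b f.unop s
  map_id T := by
    ext s
    exact RSec.res_id s
  map_comp {T₁ T₂ T₃} f g := by
    ext s
    exact RSec.res_res f.unop g.unop s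

theorem resPsh_isSheaf : Presieve.IsSheaf (AlgSp.J S) (resPsh dPr b) := by
  intro T R hR x hx
  have hcomp : ∀ {Z Z' : Over S} (m : Z' ⟶ Z) (h : Z ⟶ T) (hh : R h),
      RSec.res dPr b m (x h hh) = x (m ≫ h) (R.downward_closed hh m) := fun m h hh =>
    ((Presieve.compatible_iff_sieveCompatible x).1 hx h m hh).symm
  obtain ⟨cy, hcy, hcu⟩ := SpQuot16.existsUnique_glue hR (F := (yon S).obj C)
    (fun h hh => (yon S).map (x h hh).c) (fun m h hh => by rw [← Functor.map_comp, ← hcomp m h hh])
  obtain ⟨c, rfl⟩ := (yon S).map_surjective cy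
  have hc : ∀ {Z : Over S} (h : Z ⟶ T) (hh : R h), h ≫ c = (x h hh).c := fun h hh =>
    (yon S).map_injective (by rw [Functor.map_comp]; exact hcy h hh)
  let q := dfst dPr c
  have hR' : R.pullback q ∈ AlgSp.J S (dObj dPr c) := (AlgSp.J S).pullback_stable q hR
  let kt : ∀ {Z : Over S} (k : Z ⟶ dObj dPr c) (hk : R (k ≫ q)), Z ⟶ dObj dPr (x (k ≫ q) hk).c := fun k hk =>
    pullback.lift (𝟙 _) (k ≫ pullback.snd c dPr) (by
      rw [Category.id_comp, ← hc _ hk, Category.assoc, pullback.condition, Category.assoc])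
  obtain ⟨l, hl, hlu⟩ := SpQuot16.existsUnique_glue hR' (F := F)
    (fun k hk => (yon S).map (kt k hk) ≫ (x (k ≫ q) hk).l) (fun {Z Z'} m k hk => by
      have e := hcomp m (k ≫ q) hk
      have hkm : R ((m ≫ k) ≫ q) := by rw [Category.assoc]; exact R.downward_closed hk m
      have e2 : RSec.res dPr b m (x (k ≫ q) hk) = x ((m ≫ k) ≫ q) hkm := by
        rw [e]
        congr 1
        try exact (Category.assoc m k q).symm
      have hc2 : 𝟙 Z' ≫ m ≫ (x (k ≫ q) hk).c = (x ((m ≫ k) ≫ q) hkm).c := by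
        rw [Category.id_comp, ← hc _ hk, ← hc _ hkm]; simp
      have e3 := RSec.l_eq e2 hc2
      show _ = (yon S).map (kt (m ≫ k) hkm) ≫ (x ((m ≫ k) ≫ q) hkm).l
      rw [← e3]
      show _ = (yon S).map _ ≫ (yon S).map _ ≫ (yon S).map (dmap m rfl) ≫ (x (k ≫ q) hk).l
      rw [← Functor.map_comp_assoc, ← Functor.map_comp_assoc, ← Functor.map_comp_assoc]
      congr 2
      apply pullback.hom_ext <;> simp [RSec.res, kt] <;> exact (Category.id_comp _).symm)
  have hla : l ≫ b = (yon S).map (pullback.snd c dPr) := SpQuot16.hom_ext_sieve hR' fun {Z} k hk => by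
    rw [← Category.assoc, hl k hk, Category.assoc, (x (k ≫ q) hk).hl, ← Functor.map_comp, ← Functor.map_comp]
    congr 1
    exact pullback.lift_snd _ _ _
  refine ⟨⟨c, l, hla⟩, fun Z h hh => ?_, fun s hs => ?_⟩
  · show RSec.res dPr b h ⟨c, l, hla⟩ = x h hh
    refine RSec.ext' (by rw [Category.id_comp]; exact hc h hh) ?_
    rw [← Functor.map_comp_assoc]
    let cs := (x h hh).c
    let k : dObj dPr cs ⟶ dObj dPr c := dmap h (hc h hh)
    have hk : R (k ≫ q) := by
      rw [show k ≫ q = pullback.fst cs dPr ≫ h from dmap_fst _ _]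
      exact R.downward_closed hh _
    refine Eq.trans ?_ (Eq.trans (hl k hk) ?_)
    · congr 2
      apply pullback.hom_ext <;> simp [RSec.res, k, cs]
    · have e2 : RSec.res dPr b (pullback.fst cs dPr) (x h hh) = x (k ≫ q) hk := by
        rw [hcomp]
        congr 1
        exact (dmap_fst _ _).symm
      have hc2 : 𝟙 _ ≫ pullback.fst cs dPr ≫ cs = (x (k ≫ q) hk).c := by
        rw [Category.id_comp, ← e2]
      have e3 := RSec.l_eq e2 hc2
      rw [← e3]
      show (yon S).map _ ≫ (yon S).map _ ≫ (yon S).map (dmap (pullback.fst cs dPr) rfl) ≫ (x h hh).l = _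
      rw [← Functor.map_comp_assoc, ← Functor.map_comp_assoc]
      convert Category.id_comp ((x h hh).l) using 2
      rw [← (yon S).map_id]
      congr 1
      apply pullback.hom_ext <;> simp [RSec.res, kt, k, cs, q] <;> exact Category.id_comp _
  · have hsc : s.c = c := (yon S).map_injective (hcu _ fun {Z} h hh => by
      rw [← Functor.map_comp, ← hs h hh]; rfl)
    obtain ⟨cs, ls, hls⟩ := s
    obtain rfl : cs = c := hsc
    obtain rfl : ls = l := hlu _ fun {Z} k hk => by
      have hc2 : 𝟙 _ ≫ (k ≫ q) ≫ cs = (x (k ≫ q) hk).c := by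
        rw [Category.id_comp]; exact hc _ hk
      have hs' : RSec.res dPr b (k ≫ q) ⟨cs, ls, hls⟩ = x (k ≫ q) hk := hs _ hk
      rw [← RSec.l_eq hs' hc2]
      show _ = (yon S).map _ ≫ (yon S).map _ ≫ (yon S).map _ ≫ ls
      rw [← Functor.map_comp_assoc, ← Functor.map_comp_assoc]
      congr 2
      apply pullback.hom_ext <;> simp [kt, q] <;> exact (Category.id_comp _).symm
    rfl

/-- the sheaf of sections -/
noncomputable def resSp : Sp S := ⟨resPsh dPr b, (isSheaf_iff_isSheaf_of_type _ _).2 (resPsh_isSheaf dPr b)⟩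

/-- its map to the base -/
noncomputable def resπ : resSp dPr b ⟶ (yon S).obj C :=
  ObjectProperty.homMk { app := fun T => ↾fun s => ⟨s.c⟩ }

variable {dPr b}

/-- the map given by a section -/
noncomputable def RSec.toHom {T : Over S} (s : RSec dPr b T) : (yon S).obj T ⟶ resSp dPr b :=
  AlgSpace.sect.symm s

theorem RSec.toHom_π {T : Over S} (s : RSec dPr b T) : s.toHom ≫ resπ dPr b = (yon S).map s.c := by
  apply AlgSpace.sect.injective
  rw [SpQuot16.sect_comp, RSec.toHom, Equiv.apply_symm_apply,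
    show AlgSpace.sect ((yon S).map s.c) = ULift.up s.c from GrothendieckTopology.uliftYonedaEquiv_uliftYoneda_map _ _]
  rfl

theorem RSec.map_toHom {T T' : Over S} (f : T' ⟶ T) (s : RSec dPr b T) :
    (yon S).map f ≫ s.toHom = (RSec.res dPr b f s).toHom :=
  SpQuot16.map_sect_symm f _

theorem RSec.exists_toHom {T : Over S} (z : (yon S).obj T ⟶ resSp dPr b) : ∃ s : RSec dPr b T, s.toHom = z :=
  ⟨AlgSpace.sect z, AlgSpace.sect.symm_apply_apply z⟩

theorem RSec.toHom_injective {T : Over S} : Function.Injective (RSec.toHom (dPr := dPr) (b := b) (T := T)) :=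
  fun _ _ h => (AlgSpace.sect (F := resSp dPr b)).symm.injective h

theorem RSec.mk_inj {T : Over S} {c : T ⟶ C} {l l' : (yon S).obj (dObj dPr c) ⟶ F}
    {hl : l ≫ b = (yon S).map (pullback.snd c dPr)} {hl' : l' ≫ b = (yon S).map (pullback.snd c dPr)}
    (h : (⟨c, l, hl⟩ : RSec dPr b T) = ⟨c, l', hl'⟩) : l = l' := by
  injection h

theorem RSec.mk_congr {T : Over S} {c : T ⟶ C} {l l' : (yon S).obj (dObj dPr c) ⟶ F}
    {hl : l ≫ b = (yon S).map (pullback.snd c dPr)} {hl' : l' ≫ b = (yon S).map (pullback.snd c dPr)}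
    (h : l = l') : (⟨c, l, hl⟩ : RSec dPr b T) = ⟨c, l', hl'⟩ := by
  subst h
  rfl

end Groth.Agent.Bootst16
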