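import Groth.Agent.Lib.Bootst16.ResStep
import Groth.Agent.Lib.Bootst16.GeoSect
import Groth.Agent.Lib.CurveNF.SigmaProper
import Mathlib.AlgebraicGeometry.Morphisms.Affine
import Mathlib.AlgebraicGeometry.Morphisms.Separated

/-!
# Sheaves of sections of separated etale schemes are etale spaces
-/

universe u

open CategoryTheory CategoryTheory.Limits AlgebraicGeometry Opposite

set_option linter.style.haveILetI false
set_option linter.unusedSectionVars false
set_option backward.isDefEq.respectTransparency false
set_option backward.isDefEq.respectTransparency.types false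

namespace Groth.Agent.Bootst16

open AlgSp Groth.Agent.ChartLift16

variable {S : Scheme.{u}}

theorem prop_dfst {C D T : Over S} {dPr : D ⟶ C} (c : T ⟶ C) {P : MorphismProperty Scheme.{u}}
    [P.IsStableUnderBaseChange] (h : P dPr.left) : P (dfst dPr c).left :=
  MorphismProperty.of_isPullback ((IsPullback.of_hasPullback c dPr).map (Over.forget S)).flip h

theorem prop_dsnd {C D T : Over S} {dPr : D ⟶ C} (c : T ⟶ C) {P : MorphismProperty Scheme.{u}}
    [P.IsStableUnderBaseChange] (h : P c.left) : P (pullback.snd c dPr).left :=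
  MorphismProperty.of_isPullback ((IsPullback.of_hasPullback c dPr).map (Over.forget S)) h

theorem prop_pullback_snd {A B T : Over S} (a : A ⟶ T) (b : B ⟶ T) {P : MorphismProperty Scheme.{u}}
    [P.IsStableUnderBaseChange] (h : P a.left) : P (pullback.snd a b).left :=
  MorphismProperty.of_isPullback ((IsPullback.of_hasPullback a b).map (Over.forget S)) h

theorem isAffineHom_sigmaMap {ι : Type u} {X Y : ι → Scheme.{u}} (f : ∀ i, X i ⟶ Y i) (hf : ∀ i, IsAffineHom (f i)) :
    IsAffineHom (Limits.Sigma.map f) := by
  refine IsZariskiLocalAtTarget.of_openCover (P := @IsAffineHom) (sigmaOpenCover Y) fun m => ?_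
  show IsAffineHom (pullback.snd (Limits.Sigma.map f) (Sigma.ι Y m))
  rw [← IsPullback.isoPullback_inv_snd (CurveNF.isPullback_sigmaMap f m).flip]
  haveI := hf m
  infer_instance

section Affine

variable {C D E : Over S} (dPr : D ⟶ C) [IsFinite dPr.left] [Flat dPr.left]
  [LocallyOfFinitePresentation dPr.left] (v : E ⟶ D) [IsSeparated v.left] [Etale v.left] [IsAffine C.left]

theorem resEt_of_affine_base : ResEt dPr ((yon S).map v) := by
  let κ := E.left.affineCover.I₀
  let J : Type u := Σ n : ℕ, Fin n → κ
  let X : ∀ j : J, Fin j.1 → Scheme.{u} := fun j z => E.left.affineCover.X (j.2 z)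
  let a : ∀ j : J, ∐ X j ⟶ E.left := fun j => Sigma.desc fun z => E.left.affineCover.f (j.2 z)
  let qL : (∐ fun j => ∐ X j) ⟶ E.left := Sigma.desc a
  let V : Over S := Over.mk (qL ≫ E.hom)
  let q : V ⟶ E := Over.homMk qL rfl
  let fL : (∐ fun _ : J => C.left) ⟶ C.left := Sigma.desc fun _ => 𝟙 _
  let C' : Over S := Over.mk (fL ≫ C.hom)
  let f : C' ⟶ C := Over.homMk fL rfl
  let rL : (∐ fun j => ∐ X j) ⟶ ∐ fun _ : J => C.left := Limits.Sigma.map fun j => a j ≫ v.left ≫ dPr.left
  have hrf : rL ≫ fL = qL ≫ v.left ≫ dPr.left := Sigma.hom_ext _ _ fun j => by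
    simp [rL, fL, qL, Limits.Sigma.map]
  let r : V ⟶ C' := Over.homMk rL (by
    show rL ≫ fL ≫ C.hom = qL ≫ E.hom
    rw [← Category.assoc, hrf, Category.assoc, Category.assoc, Over.w dPr, Over.w v])
  have hrf' : r ≫ f = (q ≫ v) ≫ dPr := Over.OverMorphism.ext (hrf.trans (Category.assoc _ _ _).symm)
  let h := pullback.snd f dPr
  let dPr' := dfst dPr f
  let vD : V ⟶ dObj dPr f := pullback.lift r (q ≫ v) hrf'
  let v' := pullback.snd v h
  let g₀ : V ⟶ pullback v h := pullback.lift q vD (pullback.lift_snd _ _ _).symm
  haveI hfe : Etale f.left := IsZariskiLocalAtSource.sigmaDesc fun _ => inferInstanceAs (Etale (𝟙 C.left))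
  haveI : IsFinite dPr'.left := prop_dfst f inferInstance
  haveI : Flat dPr'.left := prop_dfst f inferInstance
  haveI : LocallyOfFinitePresentation dPr'.left := prop_dfst f inferInstance
  haveI : Etale h.left := prop_dsnd f hfe
  haveI : Etale qL := IsZariskiLocalAtSource.sigmaDesc fun j =>
    IsZariskiLocalAtSource.sigmaDesc fun z => (inferInstance : Etale (E.left.affineCover.f (j.2 z)))
  haveI : IsAffineHom rL := isAffineHom_sigmaMap _ fun j => by
    haveI : IsAffine (∐ X j) := inferInstance
    infer_instance
  haveI : IsAffineHom vD.left := by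
    haveI : IsAffineHom (vD.left ≫ dPr'.left) := by
      rw [← Over.comp_left, pullback.lift_fst]
      exact ‹IsAffineHom rL›
    exact IsAffineHom.of_comp vD.left dPr'.left
  haveI : Etale vD.left := by
    haveI : Etale (vD.left ≫ h.left) := by
      rw [← Over.comp_left, pullback.lift_snd, Over.comp_left]
      exact (inferInstance : Etale (qL ≫ v.left))
    exact Etale.of_comp vD.left h.left
  haveI : IsSeparated v'.left := prop_pullback_snd v h inferInstance
  haveI : Etale v'.left := prop_pullback_snd v h inferInstance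
  haveI : IsAffineHom g₀.left := by
    haveI : IsAffineHom (g₀.left ≫ v'.left) := by
      rw [← Over.comp_left, pullback.lift_snd]
      infer_instance
    exact IsAffineHom.of_comp g₀.left v'.left
  haveI : Etale g₀.left := by
    haveI : Etale (g₀.left ≫ v'.left) := by
      rw [← Over.comp_left, pullback.lift_snd]
      infer_instance
    exact Etale.of_comp g₀.left v'.left
  have sq := isPullback_dfst dPr f
  have hk := (IsPullback.of_hasPullback v h).map (yon S)
  have hg : (yon S).map g₀ ≫ (yon S).map v' = (yon S).map vD := by rw [← Functor.map_comp, pullback.lift_snd]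
  have hV := resGood_affine dPr' vD
  have hfib : ∀ (T : Over S) (s : RSec dPr' ((yon S).map v') T),
      ResEt (dfst dPr' s.c) (pullback.snd ((yon S).map g₀) s.l) := by
    rintro T ⟨c, l, hl⟩
    obtain ⟨m, rfl⟩ := (yon S).map_surjective l
    haveI : IsFinite (dfst dPr' c).left := prop_dfst c inferInstance
    haveI : Flat (dfst dPr' c).left := prop_dfst c inferInstance
    haveI : LocallyOfFinitePresentation (dfst dPr' c).left := prop_dfst c inferInstance
    haveI : IsAffineHom (pullback.snd g₀ m).left := prop_pullback_snd g₀ m inferInstance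
    haveI : Etale (pullback.snd g₀ m).left := prop_pullback_snd g₀ m inferInstance
    obtain ⟨⟨h1, -⟩, h2⟩ := resGood_affine (dfst dPr' c) (pullback.snd g₀ m)
    exact ResEt.transport ⟨h1, h2 inferInstance⟩ ((IsPullback.of_hasPullback g₀ m).map (yon S)).isoPullback
      (IsPullback.isoPullback_hom_snd _)
  have hsurj : GeomLifts sq hk ((yon S).map g₀) hg := by
    rintro K _ _ str ⟨c, l, hl⟩
    obtain ⟨m, rfl⟩ := (yon S).map_surjective l
    rw [← Functor.map_comp] at hl
    have hm : m ≫ v = pullback.snd c dPr := (yon S).map_injective hl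
    haveI : IsFinite (dfst dPr c).left := prop_dfst c inferInstance
    haveI : IsAffine (dObj dPr c).left :=
      haveI : IsAffine (Over.mk str).left := inferInstanceAs (IsAffine (Spec (CommRingCat.of K)))
      isAffine_of_isAffineHom (dfst dPr c).left
    obtain ⟨t, ht⟩ := isCompact_univ.elim_finite_subcover
      (fun i : κ => m.left ⁻¹' Set.range (E.left.affineCover.f i))
      (fun i => (E.left.affineCover.f i).isOpenEmbedding.isOpen_range.preimage m.left.continuous)
      (fun x _ => by
        obtain ⟨i, y, hy⟩ := E.left.affineCover.exists_eq (m.left x)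
        exact Set.mem_iUnion.2 ⟨i, y, hy⟩)
    let j : J := ⟨t.card, fun z => (t.equivFin.symm z).1⟩
    haveI : Etale (a j) := IsZariskiLocalAtSource.sigmaDesc fun z => (inferInstance : Etale (E.left.affineCover.f (j.2 z)))
    haveI : Surjective (pullback.snd (a j) m.left) := ⟨fun x => by
      obtain ⟨i, hi, y, hy⟩ := Set.mem_iUnion₂.1 (ht (Set.mem_univ x))
      obtain ⟨z, rfl⟩ : ∃ z, j.2 z = i := ⟨t.equivFin ⟨i, hi⟩, by simp [j]⟩
      obtain ⟨w, -, hw⟩ := Scheme.Pullback.exists_preimage_pullback (f := a j) (g := m.left)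
        (Sigma.ι (X j) z y) x (by rw [← Scheme.Hom.comp_apply, Sigma.ι_desc]; exact hy)
      exact ⟨w, hw⟩⟩
    haveI : Etale (pullback.snd (a j) m.left) := MorphismProperty.pullback_snd _ _ inferInstance
    obtain ⟨τ, hτ⟩ := exists_section_scheme (k := K) (dfst dPr c).left (pullback.snd (a j) m.left)
    obtain ⟨u, hu⟩ : ∃ u : (dObj dPr c).left ⟶ ∐ X j, u ≫ a j = m.left :=
      ⟨τ ≫ pullback.fst (a j) m.left, by rw [Category.assoc, pullback.condition, ← Category.assoc, hτ, Category.id_comp]⟩
    obtain ⟨c', hc', rfl⟩ : ∃ c' : Over.mk str ⟶ C',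
        c'.left = c.left ≫ Sigma.ι (fun _ : J => C.left) j ∧ c' ≫ f = c := by
      refine ⟨Over.homMk (c.left ≫ Sigma.ι (fun _ : J => C.left) j) ?_, rfl, Over.OverMorphism.ext ?_⟩
      · show (c.left ≫ Sigma.ι (fun _ : J => C.left) j) ≫ fL ≫ C.hom = str
        simp only [fL, Category.assoc, Sigma.ι_desc_assoc, Category.id_comp]
        exact Over.w c
      · show (c.left ≫ Sigma.ι (fun _ : J => C.left) j) ≫ fL = c.left
        simp [fL]
    let φ := sqHom sq c'
    let uL := φ.left ≫ u ≫ Sigma.ι (fun j => ∐ X j) j
    have huq : uL ≫ qL = φ.left ≫ m.left := by simp [uL, qL, hu]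
    let u' : dObj dPr' c' ⟶ V := Over.homMk uL (by
      show uL ≫ qL ≫ E.hom = _
      rw [← Category.assoc, huq, Category.assoc, Over.w m, Over.w φ])
    have huq' : u' ≫ q = φ ≫ m := Over.OverMorphism.ext huq
    have hl' : u' ≫ vD = pullback.snd c' dPr' := by
      apply pullback.hom_ext
      · rw [Category.assoc, pullback.lift_fst, ← pullback.condition]
        apply Over.OverMorphism.ext
        show uL ≫ rL = (pullback.fst c' dPr').left ≫ c'.left
        have e1 : φ.left ≫ (pullback.fst (c' ≫ f) dPr).left = (pullback.fst c' dPr').left := by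
          rw [← Over.comp_left, pullback.lift_fst]
        have e2 : m.left ≫ v.left ≫ dPr.left = (pullback.fst (c' ≫ f) dPr).left ≫ (c' ≫ f).left := by
          simp only [← Over.comp_left]
          rw [← Category.assoc, hm, pullback.condition]
        rw [← e1, hc', Category.assoc]
        simp only [uL, rL, Category.assoc, Limits.Sigma.ι_map, reassoc_of% hu]
        rw [reassoc_of% e2]
      · rw [Category.assoc, pullback.lift_snd, ← Category.assoc, huq', Category.assoc, hm, pullback.lift_snd]
    refine ⟨⟨c', (yon S).map u', by rw [← Functor.map_comp, hl']⟩, ?_⟩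
    rw [coverMap, ← Category.assoc, toHom_resOver, toHom_resMap]
    congr 1
    refine RSec.mk_congr ?_
    show (yon S).map (sqInv sq c') ≫ ((yon S).map u' ≫ (yon S).map g₀) ≫ (yon S).map (pullback.fst v h) = (yon S).map m
    simp only [← Functor.map_comp]
    congr 1
    rw [Category.assoc, pullback.lift_fst, huq', ← Category.assoc, sqInv_hom, Category.id_comp]
  exact ⟨isAlgSpace_resSp_of_cover sq hk _ hg hV.1.1 hfib hsurj,
    AlgSpDescent.isEtaleMor_of_locP_etale (isAlgSpace_resSp_of_cover sq hk _ hg hV.1.1 hfib hsurj)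
      (IsAlgSpace.yon_obj C) (locP_resπ_of_cover sq hk _ hg hV.1.1
        (AlgSpDescent.locP_etale_of_isEtaleMor (hV.2 inferInstance)) hfib hsurj)⟩

end Affine

/-- sheaves of sections of separated etale schemes are etale spaces -/
theorem resEt_of_separated_etale {C D E : Over S} (dPr : D ⟶ C) [IsFinite dPr.left] [Flat dPr.left]
    [LocallyOfFinitePresentation dPr.left] (v : E ⟶ D) [IsSeparated v.left] [Etale v.left] :
    ResEt dPr ((yon S).map v) := by
  refine resEt_of_local dPr _ fun i => ?_
  let h := pullback.snd (affPieceι C i) dPr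
  haveI : IsAffine (affPiece C i).left := affPiece_affine C i
  haveI : IsFinite (dfst dPr (affPieceι C i)).left := prop_dfst _ inferInstance
  haveI : Flat (dfst dPr (affPieceι C i)).left := prop_dfst _ inferInstance
  haveI : LocallyOfFinitePresentation (dfst dPr (affPieceι C i)).left := prop_dfst _ inferInstance
  haveI : IsSeparated (pullback.snd v h).left := prop_pullback_snd v h inferInstance
  haveI : Etale (pullback.snd v h).left := prop_pullback_snd v h inferInstance
  exact (resEt_of_affine_base (dfst dPr (affPieceι C i)) (pullback.snd v h)).transport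
    ((IsPullback.of_hasPullback v h).map (yon S)).isoPullback (IsPullback.isoPullback_hom_snd _)

end Groth.Agent.Bootst16
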