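import Groth.Agent.Lib.Bootst16.Res

/-!
# Functoriality and base change of sheaves of sections
-/

universe u

open CategoryTheory CategoryTheory.Limits AlgebraicGeometry Opposite

set_option linter.style.haveILetI false
set_option linter.unusedSectionVars false
set_option backward.isDefEq.respectTransparency false
set_option backward.isDefEq.respectTransparency.types false

namespace Groth.Agent.Bootst16

open AlgSp Groth.Agent.ChartLift16

variable {S : Scheme.{u}} {C D : Over S} (dPr : D ⟶ C) {F V : Sp S} {b : F ⟶ (yon S).obj D}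
  {bV : V ⟶ (yon S).obj D}

section Over

variable (g : V ⟶ F) (hg : g ≫ b = bV)

/-- the image of a section -/
noncomputable abbrev RSec.mapOver {T : Over S} (s : RSec dPr bV T) : RSec dPr b T where
  c := s.c
  l := s.l ≫ g
  hl := by rw [Category.assoc, hg, s.hl]

theorem RSec.mapOver_res {T T' : Over S} (f : T' ⟶ T) (s : RSec dPr bV T) :
    RSec.mapOver dPr g hg (RSec.res dPr bV f s) = RSec.res dPr b f (RSec.mapOver dPr g hg s) := by
  refine RSec.ext' (Category.id_comp _) ?_
  show (yon S).map _ ≫ ((yon S).map _ ≫ s.l) ≫ g = (yon S).map _ ≫ s.l ≫ g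
  rw [Category.assoc, ← Functor.map_comp_assoc, dmap_eq_id rfl, Category.id_comp]

/-- functoriality over a fixed cover -/
noncomputable def resOver : resSp dPr bV ⟶ resSp dPr b :=
  ObjectProperty.homMk
    { app := fun _ => ↾fun s => RSec.mapOver dPr g hg s
      naturality := fun _ _ f => ConcreteCategory.hom_ext _ _ fun s => RSec.mapOver_res dPr g hg f.unop s }

theorem toHom_resOver {T : Over S} (s : RSec dPr bV T) :
    s.toHom ≫ resOver dPr g hg = (RSec.mapOver dPr g hg s).toHom := by
  apply AlgSpace.sect.injective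
  rw [SpQuot16.sect_comp, RSec.toHom, RSec.toHom, Equiv.apply_symm_apply, Equiv.apply_symm_apply]
  rfl

theorem resOver_π : resOver dPr g hg ≫ resπ dPr b = resπ dPr bV := by
  apply ObjectProperty.hom_ext
  ext T s
  rfl

end Over

section Square

variable {dPr} {C' D' : Over S} {dPr' : D' ⟶ C'} {h : D' ⟶ D} {f : C' ⟶ C} (sq : IsPullback h dPr' dPr f)

/-- comparison of the pulled back covers -/
noncomputable abbrev sqHom {T : Over S} (c : T ⟶ C') : dObj dPr' c ⟶ dObj dPr (c ≫ f) :=
  pullback.lift (pullback.fst c dPr') (pullback.snd c dPr' ≫ h)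
    (by rw [pullback.condition_assoc, Category.assoc, sq.w])

/-- comparison of the pulled back covers, backwards -/
noncomputable abbrev sqInv {T : Over S} (c : T ⟶ C') : dObj dPr (c ≫ f) ⟶ dObj dPr' c :=
  pullback.lift (pullback.fst _ _)
    (sq.lift (pullback.snd (c ≫ f) dPr) (pullback.fst (c ≫ f) dPr ≫ c)
      (by rw [← pullback.condition, Category.assoc]))
    (by rw [sq.lift_snd])

theorem sqHom_inv {T : Over S} (c : T ⟶ C') : sqHom sq c ≫ sqInv sq c = 𝟙 _ := by
  refine pullback.hom_ext (by simp) (sq.hom_ext ?_ ?_)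
  · simp
  · simp [pullback.condition]

theorem sqInv_hom {T : Over S} (c : T ⟶ C') : sqInv sq c ≫ sqHom sq c = 𝟙 _ := by
  apply pullback.hom_ext <;> simp

variable {F' : Sp S} {b' : F' ⟶ (yon S).obj D'} (k : F' ⟶ F) (w : k ≫ b = b' ≫ (yon S).map h)

/-- the image of a section along a change of base -/
noncomputable abbrev RSec.mapSq {T : Over S} (s : RSec dPr' b' T) : RSec dPr b T where
  c := s.c ≫ f
  l := (yon S).map (sqInv sq s.c) ≫ s.l ≫ k
  hl := by
    rw [Category.assoc, Category.assoc, w, ← Category.assoc s.l, s.hl, ← Functor.map_comp, ← Functor.map_comp]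
    congr 1
    rw [← Category.assoc, pullback.lift_snd, sq.lift_fst]

theorem RSec.mapSq_res {T T' : Over S} (m : T' ⟶ T) (s : RSec dPr' b' T) :
    RSec.mapSq sq k w (RSec.res dPr' b' m s) = RSec.res dPr b m (RSec.mapSq sq k w s) := by
  refine RSec.ext' (by rw [Category.id_comp]; exact Category.assoc m s.c f) ?_
  show (yon S).map _ ≫ (yon S).map _ ≫ ((yon S).map _ ≫ s.l) ≫ k = (yon S).map _ ≫ (yon S).map _ ≫ s.l ≫ k
  rw [Category.assoc, ← Functor.map_comp_assoc, ← Functor.map_comp_assoc, ← Functor.map_comp_assoc]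
  congr 2
  refine pullback.hom_ext (by simp) (sq.hom_ext ?_ ?_) <;> simp

/-- functoriality along a change of base -/
noncomputable def resMap : resSp dPr' b' ⟶ resSp dPr b :=
  ObjectProperty.homMk
    { app := fun _ => ↾fun s => RSec.mapSq sq k w s
      naturality := fun _ _ m => ConcreteCategory.hom_ext _ _ fun s => RSec.mapSq_res sq k w m.unop s }

theorem toHom_resMap {T : Over S} (s : RSec dPr' b' T) :
    s.toHom ≫ resMap sq k w = (RSec.mapSq sq k w s).toHom := by
  apply AlgSpace.sect.injective
  rw [SpQuot16.sect_comp, RSec.toHom, RSec.toHom, Equiv.apply_symm_apply, Equiv.apply_symm_apply]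
  rfl

theorem resMap_π : resMap sq k w ≫ resπ dPr b = resπ dPr' b' ≫ (yon S).map f := by
  apply ObjectProperty.hom_ext
  ext T s
  rfl

include sq in
/-- base change of a sheaf of sections -/
theorem isPullback_resMap (hk : IsPullback k b' b ((yon S).map h)) :
    IsPullback (resMap sq k hk.w) (resπ dPr' b') (resπ dPr b) ((yon S).map f) := by
  refine SpQuot16.isPullback_of_yon (resMap_π sq k hk.w) fun T a a' e => ?_
  obtain ⟨s, rfl⟩ := RSec.exists_toHom a
  obtain ⟨c', rfl⟩ := (yon S).map_surjective a'
  rw [RSec.toHom_π, ← Functor.map_comp] at e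
  have hc : s.c = c' ≫ f := (yon S).map_injective e
  obtain ⟨c, l, hl⟩ := s
  subst hc
  let m : (yon S).obj (dObj dPr' c') ⟶ F' := hk.lift ((yon S).map (sqHom sq c') ≫ l)
    ((yon S).map (pullback.snd c' dPr'))
    (by rw [Category.assoc, hl, ← Functor.map_comp, ← Functor.map_comp, pullback.lift_snd])
  refine ⟨RSec.toHom ⟨c', m, hk.lift_snd _ _ _⟩, ⟨?_, RSec.toHom_π _⟩, ?_⟩
  · rw [toHom_resMap]
    congr 1
    refine RSec.ext' (Category.id_comp _) ?_
    show (yon S).map _ ≫ (yon S).map (sqInv sq c') ≫ m ≫ k = l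
    rw [hk.lift_fst, dmap_eq_id rfl, CategoryTheory.Functor.map_id, Category.id_comp, ← Functor.map_comp_assoc,
      sqInv_hom, CategoryTheory.Functor.map_id, Category.id_comp]
  · rintro z ⟨hz₁, hz₂⟩
    obtain ⟨⟨c'', l', hl'⟩, rfl⟩ := RSec.exists_toHom z
    rw [RSec.toHom_π] at hz₂
    obtain rfl : c'' = c' := (yon S).map_injective hz₂
    rw [toHom_resMap] at hz₁
    have e2 := RSec.l_eq (RSec.toHom_injective hz₁) (Category.id_comp _)
    rw [dmap_eq_id rfl, CategoryTheory.Functor.map_id, Category.id_comp] at e2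
    congr 1
    refine RSec.ext' (Category.id_comp _) ?_
    show (yon S).map _ ≫ l' = m
    rw [dmap_eq_id rfl, CategoryTheory.Functor.map_id, Category.id_comp]
    refine hk.hom_ext ?_ ?_
    · rw [hk.lift_fst, show l = (yon S).map (sqInv sq c'') ≫ l' ≫ k from e2.symm, ← Functor.map_comp_assoc,
        sqHom_inv, CategoryTheory.Functor.map_id, Category.id_comp]
    · rw [hk.lift_snd, hl']

end Square

section Fibre

variable (g : V ⟶ F) (hg : g ≫ b = bV) {T : Over S} (s : RSec dPr b T)

theorem isPullback_dfst {T : Over S} (c : T ⟶ C) :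
    IsPullback (pullback.snd c dPr) (dfst dPr c) dPr c :=
  (IsPullback.of_hasPullback c dPr).flip

include hg in
theorem fibre_comm : pullback.fst g s.l ≫ bV = pullback.snd g s.l ≫ (yon S).map (pullback.snd s.c dPr) := by
  rw [← hg, pullback.condition_assoc, s.hl]

/-- the projection of the fibre over a section -/
noncomputable def fibreFst : resSp (dfst dPr s.c) (pullback.snd g s.l) ⟶ resSp dPr bV :=
  resMap (isPullback_dfst dPr s.c) (pullback.fst g s.l) (fibre_comm dPr g hg s)

/-- fibres of maps of sheaves of sections -/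
theorem isPullback_fibre :
    IsPullback (fibreFst dPr g hg s) (resπ (dfst dPr s.c) (pullback.snd g s.l)) (resOver dPr g hg) s.toHom := by
  obtain ⟨c, l, hl⟩ := s
  refine SpQuot16.isPullback_of_yon ?_ fun T' a a' e => ?_
  · refine AlgSpace.hom_ext_yon fun T' z => ?_
    obtain ⟨⟨u, m, hm⟩, rfl⟩ := RSec.exists_toHom z
    rw [fibreFst, ← Category.assoc, toHom_resMap, toHom_resOver, ← Category.assoc, RSec.toHom_π, RSec.map_toHom]
    congr 1
    refine RSec.ext' (Category.id_comp _) ?_
    show (yon S).map _ ≫ ((yon S).map _ ≫ m ≫ pullback.fst g l) ≫ g = _ ≫ l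
    simp only [Category.assoc, pullback.condition]
    rw [← Category.assoc m, hm]
    simp only [← Category.assoc, ← Functor.map_comp]
    congr 2
    apply pullback.hom_ext <;> simp
  · obtain ⟨⟨cV, lV, hlV⟩, rfl⟩ := RSec.exists_toHom a
    obtain ⟨u, rfl⟩ := (yon S).map_surjective a'
    rw [toHom_resOver, RSec.map_toHom] at e
    have e' := RSec.toHom_injective e
    obtain rfl : cV = u ≫ c := congrArg RSec.c e'
    have e2 : lV ≫ g = (yon S).map (dmap u rfl) ≫ l := by
      have h0 := RSec.l_eq e' (Category.id_comp _)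
      rw [dmap_eq_id rfl, CategoryTheory.Functor.map_id, Category.id_comp] at h0
      exact h0
    let φ : dObj (dfst dPr c) u ⟶ dObj dPr (u ≫ c) := sqHom (isPullback_dfst dPr c) u
    have hφ : φ ≫ dmap u rfl = pullback.snd u (dfst dPr c) := by
      apply pullback.hom_ext <;> simp [φ, pullback.condition]
    let m : (yon S).obj (dObj (dfst dPr c) u) ⟶ pullback g l :=
      pullback.lift ((yon S).map φ ≫ lV) ((yon S).map (pullback.snd u (dfst dPr c)))
        (by rw [Category.assoc, e2, ← Functor.map_comp_assoc, hφ])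
    refine ⟨RSec.toHom ⟨u, m, pullback.lift_snd _ _ _⟩, ⟨?_, RSec.toHom_π _⟩, ?_⟩
    · rw [fibreFst, toHom_resMap]
      congr 1
      refine RSec.ext' (Category.id_comp _) ?_
      show (yon S).map _ ≫ (yon S).map (sqInv _ u) ≫ m ≫ pullback.fst g l = lV
      rw [pullback.lift_fst, dmap_eq_id rfl, CategoryTheory.Functor.map_id, Category.id_comp,
        ← Functor.map_comp_assoc, sqInv_hom, CategoryTheory.Functor.map_id, Category.id_comp]
    · rintro z ⟨hz₁, hz₂⟩
      obtain ⟨⟨u', m', hm'⟩, rfl⟩ := RSec.exists_toHom z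
      rw [RSec.toHom_π] at hz₂
      obtain rfl : u' = u := (yon S).map_injective hz₂
      rw [fibreFst, toHom_resMap] at hz₁
      have e3 := RSec.l_eq (RSec.toHom_injective hz₁) (Category.id_comp _)
      rw [dmap_eq_id rfl, CategoryTheory.Functor.map_id, Category.id_comp] at e3
      congr 1
      refine RSec.ext' (Category.id_comp _) ?_
      show (yon S).map _ ≫ m' = m
      rw [dmap_eq_id rfl, CategoryTheory.Functor.map_id, Category.id_comp]
      refine pullback.hom_ext ?_ ?_
      · rw [pullback.lift_fst, show lV = (yon S).map (sqInv (isPullback_dfst dPr c) u') ≫ m' ≫ pullback.fst g l from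
          e3.symm, ← Functor.map_comp_assoc, sqHom_inv, CategoryTheory.Functor.map_id, Category.id_comp]
      · rw [pullback.lift_snd, hm']

end Fibre

end Groth.Agent.Bootst16
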