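import Groth.Agent.Lib.Bootst16.ResAffine
import Groth.Agent.Lib.Bootst16.ResMap
import Groth.Agent.Lib.Bootst16.FreeNbhd
import Groth.Agent.Lib.SpQuot16.Torsor
import Groth.Agent.Lib.StAlg16.LocPInst
import Groth.Agent.Lib.AlgSpDescent.Instances

/-!
# Sheaves of sections of affine morphisms along finite locally free covers
-/

universe u

open CategoryTheory CategoryTheory.Limits AlgebraicGeometry Opposite

set_option linter.style.haveILetI false
set_option linter.unusedSectionVars false
set_option backward.isDefEq.respectTransparency false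
set_option backward.isDefEq.respectTransparency.types false

namespace Groth.Agent.Bootst16

open AlgSp Groth.Agent.ChartLift16

variable {S : Scheme.{u}}

/-- the conclusion: a space with given properties over the base -/
def ResGood {C D : Over S} (dPr : D ⟶ C) {F : Sp S} (b : F ⟶ (yon S).obj D) : Prop :=
  IsAlgSpace (resSp dPr b) ∧ LocP @LocallyOfFinitePresentation (resπ dPr b)

theorem exists_affine_piece {C D V : Over S} (dPr : D ⟶ C) [IsFinite dPr.left] [Flat dPr.left]
    [LocallyOfFinitePresentation dPr.left] (v : V ⟶ D) [IsAffineHom v.left] [LocallyOfFinitePresentation v.left]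
    (x : C.left) :
    ∃ (C' : Over S) (f : C' ⟶ C) (W : Over S) (w : W ⟶ C') (fst : (yon S).obj W ⟶ resSp dPr ((yon S).map v)),
      IsOpenImmersion f.left ∧ x ∈ Set.range f.left ∧ LocallyOfFinitePresentation w.left ∧
      (Etale v.left → Etale w.left) ∧ IsPullback fst ((yon S).map w) (resπ dPr ((yon S).map v)) ((yon S).map f) := by
  obtain ⟨A, B, iA, iB, iAB, j, h, hj, hx, hfree, hfin, sq⟩ := exists_free_nbhd dPr.left x
  let sA : Spec (CommRingCat.of A) ⟶ S := j ≫ C.hom
  let f : baseO sA ⟶ C := Over.homMk j rfl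
  let hD : tO sA B ⟶ D := Over.homMk h (by
    show h ≫ D.hom = Spec.map _ ≫ j ≫ C.hom
    rw [← Over.w dPr, ← Category.assoc, sq.w, Category.assoc])
  have sqO : IsPullback hD (tc sA B) dPr f := IsPullback.of_map_of_faithful (Over.forget S) sq
  haveI : IsAffine (pullback v.left h) := isAffine_of_isAffineHom (pullback.snd v.left h)
  let P := pullback v.left h
  let φ : CommRingCat.of B ⟶ Γ(P, ⊤) := Spec.preimage (P.isoSpec.inv ≫ pullback.snd v.left h)
  have hφ : Spec.map φ = P.isoSpec.inv ≫ pullback.snd v.left h := Spec.map_preimage _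
  letI : Algebra B Γ(P, ⊤) := φ.hom.toAlgebra
  letI : Algebra A Γ(P, ⊤) := (φ.hom.comp (algebraMap A B)).toAlgebra
  haveI : IsScalarTower A B Γ(P, ⊤) := IsScalarTower.of_algebraMap_eq fun _ => rfl
  have htv : (tv (B := B) sA Γ(P, ⊤)).left = P.isoSpec.inv ≫ pullback.snd v.left h := hφ
  have hfp : LocallyOfFinitePresentation (Spec.map φ) := by rw [hφ]; infer_instance
  haveI : Algebra.FinitePresentation B Γ(P, ⊤) :=
    RingHom.finitePresentation_algebraMap.1 (HasRingHomProperty.Spec_iff.1 hfp)
  let e : tO sA Γ(P, ⊤) ⟶ V := Over.homMk (P.isoSpec.inv ≫ pullback.fst v.left h) (by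
    show (P.isoSpec.inv ≫ pullback.fst v.left h) ≫ V.hom = (tO sA Γ(P, ⊤)).hom
    rw [← Over.w (tv (B := B) sA Γ(P, ⊤)), htv, ← Over.w v, ← Over.w hD]
    show _ = (P.isoSpec.inv ≫ pullback.snd v.left h) ≫ h ≫ D.hom
    simp only [Category.assoc, pullback.condition_assoc])
  have sqV : IsPullback e (tv (B := B) sA Γ(P, ⊤)) v hD := IsPullback.of_map_of_faithful (Over.forget S) (by
    show IsPullback (P.isoSpec.inv ≫ pullback.fst v.left h) (tv (B := B) sA Γ(P, ⊤)).left v.left h
    rw [htv]
    exact IsPullback.of_iso (IsPullback.of_hasPullback v.left h) P.isoSpec (Iso.refl _) (Iso.refl _) (Iso.refl _)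
      (by simp) (by simp) (by simp) (by simp))
  obtain ⟨W, w, i, -, hw, hwe, hi⟩ := exists_resSp_affine sA (B := B) Γ(P, ⊤)
  have sqR := isPullback_resMap sqO ((yon S).map e) (sqV.map (yon S))
  refine ⟨baseO sA, f, W, w, i.hom ≫ resMap sqO ((yon S).map e) (sqV.map (yon S)).w, hj, hx, hw, fun he => ?_, ?_⟩
  · exact hwe (by rw [htv]; exact MorphismProperty.RespectsIso.precomp @Etale _ _ (MorphismProperty.pullback_snd _ _ he))
  · exact IsPullback.of_iso sqR i.symm (Iso.refl _) (Iso.refl _) (Iso.refl _) (by simp)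
      (by simp [← hi]) (by simp) (by simp)

variable {C D V : Over S} (dPr : D ⟶ C) [IsFinite dPr.left] [Flat dPr.left]
  [LocallyOfFinitePresentation dPr.left] (v : V ⟶ D) [IsAffineHom v.left] [LocallyOfFinitePresentation v.left]

theorem resGood_affine : ResGood dPr ((yon S).map v) ∧ (Etale v.left → IsEtaleMor (resπ dPr ((yon S).map v))) := by
  choose C' f W w fst hf hx hw hwe sq using fun x : C.left => exists_affine_piece dPr v x
  have h1 : ∀ k, Flat (f k).left := fun k => haveI := hf k; inferInstance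
  have h2 : ∀ k, LocallyOfFinitePresentation (f k).left := fun k => haveI := hf k; inferInstance
  have h3 : ∀ x : C.left, ∃ k y, (f k).left y = x := fun x => ⟨x, hx x⟩
  have hR : IsAlgSpace (resSp dPr ((yon S).map v)) := SpQuot16.isAlgSpace_of_family _ f h1 h2 h3 fun k =>
    (IsAlgSpace.yon_obj (W k)).of_iso (sq k).isoPullback
  have hcov := SpQuot16.isFppfCover_of_family f h1 h2 h3
  refine ⟨⟨hR, (StAlg16.isLocalOnBase_fppf_locP_lfp (fun k => (yon S).obj (C' k)) _ (IsAlgSpace.yon_obj C)
    (fun k => IsAlgSpace.yon_obj (C' k)) hcov _ hR (fun k => (yon S).obj (W k)) (fun k => (yon S).map (w k)) fst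
    (fun k => IsAlgSpace.yon_obj (W k)) sq).2 fun k => (StAlg16.locP_yon_iff (w k)).2 (hw k)⟩, fun he => ?_⟩
  exact (StAlg.isLocalOnBase_fppf_of_fpqc AlgSpDescent.isLocalOnBase_fpqc_isEtaleMor (fun k => (yon S).obj (C' k)) _
    (IsAlgSpace.yon_obj C) (fun k => IsAlgSpace.yon_obj (C' k)) hcov _ hR (fun k => (yon S).obj (W k))
    (fun k => (yon S).map (w k)) fst (fun k => IsAlgSpace.yon_obj (W k)) sq).2
      fun k => (isEtaleMor_yon_map_iff (w k)).2 (hwe k he)

end Groth.Agent.Bootst16
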