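import Groth.Agent.Lib.Bootst16.ResEtale
import Groth.Agent.Lib.AlgSpace.Chart
import Groth.Agent.Lib.SchBasic.Basic
import Groth.Agent.Lib.AlgSpDescent.LocalST

/-!
# Sheaves of sections of algebraic spaces locally of finite presentation
-/

universe u

open CategoryTheory CategoryTheory.Limits AlgebraicGeometry Opposite

set_option linter.style.haveILetI false
set_option linter.unusedSectionVars false
set_option backward.isDefEq.respectTransparency false
set_option backward.isDefEq.respectTransparency.types false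

namespace Groth.Agent.Bootst16

open AlgSp Groth.Agent.ChartLift16

variable {S : Scheme.{u}}

/-- an affine-over-the-base chart of a space over a scheme gives separated etale fibres -/
theorem resEt_fibre {C' D' V : Over S} (dPr' : D' ⟶ C') [IsFinite dPr'.left] [Flat dPr'.left]
    [LocallyOfFinitePresentation dPr'.left] {F' : Sp S} (hF' : IsAlgSpace F') {b' : F' ⟶ (yon S).obj D'}
    (vD : V ⟶ D') [IsAffineHom vD.left] (g : (yon S).obj V ⟶ F') (hge : RepWith @Etale g)
    (hg : g ≫ b' = (yon S).map vD) {T : Over S} (s : RSec dPr' b' T) :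
    ResEt (dfst dPr' s.c) (pullback.snd g s.l) := by
  obtain ⟨c, l, hl⟩ := s
  let sqP := (hF'.representable_from_yon g).isPullback l
  let P₀ := (hF'.representable_from_yon g).pullback l
  let d₀ : P₀ ⟶ dObj dPr' c := (hF'.representable_from_yon g).snd l
  obtain ⟨p₀, hp₀⟩ := (yon S).map_surjective ((hF'.representable_from_yon g).fst l)
  change IsPullback _ ((yon S).map d₀) g l at sqP
  rw [← hp₀] at sqP
  have hw : p₀ ≫ vD = d₀ ≫ pullback.snd c dPr' := (yon S).map_injective (by
    rw [Functor.map_comp, Functor.map_comp, ← hg, ← hl, ← Category.assoc, sqP.w, Category.assoc])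
  haveI : Etale d₀.left := hge.2 l _ _ sqP
  let j : P₀ ⟶ pullback vD (pullback.snd c dPr') := pullback.lift p₀ d₀ hw
  haveI : Mono j := ⟨fun x y e => (yon S).map_injective (sqP.hom_ext
    (by
      have := congrArg (fun m => (yon S).map (m ≫ pullback.fst vD (pullback.snd c dPr'))) e
      simpa only [Category.assoc, j, pullback.lift_fst, Functor.map_comp] using this)
    (by
      have := congrArg (fun m => (yon S).map (m ≫ pullback.snd vD (pullback.snd c dPr'))) e
      simpa only [Category.assoc, j, pullback.lift_snd, Functor.map_comp] using this))⟩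
  haveI : IsAffineHom (pullback.snd vD (pullback.snd c dPr')).left := prop_pullback_snd _ _ inferInstance
  haveI : Mono j.left := inferInstance
  haveI : IsSeparated d₀.left := by
    rw [show d₀ = j ≫ pullback.snd vD (pullback.snd c dPr') from (pullback.lift_snd _ _ _).symm, Over.comp_left]
    infer_instance
  haveI : IsFinite (dfst dPr' c).left := prop_dfst c inferInstance
  haveI : Flat (dfst dPr' c).left := prop_dfst c inferInstance
  haveI : LocallyOfFinitePresentation (dfst dPr' c).left := prop_dfst c inferInstance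
  exact (resEt_of_separated_etale (dfst dPr' c) d₀).transport sqP.isoPullback (IsPullback.isoPullback_hom_snd _)

section Affine

variable {C D : Over S} (dPr : D ⟶ C) [IsFinite dPr.left] [Flat dPr.left]
  [LocallyOfFinitePresentation dPr.left] [IsAffine C.left] {F : Sp S} (b : F ⟶ (yon S).obj D)

theorem resGood_of_affine_base (hF : IsAlgSpace F) (hb : LocP @LocallyOfFinitePresentation b) : ResGood dPr b := by
  obtain ⟨U, a₀, hae, has⟩ := hF.atlas
  obtain ⟨u₀, hu₀⟩ := (yon S).map_surjective (a₀ ≫ b)
  haveI hu₀lfp : LocallyOfFinitePresentation u₀.left :=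
    hb a₀ (𝟙 _) u₀ hae (AlgSp.repWith_id _ _) (by rw [Category.comp_id, hu₀])
  let κ := U.left.affineCover.I₀
  let J : Type u := Σ n : ℕ, Fin n → κ
  let X : ∀ j : J, Fin j.1 → Scheme.{u} := fun j z => U.left.affineCover.X (j.2 z)
  let a : ∀ j : J, ∐ X j ⟶ U.left := fun j => Sigma.desc fun z => U.left.affineCover.f (j.2 z)
  let qL : (∐ fun j => ∐ X j) ⟶ U.left := Sigma.desc a
  let V : Over S := Over.mk (qL ≫ U.hom)
  let q : V ⟶ U := Over.homMk qL rfl
  let fL : (∐ fun _ : J => C.left) ⟶ C.left := Sigma.desc fun _ => 𝟙 _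
  let C' : Over S := Over.mk (fL ≫ C.hom)
  let f : C' ⟶ C := Over.homMk fL rfl
  let rL : (∐ fun j => ∐ X j) ⟶ ∐ fun _ : J => C.left := Limits.Sigma.map fun j => a j ≫ u₀.left ≫ dPr.left
  have hrf : rL ≫ fL = qL ≫ u₀.left ≫ dPr.left := Sigma.hom_ext _ _ fun j => by
    simp [rL, fL, qL, Limits.Sigma.map]
  let r : V ⟶ C' := Over.homMk rL (by
    show rL ≫ fL ≫ C.hom = qL ≫ U.hom
    rw [← Category.assoc, hrf, Category.assoc, Category.assoc, Over.w dPr, Over.w u₀])
  have hrf' : r ≫ f = (q ≫ u₀) ≫ dPr := Over.OverMorphism.ext (hrf.trans (Category.assoc _ _ _).symm)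
  let h := pullback.snd f dPr
  let dPr' := dfst dPr f
  let vD : V ⟶ dObj dPr f := pullback.lift r (q ≫ u₀) hrf'
  haveI hfe : Etale f.left := IsZariskiLocalAtSource.sigmaDesc fun _ => inferInstanceAs (Etale (𝟙 C.left))
  haveI : IsFinite dPr'.left := prop_dfst f inferInstance
  haveI : Flat dPr'.left := prop_dfst f inferInstance
  haveI : LocallyOfFinitePresentation dPr'.left := prop_dfst f inferInstance
  haveI : Etale h.left := prop_dsnd f hfe
  haveI : Etale qL := IsZariskiLocalAtSource.sigmaDesc fun j =>
    IsZariskiLocalAtSource.sigmaDesc fun z => (inferInstance : Etale (U.left.affineCover.f (j.2 z)))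
  haveI : IsAffineHom rL := isAffineHom_sigmaMap _ fun j => by
    haveI : IsAffine (∐ X j) := inferInstance
    infer_instance
  haveI : IsAffineHom vD.left := by
    haveI : IsAffineHom (vD.left ≫ dPr'.left) := by
      rw [← Over.comp_left, pullback.lift_fst]
      exact ‹IsAffineHom rL›
    exact IsAffineHom.of_comp vD.left dPr'.left
  haveI : LocallyOfFinitePresentation vD.left := by
    haveI : LocallyOfFinitePresentation (vD.left ≫ h.left) := by
      rw [← Over.comp_left, pullback.lift_snd, Over.comp_left]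
      exact (inferInstance : LocallyOfFinitePresentation (qL ≫ u₀.left))
    exact SchBasic.locallyOfFinitePresentation_of_comp vD.left h.left
  have sq := isPullback_dfst dPr f
  let hY := (yon S).map h
  have hk := IsPullback.of_hasPullback b hY
  let b' := pullback.snd b hY
  let qF : (yon S).obj V ⟶ F := (yon S).map q ≫ a₀
  have hqF : qF ≫ b = (yon S).map vD ≫ hY := by
    rw [Category.assoc, ← hu₀, ← Functor.map_comp, ← Functor.map_comp, pullback.lift_snd]
  let g : (yon S).obj V ⟶ pullback b hY := pullback.lift qF ((yon S).map vD) hqF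
  have hg : g ≫ b' = (yon S).map vD := pullback.lift_snd _ _ _
  have hF' : IsAlgSpace (pullback b hY) :=
    AlgSpace.isAlgSpace_pullback (IsAlgSpace.yon_obj D) hF (IsAlgSpace.yon_obj _) hk
  have hqe : RepWith @Etale qF := AlgSpace.repWith_comp ((repWith_yon_map_iff @Etale q).2 ‹Etale qL›) hae
  have hge : RepWith @Etale g := by
    refine AlgSpace.repWith_of_locP hF' (hF'.representable_from_yon g)
      (AlgSpDescent.locP_etale_of_comp (IsAlgSpace.yon_obj V) hF' hF (g := pullback.fst b hY) ?_ ?_)
    · rw [pullback.lift_fst]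
      exact AlgSpace.locP_of_repWith hF hqe
    · exact AlgSpace.locP_of_isPullback (IsAlgSpace.yon_obj _) (IsAlgSpace.yon_obj D) hF hk.flip
        ((StAlg16.locP_yon_iff h).2 inferInstance)
  have hV := resGood_affine dPr' vD
  have hfib : ∀ (T : Over S) (s : RSec dPr' b' T), ResEt (dfst dPr' s.c) (pullback.snd g s.l) :=
    fun T s => resEt_fibre dPr' hF' vD g hge hg s
  have hsurj : GeomLifts sq hk g hg := by
    rintro K _ _ str ⟨c, l, hl⟩
    haveI : IsFinite (dfst dPr c).left := prop_dfst c inferInstance
    haveI : IsAffine (dObj dPr c).left :=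
      haveI : IsAffine (Over.mk str).left := inferInstanceAs (IsAffine (Spec (CommRingCat.of K)))
      isAffine_of_isAffineHom (dfst dPr c).left
    let Uo : κ → Over S := fun i => Over.mk (U.left.affineCover.f i ≫ U.hom)
    let ai : ∀ i : κ, (yon S).obj (Uo i) ⟶ F :=
      fun i => (yon S).map (Over.homMk (U.left.affineCover.f i) rfl : Uo i ⟶ U) ≫ a₀
    have hai : ∀ i, RepWith @Etale (ai i) := fun i => AlgSpace.repWith_comp
      ((repWith_yon_map_iff @Etale _).2 (inferInstance : Etale (U.left.affineCover.f i))) hae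
    obtain ⟨t, ht⟩ := isCompact_univ.elim_finite_subcover
      (fun i : κ => Points.ofPt l ⁻¹' Set.range (Points.ofPt (ai i)))
      (fun i => (AlgSpace.isOpenMap_ofPt (ai i) (hai i)).isOpen_range.preimage (Points.continuous_ofPt l))
      (fun x _ => by
        obtain ⟨y, hy⟩ := AlgSpace.surjective_ofPt has (Points.ofPt l x)
        obtain ⟨i, z, rfl⟩ := U.left.affineCover.exists_eq y
        refine Set.mem_iUnion.2 ⟨i, z, ?_⟩
        rw [AlgSpDecent.ofPt_map_comp]
        exact hy)
    let j : J := ⟨t.card, fun z => (t.equivFin.symm z).1⟩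
    let Aj : Over S := Over.mk (a j ≫ U.hom)
    let aj : Aj ⟶ U := Over.homMk (a j) rfl
    let qj : (yon S).obj Aj ⟶ F := (yon S).map aj ≫ a₀
    haveI : Etale (a j) := IsZariskiLocalAtSource.sigmaDesc fun z => (inferInstance : Etale (U.left.affineCover.f (j.2 z)))
    have hqje : RepWith @Etale qj := AlgSpace.repWith_comp ((repWith_yon_map_iff @Etale aj).2 ‹Etale (a j)›) hae
    let sqW := hqje.1.isPullback l
    obtain ⟨w₁, hw₁⟩ := (yon S).map_surjective (hqje.1.fst l)
    let w₂ := hqje.1.snd l
    change IsPullback _ ((yon S).map w₂) qj l at sqW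
    rw [← hw₁] at sqW
    haveI : Etale w₂.left := hqje.2 l _ _ sqW
    haveI : Surjective w₂.left := ⟨fun x => by
      obtain ⟨i, hi, y, hy⟩ := Set.mem_iUnion₂.1 (ht (Set.mem_univ x))
      obtain ⟨z, rfl⟩ : ∃ z, j.2 z = i := ⟨t.equivFin ⟨i, hi⟩, by simp [j]⟩
      obtain ⟨w, -, hw⟩ := AlgSpace.exists_pt_of_isPullback sqW (x := Points.ofScheme Aj (Sigma.ι (X j) z y)) (t := x) (by
        rw [← hy]
        show Points.map qj (Points.ofScheme Aj _) = _
        rw [← Points.ofPt_eq_map_ofScheme]
        show Points.ofPt ((yon S).map aj ≫ a₀) _ = _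
        rw [AlgSpDecent.ofPt_map_comp, AlgSpDecent.ofPt_map_comp]
        congr 1
        show a j (Sigma.ι (X j) z y) = U.left.affineCover.f (j.2 z) y
        rw [← Scheme.Hom.comp_apply, Sigma.ι_desc])
      exact ⟨w, hw⟩⟩
    obtain ⟨τ, hτ⟩ := exists_section_scheme (k := K) (dfst dPr c).left w₂.left
    let τ' : dObj dPr c ⟶ hqje.1.pullback l := Over.homMk τ (by rw [← Over.w w₂, reassoc_of% hτ])
    obtain ⟨u, hu⟩ : ∃ u : dObj dPr c ⟶ Aj, (yon S).map u ≫ qj = l := by
      refine ⟨τ' ≫ w₁, ?_⟩
      rw [Functor.map_comp, Category.assoc, sqW.w, ← Category.assoc, ← Functor.map_comp,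
        show τ' ≫ w₂ = 𝟙 _ from Over.OverMorphism.ext hτ, CategoryTheory.Functor.map_id, Category.id_comp]
    have hub : u ≫ aj ≫ u₀ = pullback.snd c dPr := (yon S).map_injective (by
      rw [← hl, Functor.map_comp, Functor.map_comp, hu₀, ← hu]
      simp only [qj, Category.assoc])
    obtain ⟨c', hc', rfl⟩ : ∃ c' : Over.mk str ⟶ C',
        c'.left = c.left ≫ Sigma.ι (fun _ : J => C.left) j ∧ c' ≫ f = c := by
      refine ⟨Over.homMk (c.left ≫ Sigma.ι (fun _ : J => C.left) j) ?_, rfl, Over.OverMorphism.ext ?_⟩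
      · show (c.left ≫ Sigma.ι (fun _ : J => C.left) j) ≫ fL ≫ C.hom = str
        simp only [fL, Category.assoc, Sigma.ι_desc_assoc, Category.id_comp]
        exact Over.w c
      · show (c.left ≫ Sigma.ι (fun _ : J => C.left) j) ≫ fL = c.left
        simp [fL]
    let φ := sqHom sq c'
    let uL := φ.left ≫ u.left ≫ Sigma.ι (fun j => ∐ X j) j
    have huq : uL ≫ qL = φ.left ≫ u.left ≫ a j := by simp [uL, qL]
    let u' : dObj dPr' c' ⟶ V := Over.homMk uL (by
      show uL ≫ qL ≫ U.hom = _
      rw [← Category.assoc, huq, Category.assoc, Category.assoc, show u.left ≫ a j ≫ U.hom = _ from Over.w u, Over.w φ])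
    have huq' : u' ≫ q = φ ≫ u ≫ aj := Over.OverMorphism.ext huq
    have hl' : u' ≫ vD = pullback.snd c' dPr' := by
      apply pullback.hom_ext
      · rw [Category.assoc, pullback.lift_fst, ← pullback.condition]
        apply Over.OverMorphism.ext
        show uL ≫ rL = (pullback.fst c' dPr').left ≫ c'.left
        have e1 : φ.left ≫ (pullback.fst (c' ≫ f) dPr).left = (pullback.fst c' dPr').left := by
          rw [← Over.comp_left, pullback.lift_fst]
        have e2 : u.left ≫ a j ≫ u₀.left ≫ dPr.left = (pullback.fst (c' ≫ f) dPr).left ≫ (c' ≫ f).left := by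
          have := congrArg (fun m => (m ≫ dPr).left) hub
          rw [← pullback.condition] at this
          simpa [aj] using this
        rw [← e1, hc', Category.assoc]
        simp only [uL, rL, Category.assoc, Limits.Sigma.ι_map]
        rw [reassoc_of% e2]
      · rw [Category.assoc, pullback.lift_snd, ← Category.assoc, huq', Category.assoc, Category.assoc, hub,
          pullback.lift_snd]
    refine ⟨⟨c', (yon S).map u', by rw [← Functor.map_comp, hl']⟩, ?_⟩
    rw [coverMap, ← Category.assoc, toHom_resOver, toHom_resMap]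
    congr 1
    refine RSec.mk_congr ?_
    show (yon S).map (sqInv sq c') ≫ ((yon S).map u' ≫ g) ≫ pullback.fst b hY = l
    rw [Category.assoc, pullback.lift_fst, ← hu]
    simp only [qj, qF, ← Functor.map_comp_assoc]
    congr 2
    rw [huq', ← Category.assoc, sqInv_hom, Category.id_comp]
  exact ⟨isAlgSpace_resSp_of_cover sq hk g hg hV.1.1 hfib hsurj,
    locP_resπ_of_cover sq hk g hg hV.1.1 hV.1.2 hfib hsurj⟩

end Affine

/-- sections along a finite locally free cover of a space locally of finite presentation form such a space -/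
theorem resGood_of_lfp {C D : Over S} (dPr : D ⟶ C) [IsFinite dPr.left] [Flat dPr.left]
    [LocallyOfFinitePresentation dPr.left] {F : Sp S} (b : F ⟶ (yon S).obj D) (hF : IsAlgSpace F)
    (hb : LocP @LocallyOfFinitePresentation b) : ResGood dPr b := by
  refine resGood_of_local dPr b fun i => ?_
  haveI : IsAffine (affPiece C i).left := affPiece_affine C i
  haveI : IsFinite (dfst dPr (affPieceι C i)).left := prop_dfst _ inferInstance
  haveI : Flat (dfst dPr (affPieceι C i)).left := prop_dfst _ inferInstance
  haveI : LocallyOfFinitePresentation (dfst dPr (affPieceι C i)).left := prop_dfst _ inferInstance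
  have sq := IsPullback.of_hasPullback b ((yon S).map (pullback.snd (affPieceι C i) dPr))
  exact resGood_of_affine_base _ _ (AlgSpace.isAlgSpace_pullback (IsAlgSpace.yon_obj D) hF (IsAlgSpace.yon_obj _) sq)
    (AlgSpace.locP_of_isPullback hF (IsAlgSpace.yon_obj D) (IsAlgSpace.yon_obj _) sq hb)

end Groth.Agent.Bootst16
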