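import Groth.Agent.Lib.Bootst16.ResLocal
import Groth.Agent.Lib.AlgSpace.Bootstrap
import Groth.Agent.Lib.Induction15.Basic
import Groth.Agent.Lib.AlgSpDecent.Basic
import Mathlib.FieldTheory.IsAlgClosed.AlgebraicClosure

/-!
# Sheaves of sections: transport, locality and covers
-/

universe u

open CategoryTheory CategoryTheory.Limits AlgebraicGeometry Opposite

set_option linter.style.haveILetI false
set_option linter.unusedSectionVars false
set_option backward.isDefEq.respectTransparency false
set_option backward.isDefEq.respectTransparency.types false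

namespace Groth.Agent.Bootst16

open AlgSp Groth.Agent.ChartLift16

variable {S : Scheme.{u}}

/-- the sheaf of sections is an etale space over the base -/
def ResEt {C D : Over S} (dPr : D ⟶ C) {F : Sp S} (b : F ⟶ (yon S).obj D) : Prop :=
  IsAlgSpace (resSp dPr b) ∧ IsEtaleMor (resπ dPr b)

theorem isEtaleMor_iso_comp {A B C : Sp S} (e : A ≅ B) {f : B ⟶ C} (hf : IsEtaleMor f) :
    IsEtaleMor (e.hom ≫ f) :=
  Induction15.isEtaleMor_comp (fun _ _ hφ => AlgSpace.repWith_comp hφ (MorphismProperty.of_isIso (RepWith @Etale) e.hom)) hf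

section Transport

variable {C D : Over S} (dPr : D ⟶ C) {F G : Sp S} {b : F ⟶ (yon S).obj D} {bG : G ⟶ (yon S).obj D}

theorem resOver_hom_inv (e : F ≅ G) (he : e.hom ≫ bG = b) :
    resOver dPr e.hom he ≫ resOver dPr e.inv (by rw [← he, Iso.inv_hom_id_assoc]) = 𝟙 (resSp dPr b) := by
  refine AlgSpace.hom_ext_yon fun T z => ?_
  obtain ⟨⟨c, l, hl⟩, rfl⟩ := RSec.exists_toHom z
  rw [← Category.assoc, toHom_resOver, toHom_resOver, Category.comp_id]
  congr 1
  exact RSec.mk_congr (by rw [Category.assoc, Iso.hom_inv_id, Category.comp_id])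

/-- sheaves of sections of isomorphic sheaves -/
noncomputable def resIso (e : F ≅ G) (he : e.hom ≫ bG = b) : resSp dPr b ≅ resSp dPr bG where
  hom := resOver dPr e.hom he
  inv := resOver dPr e.inv (by rw [← he, Iso.inv_hom_id_assoc])
  hom_inv_id := resOver_hom_inv dPr e he
  inv_hom_id := resOver_hom_inv dPr e.symm (by rw [Iso.symm_hom, ← he, Iso.inv_hom_id_assoc])

theorem resIso_inv_π (e : F ≅ G) (he : e.hom ≫ bG = b) :
    (resIso dPr e he).inv ≫ resπ dPr b = resπ dPr bG :=
  resOver_π dPr e.inv (by rw [← he, Iso.inv_hom_id_assoc])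

variable {dPr}

theorem ResEt.transport (h : ResEt dPr b) (e : F ≅ G) (he : e.hom ≫ bG = b) : ResEt dPr bG := by
  refine ⟨h.1.of_iso (resIso dPr e he), ?_⟩
  rw [← resIso_inv_π dPr e he]
  exact isEtaleMor_iso_comp (resIso dPr e he).symm h.2

end Transport

section Local

variable {C D : Over S} (dPr : D ⟶ C) {F : Sp S} (b : F ⟶ (yon S).obj D)

/-- an affine open piece of the base -/
noncomputable abbrev pieceC (C : Over S) (i : C.left.affineCover.I₀) : Over S := affPiece C i

/-- the base change to a piece of the base -/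
noncomputable abbrev pieceB (i : C.left.affineCover.I₀) :
    pullback b ((yon S).map (pullback.snd (affPieceι C i) dPr)) ⟶ (yon S).obj (dObj dPr (affPieceι C i)) :=
  pullback.snd _ _

theorem isPullback_piece (i : C.left.affineCover.I₀) :
    IsPullback (resMap (isPullback_dfst dPr (affPieceι C i)) (pullback.fst b _) pullback.condition)
      (resπ (dfst dPr (affPieceι C i)) (pieceB dPr b i)) (resπ dPr b) ((yon S).map (affPieceι C i)) :=
  isPullback_resMap (isPullback_dfst dPr (affPieceι C i)) _ (IsPullback.of_hasPullback b _)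

theorem isAlgSpace_resSp_of_local
    (h : ∀ i, IsAlgSpace (resSp (dfst dPr (affPieceι C i)) (pieceB dPr b i))) : IsAlgSpace (resSp dPr b) := by
  have hj := (affPieceι_cover C).1
  refine SpQuot16.isAlgSpace_of_family (resπ dPr b) (fun i => affPieceι C i) (fun i => haveI := hj i; inferInstance)
    (fun i => haveI := hj i; inferInstance) (affPieceι_cover C).2 fun i => ?_
  exact (h i).of_iso (isPullback_piece dPr b i).isoPullback

theorem resEt_of_local (h : ∀ i, ResEt (dfst dPr (affPieceι C i)) (pieceB dPr b i)) : ResEt dPr b := by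
  have hR := isAlgSpace_resSp_of_local dPr b fun i => (h i).1
  have hj := (affPieceι_cover C).1
  have hcov := SpQuot16.isFppfCover_of_family (fun i => affPieceι C i) (fun i => haveI := hj i; inferInstance)
    (fun i => haveI := hj i; inferInstance) (affPieceι_cover C).2
  exact ⟨hR, (StAlg.isLocalOnBase_fppf_of_fpqc AlgSpDescent.isLocalOnBase_fpqc_isEtaleMor
    (fun i => (yon S).obj (affPiece C i)) _ (IsAlgSpace.yon_obj C) (fun i => IsAlgSpace.yon_obj _) hcov _ hR _ _ _
    (fun i => (h i).1) fun i => isPullback_piece dPr b i).2 fun i => (h i).2⟩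

theorem resGood_of_local (h : ∀ i, ResGood (dfst dPr (affPieceι C i)) (pieceB dPr b i)) : ResGood dPr b := by
  have hR := isAlgSpace_resSp_of_local dPr b fun i => (h i).1
  have hj := (affPieceι_cover C).1
  have hcov := SpQuot16.isFppfCover_of_family (fun i => affPieceι C i) (fun i => haveI := hj i; inferInstance)
    (fun i => haveI := hj i; inferInstance) (affPieceι_cover C).2
  exact ⟨hR, (StAlg16.isLocalOnBase_fppf_locP_lfp
    (fun i => (yon S).obj (affPiece C i)) _ (IsAlgSpace.yon_obj C) (fun i => IsAlgSpace.yon_obj _) hcov _ hR _ _ _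
    (fun i => (h i).1) fun i => isPullback_piece dPr b i).2 fun i => (h i).2⟩

end Local

theorem exists_geom_point (T : Over S) (t : T.left) :
    ∃ (K : Type u) (_ : Field K) (_ : IsAlgClosed K) (str : Spec (CommRingCat.of K) ⟶ S) (ι : Over.mk str ⟶ T)
      (p : (Over.mk str).left), ι.left p = t := by
  let K := AlgebraicClosure (T.left.residueField t)
  let ι₀ : Spec (CommRingCat.of K) ⟶ T.left :=
    Spec.map (CommRingCat.ofHom (algebraMap (T.left.residueField t) K)) ≫ T.left.fromSpecResidueField t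
  refine ⟨K, inferInstance, inferInstance, ι₀ ≫ T.hom, Over.homMk ι₀ rfl, IsLocalRing.closedPoint K, ?_⟩
  show ι₀ _ = t
  rw [Scheme.Hom.comp_apply]
  exact Scheme.fromSpecResidueField_apply _ _

section Step

variable {C D C' D' : Over S} {dPr : D ⟶ C} {dPr' : D' ⟶ C'} {h : D' ⟶ D} {f : C' ⟶ C} [Etale f.left]
  (sq : IsPullback h dPr' dPr f) {F F' V : Sp S} {b : F ⟶ (yon S).obj D} {b' : F' ⟶ (yon S).obj D'}
  {k : F' ⟶ F} (hk : IsPullback k b' b ((yon S).map h)) {bV : V ⟶ (yon S).obj D'} (g : V ⟶ F') (hg : g ≫ b' = bV)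

/-- the covering map -/
noncomputable abbrev coverMap : resSp dPr' bV ⟶ resSp dPr b :=
  resOver dPr' g hg ≫ resMap sq k hk.w

/-- every section over an algebraically closed field lifts -/
def GeomLifts : Prop :=
  ∀ (K : Type u) [Field K] [IsAlgClosed K] (str : Spec (CommRingCat.of K) ⟶ S) (s : RSec dPr b (Over.mk str)),
    ∃ s' : RSec dPr' bV (Over.mk str), s'.toHom ≫ coverMap sq hk g hg = s.toHom

theorem repBySpWith_coverMap
    (hfib : ∀ (T : Over S) (s : RSec dPr' b' T), ResEt (dfst dPr' s.c) (pullback.snd g s.l))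
    (hsurj : GeomLifts sq hk g hg) :
    RepBySpWith (IsSurjectiveMor ⊓ IsEtaleMor) (coverMap sq hk g hg).hom := by
  refine (repBySpWith_hom_iff _ _).2 fun T ξ P fst snd sqP => ?_
  obtain ⟨s, rfl⟩ := RSec.exists_toHom ξ
  have sqR := isPullback_resMap sq k hk
  have sqT := (IsPullback.of_hasPullback s.c f)
  let pr : pullback s.c f ⟶ T := pullback.fst s.c f
  let l : (yon S).obj (pullback s.c f) ⟶ resSp dPr' b' := sqR.lift ((yon S).map pr ≫ s.toHom)
    ((yon S).map (pullback.snd s.c f))
    (by rw [Category.assoc, RSec.toHom_π, ← Functor.map_comp, ← Functor.map_comp, pullback.condition])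
  have sql : IsPullback l ((yon S).map pr) (resMap sq k hk.w) s.toHom := by
    refine IsPullback.of_right ?_ (sqR.lift_fst _ _ _) sqR.flip
    rw [sqR.lift_snd, RSec.toHom_π]
    exact (sqT.map (yon S)).flip
  obtain ⟨s', hs'⟩ := RSec.exists_toHom l
  rw [← hs'] at sql
  have sqF := isPullback_fibre dPr' g hg s'
  obtain ⟨hA, hE⟩ := hfib _ s'
  have sqC : IsPullback (fibreFst dPr' g hg s') (resπ (dfst dPr' s'.c) (pullback.snd g s'.l) ≫ (yon S).map pr)
      (coverMap sq hk g hg) s.toHom := sqF.paste_vert sql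
  let e := sqP.isoIsPullback _ _ sqC
  have hsnd : snd = e.hom ≫ resπ (dfst dPr' s'.c) (pullback.snd g s'.l) ≫ (yon S).map pr :=
    (sqP.isoIsPullback_hom_snd _ _ sqC).symm
  haveI : Etale pr.left :=
    MorphismProperty.of_isPullback (sqT.map (Over.forget S)).flip (inferInstance : Etale f.left)
  refine ⟨hA.of_iso e.symm, fun x => ?_, ?_⟩
  · obtain ⟨t, rfl⟩ := (Points.schemeEquiv T).surjective x
    obtain ⟨K, _, _, str, ι, p, hp⟩ := exists_geom_point T t
    obtain ⟨s'', hs''⟩ := hsurj K str (RSec.res dPr b ι s)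
    rw [← RSec.map_toHom] at hs''
    refine ⟨Points.ofPt (sqP.lift s''.toHom ((yon S).map ι) hs'') p, ?_⟩
    rw [Points.map_ofPt, sqP.lift_snd, AlgSpDecent.ofPt_map_eq, hp]
    rfl
  · rw [hsnd]
    exact isEtaleMor_iso_comp e (Induction15.isEtaleMor_comp hE ((isEtaleMor_yon_map_iff pr).2 inferInstance))

theorem isAlgSpace_resSp_of_cover (hV : IsAlgSpace (resSp dPr' bV))
    (hfib : ∀ (T : Over S) (s : RSec dPr' b' T), ResEt (dfst dPr' s.c) (pullback.snd g s.l))
    (hsurj : GeomLifts sq hk g hg) : IsAlgSpace (resSp dPr b) :=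
  AlgSpace.isAlgSpace_of_repBySp_etale (coverMap sq hk g hg) hV (repBySpWith_coverMap sq hk g hg hfib hsurj)

/-- properties of the base map pass down the cover -/
theorem locP_resπ_of_cover {P : MorphismProperty Scheme.{u}} [AlgSpace.EtaleLocal P] (hV : IsAlgSpace (resSp dPr' bV))
    (hπ : LocP P (resπ dPr' bV))
    (hfib : ∀ (T : Over S) (s : RSec dPr' b' T), ResEt (dfst dPr' s.c) (pullback.snd g s.l))
    (hsurj : GeomLifts sq hk g hg) : LocP P (resπ dPr b) := by
  have hF := isAlgSpace_resSp_of_cover sq hk g hg hV hfib hsurj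
  have hp := repBySpWith_coverMap sq hk g hg hfib hsurj
  obtain ⟨W, a, hae, has⟩ := hV.atlas
  have hpe : IsEtaleMor (coverMap sq hk g hg) := StAlg.desc_of_local
    (StAlg.isLocalOnBase_fppf_of_fpqc AlgSpDescent.isLocalOnBase_fpqc_isEtaleMor) hV hF _
    ((repBySpWith_hom_iff _ _).2 fun T ξ P' fst snd sqP =>
      let h' := (repBySpWith_hom_iff _ _).1 hp ξ fst snd sqP
      ⟨h'.1, h'.2.2⟩)
  obtain ⟨m, hm⟩ := (yon S).map_surjective (a ≫ resπ dPr' bV)
  have e : (a ≫ coverMap sq hk g hg) ≫ resπ dPr b = (yon S).map (m ≫ f) ≫ 𝟙 _ := by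
    rw [Category.comp_id, coverMap, Category.assoc, Category.assoc, resMap_π, ← Category.assoc (resOver _ _ _),
      resOver_π, ← Category.assoc, Functor.map_comp, hm]
  have has' : RepWith @Surjective (a ≫ coverMap sq hk g hg) :=
    AlgSpace.repWith_surjective_of_ofPt (hpe a hae).1 fun x => by
      obtain ⟨T, ξ, t, rfl⟩ := AlgSpace.exists_ofPt_eq x
      have sqP := IsPullback.of_hasPullback (coverMap sq hk g hg) ξ
      obtain ⟨-, hs, -⟩ := (repBySpWith_hom_iff _ _).1 hp ξ _ _ sqP
      obtain ⟨y, hy⟩ := hs (Points.ofScheme T t)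
      obtain ⟨w, hw⟩ := AlgSpace.surjective_ofPt has (Points.map (pullback.fst (coverMap sq hk g hg) ξ) y)
      refine ⟨w, ?_⟩
      rw [← Points.map_ofPt a, hw, ← Points.map_comp, pullback.condition, Points.map_comp, hy]
      exact (Points.ofPt_eq_map_ofScheme ξ t).symm
  refine AlgSpace.locP_of_one_chart (a ≫ coverMap sq hk g hg) (𝟙 _) (m ≫ f) (hpe a hae) has'
    (AlgSp.repWith_id _ _) e ?_
  rw [Over.comp_left]
  exact AlgSpace.EtaleLocal.comp_etale P (hπ a (𝟙 _) m hae (AlgSp.repWith_id _ _) (by rw [Category.comp_id, hm])) inferInstance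

end Step

end Groth.Agent.Bootst16
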