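import Groth.Agent.Lib.GrpLocus20.MaxOpen
import Mathlib.RingTheory.FinitePresentation
import Mathlib.RingTheory.Flat.Basic
import Mathlib.AlgebraicGeometry.Morphisms.Flat

/-!
# Retracts of flat schemes locally of finite presentation
-/

universe u

open CategoryTheory CategoryTheory.Limits AlgebraicGeometry

set_option linter.style.haveILetI false
set_option backward.isDefEq.respectTransparency false
set_option backward.isDefEq.respectTransparency.types false

namespace Groth.Agent.Bootst16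

theorem algebra_retract {R A B : Type u} [CommRing R] [CommRing A] [Algebra R A] [CommRing B] [Algebra R B]
    [Algebra.FinitePresentation R B] [Module.Flat R B] (i : A →ₐ[R] B) (r : B →ₐ[R] A) (h : ∀ a, r (i a) = a) :
    Algebra.FinitePresentation R A ∧ Module.Flat R A := by
  classical
  refine ⟨?_, Module.Flat.of_retract i.toLinearMap r.toLinearMap (LinearMap.ext h)⟩
  obtain ⟨s, hs⟩ := (inferInstance : Algebra.FiniteType R B).out
  let J : Ideal B := Ideal.span ((fun b => b - i (r b)) '' (s : Set B))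
  refine Algebra.FinitePresentation.of_surjective (f := r) (fun a => ⟨i a, h a⟩) ?_
  refine ⟨s.image fun b => b - i (r b), ?_⟩
  rw [Finset.coe_image]
  refine le_antisymm (Ideal.span_le.2 ?_) fun b hb => ?_
  · rintro _ ⟨b, -, rfl⟩
    show r (b - i (r b)) = 0
    rw [map_sub, h, sub_self]
  · have key : ∀ b : B, b - i (r b) ∈ J := fun b => by
      have hb : b ∈ Algebra.adjoin R (s : Set B) := hs ▸ Algebra.mem_top
      induction hb using Algebra.adjoin_induction with
      | mem x hx => exact Ideal.subset_span ⟨x, hx, rfl⟩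
      | algebraMap x => rw [r.commutes, i.commutes, sub_self]; exact J.zero_mem
      | add x y _ _ hx hy =>
        rw [map_add, map_add, add_sub_add_comm]
        exact J.add_mem hx hy
      | mul x y _ _ hx hy =>
        rw [map_mul, map_mul, show x * y - i (r x) * i (r y) = (x - i (r x)) * y + i (r x) * (y - i (r y)) by ring]
        exact J.add_mem (J.mul_mem_right _ hx) (J.mul_mem_left _ hy)
    have := key b
    rwa [show r b = 0 from hb, map_zero, sub_zero] at this

theorem retract_appLE {X Y : Scheme.{u}} (i : X ⟶ Y) (r : Y ⟶ X) (h : i ≫ r = 𝟙 X) (U : X.Opens) (V : Y.Opens)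
    (e : U ≤ i ⁻¹ᵁ V) (e' : V ≤ r ⁻¹ᵁ U) : r.appLE U V e' ≫ i.appLE V U e = 𝟙 _ := by
  rw [Scheme.Hom.appLE_comp_appLE]
  have : ∀ (m : X ⟶ X) (hm : m = 𝟙 X) (e'' : U ≤ m ⁻¹ᵁ U), m.appLE U U e'' = 𝟙 _ := by
    rintro m rfl e''
    simp [Scheme.Hom.appLE]
    exact X.presheaf.map_id _
  exact this _ h _

/-- retracts of flat schemes locally of finite presentation -/
theorem flat_lfp_of_retract {X Y S : Scheme.{u}} (i : X ⟶ Y) (r : Y ⟶ X) (h : i ≫ r = 𝟙 X) (f : X ⟶ S)
    [Flat (r ≫ f)] [LocallyOfFinitePresentation (r ≫ f)] : Flat f ∧ LocallyOfFinitePresentation f := by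
  let P : MorphismProperty Scheme.{u} := @Flat ⊓ @LocallyOfFinitePresentation
  have key : ∀ x : X, ∃ U : X.Opens, x ∈ U ∧ P (U.ι ≫ f) := by
    intro x
    obtain ⟨W, hW, hxW, -⟩ := exists_isAffineOpen_mem_and_subset (x := f x) (U := (⊤ : S.Opens)) trivial
    obtain ⟨U, hU, hxU, hUW⟩ := exists_isAffineOpen_mem_and_subset (x := x) (U := f ⁻¹ᵁ W) hxW
    have hri : r (i x) = x := by rw [← Scheme.Hom.comp_apply, h]; rfl
    obtain ⟨V, hV, hxV, hVU⟩ := exists_isAffineOpen_mem_and_subset (x := i x) (U := r ⁻¹ᵁ U)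
      (show r (i x) ∈ U by rw [hri]; exact hxU)
    obtain ⟨g, hgle, hxg⟩ := hU.exists_basicOpen_le (V := i ⁻¹ᵁ V) ⟨x, hxV⟩ hxU
    let U' := X.basicOpen g
    have hU' : IsAffineOpen U' := hU.basicOpen g
    let g' := r.appLE U V hVU g
    let V' := Y.basicOpen g'
    have hV' : IsAffineOpen V' := hV.basicOpen g'
    have hV'e : V' = V ⊓ r ⁻¹ᵁ U' := by
      simp [V', g', U', Scheme.Hom.appLE, Scheme.basicOpen_res, ← Scheme.preimage_basicOpen]
    have e : U' ≤ i ⁻¹ᵁ V' := fun y hy => by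
      show i y ∈ V'
      rw [hV'e]
      exact ⟨hgle hy, by show r (i y) ∈ U'; rw [← Scheme.Hom.comp_apply, h]; exact hy⟩
    have e' : V' ≤ r ⁻¹ᵁ U' := hV'e.trans_le inf_le_right
    have hU'W : U' ≤ f ⁻¹ᵁ W := (X.basicOpen_le g).trans hUW
    let α := f.appLE W U' hU'W
    letI : Algebra Γ(S, W) Γ(X, U') := α.hom.toAlgebra
    have hV'W : V' ≤ (r ≫ f) ⁻¹ᵁ W := fun y hy => hU'W (e' hy)
    letI : Algebra Γ(S, W) Γ(Y, V') := ((r ≫ f).appLE W V' hV'W).hom.toAlgebra
    haveI : Algebra.FinitePresentation Γ(S, W) Γ(Y, V') := RingHom.finitePresentation_algebraMap.1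
      (HasRingHomProperty.appLE @LocallyOfFinitePresentation (r ≫ f) inferInstance ⟨W, hW⟩ ⟨V', hV'⟩ hV'W)
    haveI : Module.Flat Γ(S, W) Γ(Y, V') := RingHom.flat_algebraMap_iff.1
      (HasRingHomProperty.appLE @Flat (r ≫ f) inferInstance ⟨W, hW⟩ ⟨V', hV'⟩ hV'W)
    have hr : α ≫ r.appLE U' V' e' = (r ≫ f).appLE W V' hV'W := Scheme.Hom.appLE_comp_appLE r f W U' V' hU'W e'
    have hi : (r ≫ f).appLE W V' hV'W ≫ i.appLE V' U' e = α := by
      rw [← hr, Category.assoc, retract_appLE i r h U' V' e e', Category.comp_id]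
    let ia : Γ(X, U') →ₐ[Γ(S, W)] Γ(Y, V') :=
      { (r.appLE U' V' e').hom with commutes' := fun a => congrArg (fun m => m.hom a) hr }
    let ra : Γ(Y, V') →ₐ[Γ(S, W)] Γ(X, U') :=
      { (i.appLE V' U' e).hom with commutes' := fun a => congrArg (fun m => m.hom a) hi }
    obtain ⟨hfp, hfl⟩ := algebra_retract ia ra fun a =>
      congrArg (fun m => m.hom a) (retract_appLE i r h U' V' e e')
    have hh : U'.ι ≫ f = hU'.isoSpec.hom ≫ Spec.map α ≫ hW.fromSpec := by
      rw [IsAffineOpen.SpecMap_appLE_fromSpec, ← Category.assoc]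
      · rw [IsAffineOpen.isoSpec_hom_fromSpec hU']
      · exact hU'
    refine ⟨U', hxg, ?_, ?_⟩
    · rw [hh]
      haveI : Flat (Spec.map α) := HasRingHomProperty.Spec_iff.2 (RingHom.flat_algebraMap_iff.2 hfl)
      infer_instance
    · rw [hh]
      haveI : LocallyOfFinitePresentation (Spec.map α) :=
        HasRingHomProperty.Spec_iff.2 (RingHom.finitePresentation_algebraMap.2 hfp)
      infer_instance
  choose U hxU hP using key
  exact ⟨IsZariskiLocalAtSource.of_iSup_eq_top U (top_unique fun x _ => TopologicalSpace.Opens.mem_iSup.2 ⟨x, hxU x⟩)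
      fun x => (hP x).1,
    IsZariskiLocalAtSource.of_iSup_eq_top U (top_unique fun x _ => TopologicalSpace.Opens.mem_iSup.2 ⟨x, hxU x⟩)
      fun x => (hP x).2⟩

open CartesianMonoidalCategory MonoidalCategory in
/-- If `G ×_S T` is flat, surjective and locally of finite presentation over `S`, so is `G` flat and locally of finite
presentation, `G` having a section. -/
theorem flat_lfp_of_prod {S : Scheme.{u}} (G T : Over S) [Flat (G ⊗ T).hom] [LocallyOfFinitePresentation (G ⊗ T).hom]
    [Surjective (G ⊗ T).hom] : Flat G.hom ∧ LocallyOfFinitePresentation G.hom := by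
  let Q := G ⊗ T
  let i : G ⊗ Q ⟶ Q ⊗ Q := lift (G ◁ (snd G T)) (snd G Q)
  let r : Q ⊗ Q ⟶ G ⊗ Q := (fst G T) ▷ Q
  have hir : i ≫ r = 𝟙 _ := by
    apply CartesianMonoidalCategory.hom_ext
    · show (lift (G ◁ (snd G T)) (snd G Q) ≫ (fst G T) ▷ Q) ≫ fst G Q = 𝟙 _ ≫ fst G Q
      rw [Category.assoc, whiskerRight_fst, ← Category.assoc, lift_fst, whiskerLeft_fst, Category.id_comp]
    · show (lift (G ◁ (snd G T)) (snd G Q) ≫ (fst G T) ▷ Q) ≫ snd G Q = 𝟙 _ ≫ snd G Q
      rw [Category.assoc, whiskerRight_snd, lift_snd, Category.id_comp]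
  have hsnd : IsPullback (fst G Q).left (snd G Q).left G.hom Q.hom := by
    rw [Over.fst_left, Over.snd_left]
    exact IsPullback.of_hasPullback G.hom Q.hom
  have hr : r.left ≫ (snd G Q).left = (snd Q Q).left := by
    rw [← Over.comp_left, whiskerRight_snd]
  haveI : Flat (r.left ≫ (snd G Q).left) := by
    rw [hr, Over.snd_left]
    infer_instance
  haveI : LocallyOfFinitePresentation (r.left ≫ (snd G Q).left) := by
    rw [hr, Over.snd_left]
    infer_instance
  obtain ⟨h1, h2⟩ := flat_lfp_of_retract i.left r.left (by rw [← Over.comp_left, hir]; rfl) (snd G Q).left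
  have hs : Surjective (fst G Q).left := MorphismProperty.of_isPullback hsnd.flip (inferInstance : Surjective Q.hom)
  haveI : IsIso (⊤ : (G ⊗ Q).left.Opens).ι := (Scheme.topIso (G ⊗ Q).left).isIso_hom
  exact Groth.Agent.GrpLocus20.descendsAlong_flat hsnd ⟨inferInstance, inferInstance⟩ ⊤
    ⟨MorphismProperty.RespectsIso.precomp @Flat _ _ h1, MorphismProperty.RespectsIso.precomp @LocallyOfFinitePresentation _ _ h2⟩
    (MorphismProperty.RespectsIso.precomp @Surjective _ _ hs)

end Groth.Agent.Bootst16
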