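import Groth.Agent.Lib.KoszulFibre4.Spread
import Mathlib.RingTheory.Jacobson.Ring
import Mathlib.RingTheory.Ideal.MinimalPrime.Basic
import Mathlib.RingTheory.Ideal.MinimalPrime.Localization

/-!
# A regular slice through some closed point of an algebra of finite type over a field
-/

universe u

set_option linter.style.haveILetI false
set_option backward.isDefEq.respectTransparency.types false

namespace Groth.Agent.Bootst16

variable {C : Type u} [CommRing C]

/-- regularity at `m` of a sequence modulo `I`, with denominators cleared -/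
def RegAt (m : Ideal C) (I : Ideal C) (fs : List C) : Prop :=
  ∀ (j : ℕ) (hj : j < fs.length) (a : C), ∀ t ∉ m,
    t * fs[j] * a ∈ I ⊔ Ideal.ofList (fs.take j) → ∃ s ∉ m, s * a ∈ I ⊔ Ideal.ofList (fs.take j)

/-- the kernel of the localisation of `C ⧸ I` at `P` is killed by one element outside `P` -/
theorem exists_kill [IsNoetherianRing C] (I P : Ideal C) [P.IsPrime] :
    ∃ g ∉ P, ∀ a, (∃ v ∉ P, v * a ∈ I) → g * a ∈ I := by
  classical
  let N : Ideal C :=
    { carrier := {a | ∃ v ∉ P, v * a ∈ I}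
      zero_mem' := ⟨1, (Ideal.ne_top_iff_one P).1 Ideal.IsPrime.ne_top', by simp⟩
      add_mem' := fun {a b} ⟨v, hv, ha⟩ ⟨w, hw, hb⟩ => ⟨v * w, fun h => (Ideal.IsPrime.mem_or_mem ‹_› h).elim hv hw, by
        rw [mul_add]
        exact add_mem (by rw [mul_right_comm]; exact I.mul_mem_right w ha) (by rw [mul_assoc]; exact I.mul_mem_left v hb)⟩
      smul_mem' := fun c a ⟨v, hv, ha⟩ => ⟨v, hv, by rw [smul_eq_mul, mul_left_comm]; exact I.mul_mem_left c ha⟩ }
  obtain ⟨s, hs⟩ := IsNoetherian.noetherian N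
  have hv : ∀ a : s, ∃ v ∉ P, v * (a : C) ∈ I := fun a =>
    show (a : C) ∈ N from hs ▸ Submodule.subset_span a.2
  choose v hv hva using hv
  refine ⟨∏ a, v a, fun h => ?_, fun a ha => ?_⟩
  · obtain ⟨a, -, ha⟩ := Ideal.IsPrime.prod_mem_iff.1 h
    exact hv a ha
  · have ha' : a ∈ Submodule.span C (s : Set C) := hs.symm ▸ (show a ∈ N from ha)
    induction ha' using Submodule.span_induction with
    | mem x hx =>
      obtain ⟨w, hw⟩ : v ⟨x, hx⟩ ∣ ∏ a, v a := Finset.dvd_prod_of_mem v (Finset.mem_univ _)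
      rw [hw, mul_right_comm]
      exact I.mul_mem_right w (hva ⟨x, hx⟩)
    | zero => simp
    | add x y hx hy h₁ h₂ =>
      rw [mul_add]
      exact add_mem (h₁ (hs ▸ hx : x ∈ N)) (h₂ (hs ▸ hy : y ∈ N))
    | smul c x hx h =>
      rw [smul_eq_mul, mul_left_comm]
      exact I.mul_mem_left c (h (hs ▸ hx : x ∈ N))

/-- some closed point of `V(I) ∩ D(h)` is cut out near it by a regular sequence -/
theorem exists_regAt_aux [IsNoetherianRing C] [IsJacobsonRing C] (I : Ideal C) :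
    ∀ h : C, h ∉ I.radical → ∃ (m : Ideal C) (fs : List C), m.IsMaximal ∧ h ∉ m ∧ I ⊔ Ideal.ofList fs ≤ m ∧
      RegAt m I fs ∧ m ∈ (I ⊔ Ideal.ofList fs).minimalPrimes := by
  induction I using WellFoundedGT.induction with
  | ind I ih => ?_
  intro h hh
  have hJ : ∀ (J : Ideal C), h ∉ J.radical → ∃ m : Ideal C, m.IsMaximal ∧ J ≤ m ∧ h ∉ m := by
    intro J hJ
    rw [← IsJacobsonRing.out' J.radical (Ideal.radical_isRadical J), Ideal.jacobson, Submodule.mem_sInf] at hJ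
    push Not at hJ
    obtain ⟨m, ⟨hJm, hm⟩, hhm⟩ := hJ
    exact ⟨m, hm, Ideal.le_radical.trans hJm, hhm⟩
  by_cases hA : ∀ P : Ideal C, P.IsPrime → I ≤ P → h ∉ P → P.IsMaximal
  · obtain ⟨m, hm, hIm, hhm⟩ := hJ I hh
    refine ⟨m, [], hm, hhm, by simpa using hIm, fun j hj => absurd hj (by simp), ?_⟩
    haveI := hm.isPrime
    obtain ⟨Q, hQ, hQm⟩ := Ideal.exists_minimalPrimes_le (show I ⊔ Ideal.ofList ([] : List C) ≤ m by simpa using hIm)
    have hQ' := hA Q hQ.1.1 (le_sup_left.trans hQ.1.2) fun h' => hhm (hQm h')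
    rwa [← hQ'.eq_of_le hm.ne_top hQm]
  push Not at hA
  obtain ⟨P', hP', hIP', hhP', hnm⟩ := hA
  obtain ⟨P, hP, hPP'⟩ := Ideal.exists_minimalPrimes_le hIP'
  haveI := hP.1.1
  have hhP : h ∉ P := fun h' => hhP' (hPP' h')
  obtain ⟨g, hg, hkill⟩ := exists_kill I P
  have hhg : h * g ∉ P := fun h' => (hP.1.1.mem_or_mem h').elim hhP hg
  have hrad : ∀ (m : Ideal C), m.IsPrime → I ≤ m → g ∉ m → P ≤ m := by
    intro m hm hIm hgm p hp
    obtain ⟨n, v, hv, hn⟩ : ∃ (n : ℕ) (v : C), v ∉ P ∧ v * p ^ n ∈ I := by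
      have hp' : algebraMap C (Localization.AtPrime P) p ∈
          (I.map (algebraMap C (Localization.AtPrime P))).radical := by
        rw [IsLocalization.AtPrime.radical_map_of_mem_minimalPrimes (A := Localization.AtPrime P) P I hP]
        exact Ideal.mem_map_of_mem _ hp
      obtain ⟨n, hn⟩ := hp'
      rw [← map_pow, IsLocalization.algebraMap_mem_map_algebraMap_iff P.primeCompl] at hn
      obtain ⟨v, hv, hvn⟩ := hn
      exact ⟨n, v, hv, hvn⟩
    exact hm.mem_of_pow_mem n ((hm.mem_or_mem (hIm (hkill _ ⟨v, hv, hn⟩))).resolve_left hgm)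
  obtain ⟨m₁, hm₁, hP₁, hhg₁⟩ : ∃ m : Ideal C, m.IsMaximal ∧ P ≤ m ∧ h * g ∉ m := by
    have hn : h * g ∉ P.radical := by rwa [hP.1.1.isRadical.radical]
    rw [← IsJacobsonRing.out' P.radical (Ideal.radical_isRadical P), Ideal.jacobson, Submodule.mem_sInf] at hn
    push Not at hn
    obtain ⟨m, ⟨hm₁, hm⟩, hgm⟩ := hn
    exact ⟨m, hm, Ideal.le_radical.trans hm₁, hgm⟩
  have hlt : P < m₁ := lt_of_le_of_ne hP₁ fun e => by
    subst e
    exact hnm (hm₁.eq_of_le hP'.ne_top hPP' ▸ hm₁)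
  obtain ⟨f, hfm, hfP⟩ := SetLike.exists_of_lt hlt
  have hI' : h * g ∉ (I ⊔ Ideal.span {f}).radical := fun h' => hhg₁
    ((hm₁.isPrime.radical_le_iff.2 (sup_le (hP.1.2.trans hP₁) (by rwa [Ideal.span_le, Set.singleton_subset_iff]))) h')
  obtain ⟨m, fs, hm, hhgm, hle, hreg, hmin⟩ := ih _ (left_lt_sup.2 fun h' => hfP (hP.1.2
    (h' (Ideal.mem_span_singleton_self f)))) (h * g) hI'
  have e : ∀ l : List C, I ⊔ Ideal.ofList (f :: l) = I ⊔ Ideal.span {f} ⊔ Ideal.ofList l := fun l => by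
    rw [Ideal.ofList_cons, sup_assoc]
  have hgm : g ∉ m := fun h' => hhgm (m.mul_mem_left h h')
  refine ⟨m, f :: fs, hm, fun h' => hhgm (m.mul_mem_right g h'), (e fs).trans_le hle, ?_, e fs ▸ hmin⟩
  intro j hj a t ht hmem
  cases j with
  | zero =>
    simp only [List.getElem_cons_zero, List.take_zero, Ideal.ofList_nil, sup_bot_eq] at hmem ⊢
    have htP : t ∉ P := fun h' => ht (hrad m hm.isPrime (le_sup_left.trans (le_sup_left.trans hle)) hgm h')
    exact ⟨g, hgm, hkill a ⟨t * f, fun h' => (hP.1.1.mem_or_mem h').elim htP hfP, hmem⟩⟩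
  | succ j =>
    simp only [List.getElem_cons_succ, List.take_succ_cons] at hmem ⊢
    rw [e] at hmem ⊢
    exact hreg j (by simpa using hj) a t ht hmem

/-- Some closed point of a nonzero algebra of finite type over a field is cut out near it by a regular sequence. -/
theorem exists_slice (K : Type u) [Field K] (C : Type u) [CommRing C] [Algebra K C] [Algebra.FiniteType K C]
    [Nontrivial C] :
    ∃ (m : Ideal C) (_ : m.IsPrime) (fs : List C) (h : C), Ideal.ofList fs ≤ m ∧ KoszulFibre4.FibReg m K fs ∧ h ∉ m ∧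
      m.IsMaximal ∧ ∀ P : Ideal C, P.IsPrime → Ideal.ofList fs ≤ P → h ∉ P → P = m := by
  haveI : IsNoetherianRing C := Algebra.FiniteType.isNoetherianRing K C
  haveI : IsJacobsonRing C := isJacobsonRing_of_finiteType (A := K)
  obtain ⟨m, fs, hm, -, hle, hreg, hmin⟩ := exists_regAt_aux (⊥ : Ideal C) 1 (by
    rw [← Ideal.eq_top_iff_one, Ideal.radical_eq_top]
    exact bot_ne_top)
  haveI := hm.isPrime
  rw [bot_sup_eq] at hle hmin
  obtain ⟨h, hh, hh'⟩ : ∃ h : C, h ∉ m ∧ ∀ Q ∈ (Ideal.ofList fs).minimalPrimes, Q ≠ m → h ∈ Q := by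
    classical
    have hfin := (Ideal.finite_minimalPrimes_of_isNoetherianRing C (Ideal.ofList fs))
    have hQ : ∀ Q ∈ hfin.toFinset.erase m, ∃ x ∈ Q, x ∉ m := fun Q hQ => by
      rw [Finset.mem_erase, Set.Finite.mem_toFinset] at hQ
      by_contra hc
      push Not at hc
      exact hQ.1 (le_antisymm hc (hmin.2 hQ.2.1 hc))
    choose x hxQ hxm using hQ
    refine ⟨∏ Q : ↥(hfin.toFinset.erase m), x Q.1 Q.2, fun hp => ?_, fun Q hQm hne => ?_⟩
    · obtain ⟨Q, -, hQ⟩ := Ideal.IsPrime.prod_mem_iff.1 hp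
      exact hxm Q.1 Q.2 hQ
    · have hQ' : Q ∈ hfin.toFinset.erase m := Finset.mem_erase.2 ⟨hne, (Set.Finite.mem_toFinset _).2 hQm⟩
      exact Ideal.mem_of_dvd Q (Finset.dvd_prod_of_mem _ (Finset.mem_univ ⟨Q, hQ'⟩)) (hxQ Q hQ')
  refine ⟨m, inferInstance, fs, h, hle, fun j hj a t ht hmem => ?_, hh, hm, fun P hP hfP hhP => ?_⟩
  · have e : (m.comap (algebraMap K C)).map (algebraMap K C) = ⊥ := by
      rw [(Ideal.eq_bot_or_top (m.comap (algebraMap K C))).resolve_right
        (Ideal.comap_ne_top _ hm.ne_top), Ideal.map_bot]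
    rw [e] at hmem ⊢
    exact hreg j hj a t ht hmem
  · obtain ⟨Q, hQ, hQP⟩ := Ideal.exists_minimalPrimes_le hfP
    have hQm : Q = m := by_contra fun hne => hhP (hQP (hh' Q hQ hne))
    exact (hm.eq_of_le hP.ne_top (hQm ▸ hQP)).symm

end Groth.Agent.Bootst16
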