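import Groth.Agent.Lib.FC16.Basic
import Groth.Agent.Lib.StAlg.Rep
import Mathlib.CategoryTheory.EssentiallySmall
import Mathlib.CategoryTheory.InducedCategory

/-!
# Small models of categories over the base
-/

universe v w u

open CategoryTheory CategoryTheory.Functor CategoryTheory.Limits AlgebraicGeometry

set_option linter.style.haveILetI false
set_option backward.isDefEq.respectTransparency false
set_option backward.isDefEq.respectTransparency.types false

namespace Groth.Agent.Bootst16

open Groth.Agent.FC16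

variable {S : Scheme.{u}}

/-- a category over the base with small morphism sets and essentially small objects has a small model -/
theorem exists_small_model (𝒳 : BasedCategory.{v, w} (Over S)) (O : Type (u + 1)) (f : O → 𝒳.obj)
    (hsmall : ∀ a b : O, Small.{u} (f a ⟶ f b))
    (hess : ∀ x : 𝒳.obj, ∃ (o : O) (e : f o ≅ x), 𝒳.p.IsHomLift (𝟙 (𝒳.p.obj x)) e.hom) :
    ∃ (𝒴 : AlgSt.Cat S) (E : 𝒴 ⥤ᵇ 𝒳), FibCat.IsEquivOver E := by
  haveI : LocallySmall.{u} (InducedCategory 𝒳.obj f) :=
    ⟨fun a b => haveI := hsmall a b; small_map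
      ({ toFun := fun φ => φ.hom, invFun := fun φ => InducedCategory.homMk φ, left_inv := fun _ => rfl,
         right_inv := fun _ => rfl } : (a ⟶ b) ≃ (f a ⟶ f b))⟩
  let F₀ : ShrinkHoms (InducedCategory 𝒳.obj f) ⥤ 𝒳.obj :=
    (ShrinkHoms.equivalence.{u} (InducedCategory 𝒳.obj f)).inverse ⋙ inducedFunctor f
  let 𝒴 : AlgSt.Cat S :=
    { obj := ShrinkHoms (InducedCategory 𝒳.obj f)
      category := inferInstance
      p := F₀ ⋙ 𝒳.p }
  let E : 𝒴 ⥤ᵇ 𝒳 := { toFunctor := F₀, w := rfl }
  haveI : E.toFunctor.Full := inferInstanceAs F₀.Full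
  haveI : E.toFunctor.Faithful := inferInstanceAs F₀.Faithful
  exact ⟨𝒴, E, isEquivOver_of E fun x => by
    obtain ⟨o, e, he⟩ := hess x
    exact ⟨ShrinkHoms.toShrinkHoms o, e, he⟩⟩

end Groth.Agent.Bootst16
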