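import Groth.Agent.Lib.AlgSpace.Chart
import Groth.Agent.Lib.SpQuot16.Yon
import Mathlib.RingTheory.FinitePresentation
import Mathlib.AlgebraicGeometry.Morphisms.Etale
import Mathlib.Logic.Small.Basic

/-!
# The sections of an algebraic space over a scheme form a small set
-/

universe u

open CategoryTheory CategoryTheory.Limits AlgebraicGeometry Opposite

set_option linter.style.haveILetI false
set_option linter.unusedSectionVars false
set_option backward.isDefEq.respectTransparency false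
set_option backward.isDefEq.respectTransparency.types false

namespace Groth.Agent.Bootst16

open AlgSp

variable {S : Scheme.{u}}

/-- indices of the finitely presented affine schemes over the affine opens of `T` -/
abbrev PcIdx (T : Over S) : Type u :=
  Σ (O : T.left.affineOpens) (n : ℕ), Finset (MvPolynomial (Fin n) Γ(T.left, O.1))

/-- the ring of an index -/
abbrev pcRing {T : Over S} (i : PcIdx T) : Type u :=
  MvPolynomial (Fin i.2.1) Γ(T.left, i.1.1) ⧸ Ideal.span (i.2.2 : Set (MvPolynomial (Fin i.2.1) Γ(T.left, i.1.1)))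

/-- the map to `T` -/
noncomputable abbrev pcMap {T : Over S} (i : PcIdx T) : Spec (CommRingCat.of (pcRing i)) ⟶ T.left :=
  Spec.map (CommRingCat.ofHom (algebraMap Γ(T.left, i.1.1) (pcRing i))) ≫ i.1.2.fromSpec

/-- the scheme over `S` of an index -/
noncomputable abbrev pcObj {T : Over S} (i : PcIdx T) : Over S := Over.mk (pcMap i ≫ T.hom)

/-- its map to `T` -/
noncomputable abbrev pcι {T : Over S} (i : PcIdx T) : pcObj i ⟶ T := Over.homMk (pcMap i) rfl

theorem exists_pc_of_affine {T W : Over S} (p : W ⟶ T) [LocallyOfFinitePresentation p.left] {O : T.left.Opens}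
    (hO : IsAffineOpen O) {O' : W.left.Opens} (hO' : IsAffineOpen O') (e : O' ≤ p.left ⁻¹ᵁ O) :
    ∃ (i : PcIdx T) (j : pcObj i ⟶ W), j ≫ p = pcι i ∧ IsOpenImmersion j.left ∧ Set.range j.left = O' := by
  let α := p.left.appLE O O' e
  letI : Algebra Γ(T.left, O) Γ(W.left, O') := α.hom.toAlgebra
  haveI : Algebra.FinitePresentation Γ(T.left, O) Γ(W.left, O') :=
    RingHom.finitePresentation_algebraMap.1
      (HasRingHomProperty.appLE @LocallyOfFinitePresentation p.left ‹_› ⟨O, hO⟩ ⟨O', hO'⟩ e)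
  obtain ⟨n, f, hf, s, hs⟩ := Algebra.FinitePresentation.out (R := Γ(T.left, O)) (A := Γ(W.left, O'))
  let i : PcIdx T := ⟨⟨O, hO⟩, n, s⟩
  let ε : pcRing i ≃ₐ[Γ(T.left, O)] Γ(W.left, O') :=
    (Ideal.quotientEquivAlgOfEq _ hs).trans (Ideal.quotientKerAlgEquivOfSurjective hf)
  let θ : CommRingCat.of (pcRing i) ≅ Γ(W.left, O') := ε.toRingEquiv.toCommRingCatIso
  have hθ : CommRingCat.ofHom (algebraMap Γ(T.left, O) (pcRing i)) ≫ θ.hom = α :=
    CommRingCat.hom_ext (RingHom.ext fun x => ε.commutes x)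
  have hsq : Spec.map θ.inv ≫ hO'.fromSpec ≫ p.left = pcMap i := by
    rw [← IsAffineOpen.SpecMap_appLE_fromSpec _ hO hO' e, ← Category.assoc, ← Spec.map_comp,
      show p.left.appLE O O' e ≫ θ.inv = CommRingCat.ofHom (algebraMap Γ(T.left, O) (pcRing i)) by
        rw [Iso.comp_inv_eq]; exact hθ.symm]
  refine ⟨i, Over.homMk (Spec.map θ.inv ≫ hO'.fromSpec) ?_, Over.OverMorphism.ext ?_,
    (show IsOpenImmersion (Spec.map θ.inv ≫ hO'.fromSpec) from inferInstance), ?_⟩
  · show (Spec.map θ.inv ≫ hO'.fromSpec) ≫ W.hom = pcMap i ≫ T.hom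
    rw [← Over.w p, ← hsq]
    simp only [Category.assoc]
  · show (Spec.map θ.inv ≫ hO'.fromSpec) ≫ p.left = pcMap i
    rw [Category.assoc, hsq]
  · show Set.range (Spec.map θ.inv ≫ hO'.fromSpec) = _
    rw [Scheme.Hom.comp_base, TopCat.coe_comp, Set.range_comp,
      show Set.range (Spec.map θ.inv) = Set.univ from (Spec.map θ.inv).homeomorph.surjective.range_eq,
      Set.image_univ, hO'.range_fromSpec]

variable {F : Sp S} {V : Over S}

/-- the indices whose scheme lifts a given section to the chart -/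
def LiftSet (a : (yon S).obj V ⟶ F) {T : Over S} (t : (yon S).obj T ⟶ F) : Set (Σ i : PcIdx T, pcObj i ⟶ V) :=
  {z | (yon S).map (pcι z.1) ≫ t = (yon S).map z.2 ≫ a}

variable {a : (yon S).obj V ⟶ F}

/-- the liftable pieces cover -/
theorem mem_J_liftSet (hae : RepWith @Etale a) (has : RepWith @Surjective a) {T : Over S} (t : (yon S).obj T ⟶ F) :
    Sieve.generate (Presieve.ofArrows (fun z : LiftSet a t => pcObj z.1.1) fun z => pcι z.1.1) ∈ AlgSp.J S T := by
  let sqW := hae.1.isPullback t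
  obtain ⟨p₁, hp₁⟩ := (yon S).map_surjective (hae.1.fst t)
  let p₂ : hae.1.pullback t ⟶ T := hae.1.snd t
  change IsPullback _ ((yon S).map p₂) a t at sqW
  rw [← hp₁] at sqW
  haveI : Etale p₂.left := hae.2 t _ _ sqW
  have hs : Surjective p₂.left := has.2 t _ _ sqW
  have h : ∀ x : T.left, ∃ (z : LiftSet a t) (y : (pcObj z.1.1).left),
      (pcι z.1.1).left y = x ∧ Flat (pcι z.1.1).left ∧ LocallyOfFinitePresentation (pcι z.1.1).left := by
    intro x
    obtain ⟨w, hw⟩ := hs.surj x
    obtain ⟨O, hO, hxO, -⟩ := exists_isAffineOpen_mem_and_subset (x := x) (U := (⊤ : T.left.Opens)) trivial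
    obtain ⟨O', hO', hwO', hsub⟩ := exists_isAffineOpen_mem_and_subset (x := w) (U := p₂.left ⁻¹ᵁ O)
      (show p₂.left w ∈ O by rw [hw]; exact hxO)
    obtain ⟨i, j, hj, hjo, hjr⟩ := exists_pc_of_affine p₂ hO hO' hsub
    obtain ⟨y, hy⟩ := hjr.superset hwO'
    haveI : Etale (pcι i).left := by
      rw [← hj, Over.comp_left]
      infer_instance
    refine ⟨⟨⟨i, j ≫ p₁⟩, ?_⟩, y, ?_, ?_, ?_⟩
    · show (yon S).map (pcι i) ≫ t = (yon S).map (j ≫ p₁) ≫ a
      rw [← hj, Functor.map_comp, Functor.map_comp, Category.assoc, Category.assoc, sqW.w]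
    · show (pcι i).left y = x
      rw [← hj, ← hw, ← hy]
      rfl
    · show Flat (pcι i).left
      infer_instance
    · show LocallyOfFinitePresentation (pcι i).left
      infer_instance
  choose z y hy hz₁ hz₂ using h
  let 𝒰 : T.left.Cover Scheme.fppfPrecoverage.{u} :=
    Scheme.Cover.mkOfCovers T.left (fun x => (pcObj (z x).1.1).left) (fun x => (pcι (z x).1.1).left)
      (fun x => ⟨x, y x, hy x⟩) (fun x => ⟨hz₁ x, hz₂ x⟩)
  refine (AlgSpace.mem_J_iff _).2 ⟨𝒰, fun x => ?_⟩
  rw [AlgSpace.overEquiv_arrow]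
  exact ⟨pcObj (z x).1.1, Over.homMk (𝟙 _) (by
    show 𝟙 _ ≫ pcMap (z x).1.1 ≫ T.hom = pcMap (z x).1.1 ≫ T.hom
    rw [Category.id_comp]), pcι (z x).1.1, ⟨z x⟩, Over.OverMorphism.ext (Category.id_comp _)⟩

/-- sections over a scheme form a small set -/
theorem small_yonHom (hF : IsAlgSpace F) (T : Over S) : Small.{u} ((yon S).obj T ⟶ F) := by
  obtain ⟨V, a, hae, has⟩ := hF.atlas
  refine small_of_injective (f := fun t => LiftSet a t) fun t t' h => ?_
  refine SpQuot16.hom_ext_sieve (mem_J_liftSet hae has t) ?_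
  rintro Z l ⟨_, g, _, ⟨z⟩, rfl⟩
  have h' : LiftSet a t = LiftSet a t' := h
  have hz : (yon S).map (pcι z.1.1) ≫ t' = (yon S).map z.1.2 ≫ a := h'.subset z.2
  rw [Functor.map_comp, Category.assoc, Category.assoc, hz, show (yon S).map (pcι z.1.1) ≫ t = _ from z.2]

theorem small_sections (hF : IsAlgSpace F) (T : Over S) : Small.{u} (F.obj.obj (op T)) :=
  haveI := small_yonHom hF T
  small_map (AlgSpace.sect (T := T) (F := F)).symm

/-- maps out of a space are determined on an atlas -/
theorem hom_ext_of_atlas (hae : RepWith @Etale a) (has : RepWith @Surjective a) {G : Sp S} {f g : F ⟶ G}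
    (h : a ≫ f = a ≫ g) : f = g :=
  AlgSpace.hom_ext_yon fun T t => SpQuot16.hom_ext_sieve (mem_J_liftSet hae has t) (by
    rintro Z l ⟨_, m, _, ⟨z⟩, rfl⟩
    simp only [Functor.map_comp, Category.assoc]
    rw [← Category.assoc ((yon S).map (pcι z.1.1)), show (yon S).map (pcι z.1.1) ≫ t = _ from z.2,
      ← Category.assoc ((yon S).map (pcι z.1.1)), show (yon S).map (pcι z.1.1) ≫ t = _ from z.2,
      Category.assoc, Category.assoc, h])

end Groth.Agent.Bootst16
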