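import Groth.Agent.Lib.AlgSpRel14.Nbhd
import Groth.Agent.Lib.FibreLocus.Pointwise
import Groth.Agent.Lib.AlgSpace.Sub
import Groth.Agent.Lib.StAlg16.PLocus

/-!
# The smooth locus of a morphism of algebraic spaces
-/

set_option linter.style.haveILetI false
set_option backward.isDefEq.respectTransparency false
set_option backward.isDefEq.respectTransparency.types false
universe u

open CategoryTheory CategoryTheory.Limits AlgebraicGeometry AlgSp
open Groth.Agent.AlgSpRel14 Groth.Agent.AlgSpace Groth.Agent.AlgSpDecent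

namespace Groth.Agent.Bootst16

variable {S : Scheme.{u}}

theorem mem_range_maxOpen {X Y W : Space S} {f : X ⟶ Y} {w : W ⟶ X}
    (hw : StAlg16.MaxOpen (LocP @Smooth) f w) (x : Points X.obj) :
    x ∈ Set.range (Points.map w.hom) ↔ HasAtMor (Near @Smooth) f.hom x := by
  obtain ⟨hwo, hwP, hmax⟩ := hw
  constructor
  · rintro ⟨y, rfl⟩
    have := (locP_iff_forall_hasAtMor_near @Smooth W.property Y.property _).1 hwP y
    exact (hasAtMor_near_comp_openImmersion @Smooth W.property Y.property hwo f.hom y).1 this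
  · intro hx
    obtain ⟨X', j, hj, hr⟩ := exists_open_space X
      (isOpen_setOf_hasAtMor_near @Smooth X.property Y.property f.hom)
    have hP : LocP @Smooth (j ≫ f).hom :=
      (locP_iff_forall_hasAtMor_near @Smooth X'.property Y.property _).2 fun y =>
        (hasAtMor_near_comp_openImmersion @Smooth X'.property Y.property hj f.hom y).2 (hr.subset ⟨y, rfl⟩)
    obtain ⟨k, rfl⟩ := hmax X' j hj hP
    obtain ⟨y, rfl⟩ := hr.superset hx
    exact ⟨Points.map k.hom y, (Points.map_comp k.hom w.hom y).symm⟩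

theorem exists_maxOpen {X Y : Space S} (f : X ⟶ Y) :
    ∃ (W : Space S) (w : W ⟶ X), StAlg16.MaxOpen (LocP @Smooth) f w := by
  obtain ⟨X', j, hj, hr⟩ := exists_open_space X
    (isOpen_setOf_hasAtMor_near @Smooth X.property Y.property f.hom)
  refine ⟨X', j, hj, (locP_iff_forall_hasAtMor_near @Smooth X'.property Y.property _).2 fun y =>
    (hasAtMor_near_comp_openImmersion @Smooth X'.property Y.property hj f.hom y).2 (hr.subset ⟨y, rfl⟩),
    fun W₁ w₁ hw₁ hP => ?_⟩
  obtain ⟨g, hg⟩ := exists_factor_of_range hj w₁.hom (by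
    rintro _ ⟨y, rfl⟩
    rw [hr]
    exact (hasAtMor_near_comp_openImmersion @Smooth W₁.property Y.property hw₁ f.hom y).1
      ((locP_iff_forall_hasAtMor_near @Smooth W₁.property Y.property _).1 hP y))
  exact ⟨ObjectProperty.homMk g, ObjectProperty.hom_ext _ hg⟩

theorem hasLargest_smooth :
    StAlg16.HasLargest (S := S) (LocP @Smooth) (LocP @LocallyOfFinitePresentation) :=
  fun _ _ f _ => exists_maxOpen f

theorem hasAtMor_near_smooth_baseChange {X Y Y' X' : Sp S} (hX : IsAlgSpace X) (hY : IsAlgSpace Y)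
    (hY' : IsAlgSpace Y') {f : X ⟶ Y} (hf : LocP @LocallyOfFinitePresentation f) {g : Y' ⟶ Y}
    (hg : LocP @Flat g) {g' : X' ⟶ X} {f' : X' ⟶ Y'} (sq : IsPullback g' f' f g) (x' : Points X') :
    HasAtMor (Near @Smooth) f (Points.map g' x') ↔ HasAtMor (Near @Smooth) f' x' := by
  obtain ⟨U, V, U', V', a, b, h, a', b', h', p, β, hae, -, hbe, -, ha'e, ha's, hb'e, -, w, w', wp, wβ, sqs⟩ :=
    exists_cart_diagram hX hY hY' sq
  haveI : LocallyOfFinitePresentation h.left := hf a b h hae hbe w
  haveI : Flat β.left := hg b' b β hb'e hbe wβ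
  haveI : LocallyOfFinitePresentation h'.left := MorphismProperty.of_isPullback sqs inferInstance
  obtain ⟨u', rfl⟩ := surjective_ofPt ha's x'
  rw [Points.map_ofPt, wp, ofPt_map_comp, hasAtMor_near_iff @Smooth hae hbe w,
    hasAtMor_near_iff @Smooth ha'e hb'e w']
  exact ⟨fun h => FibreLocus.isPtLocal_smoothPt.bc sqs u' h,
    fun h => FibreLocus.isPtLocal_smoothPt.desc sqs ‹_› ‹_› u' h⟩

theorem largestBC_smooth :
    StAlg16.LargestBC (S := S) (LocP @Smooth) (LocP @LocallyOfFinitePresentation) (LocP @Flat) := by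
  intro X Y X' Y' f g f' g' sq hf hg W w hw W' w' k sqw
  have hw'o : RepWith @IsOpenImmersion w'.hom := repWith_of_isPullback sqw hw.1
  have key : ∀ x : Points X'.obj, x ∈ Set.range (Points.map w'.hom) ↔ HasAtMor (Near @Smooth) f'.hom x := by
    intro x
    rw [← hasAtMor_near_smooth_baseChange X.property Y.property Y'.property hf hg sq x,
      ← mem_range_maxOpen hw]
    constructor
    · rintro ⟨y, rfl⟩
      refine ⟨Points.map k.hom y, ?_⟩
      rw [← Points.map_comp, sqw.w, Points.map_comp]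
    · rintro ⟨y, hy⟩
      obtain ⟨z, -, hz⟩ := exists_point_lift sqw y x hy
      exact ⟨z, hz⟩
  refine ⟨hw'o, (locP_iff_forall_hasAtMor_near @Smooth W'.property Y'.property _).2 fun y =>
    (hasAtMor_near_comp_openImmersion @Smooth W'.property Y'.property hw'o f'.hom y).2 ((key _).1 ⟨y, rfl⟩),
    fun W₁ w₁ hw₁ hP => ?_⟩
  obtain ⟨c, hc⟩ := exists_factor_of_range hw'o w₁.hom (by
    rintro _ ⟨y, rfl⟩
    exact (key _).2 ((hasAtMor_near_comp_openImmersion @Smooth W₁.property Y'.property hw₁ f'.hom y).1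
      ((locP_iff_forall_hasAtMor_near @Smooth W₁.property Y'.property _).1 hP y)))
  exact ⟨ObjectProperty.homMk c, ObjectProperty.hom_ext _ hc⟩

end Groth.Agent.Bootst16
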