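import Groth.Agent.Lib.Bootst16.SmoothLocus
import Groth.Agent.Lib.StAlg16.PLocusMain
import Groth.Agent.Lib.StAlg16.Atlas
import Groth.Agent.Lib.StAlg16.LocPInst
import Groth.Agent.Lib.GerbAbs16.GoodQInst

/-!
# An algebraic stack from the smooth points of a chart locally of finite presentation
-/

universe u

open CategoryTheory CategoryTheory.Functor CategoryTheory.Limits AlgebraicGeometry Opposite

set_option linter.style.haveILetI false
set_option linter.unusedSectionVars false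
set_option backward.isDefEq.respectTransparency false
set_option backward.isDefEq.respectTransparency.types false

namespace Groth.Agent.Bootst16

open Groth.Agent.FC16 Groth.Agent.StAlg Groth.Agent.StAlg16 AlgSt

variable {S : Scheme.{u}} {𝒳 𝒴 : AlgSt.Cat S}

theorem pbP_surjective : PbP (AlgSp.IsSurjectiveMor (S := S)) := by
  intro X₁ Y₁ X₂ Y₂ _ _ _ _ a b a' b' sq h y
  obtain ⟨x, hx⟩ := h (AlgSp.Points.map b y)
  obtain ⟨z, -, hz⟩ := AlgSpDecent.exists_point_lift sq x y hx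
  exact ⟨z, hz⟩

theorem isLocalOnBase_fppf_locP_smooth :
    AlgSp.IsLocalOnBase (AlgSp.IsFppfCover (S := S)) (AlgSp.LocP @Smooth) :=
  StAlg.isLocalOnBase_fppf_of_fpqc (AlgSpDescent.isLocalOnBase_fpqc_locP AlgSpDescent.precompEtale_smooth
    AlgSpDescent.descendsEtaleSource_smooth)

theorem isOpen_image_fpSnd_flat {P : MorphismProperty (AlgSp.Sp S)} (h𝒳 : FibCat.IsFibGrpd 𝒳.p) {f : 𝒳 ⥤ᵇ 𝒴}
    {V : AlgSp.Space S} {z : AlgSt.ofSp V.obj ⥤ᵇ 𝒴} (hz₁ : AlgSt.RepByAlgSpWith (AlgSp.LocP @Flat) z)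
    (hz₂ : AlgSt.RepByAlgSpWith (AlgSp.LocP @LocallyOfFinitePresentation) z)
    {T : Set (Points (FibCat.fp z f))} (hL : IsPLocus P f z T) :
    IsOpen (Points.map (FibCat.fpSnd z f) '' T) := by
  obtain ⟨A, a, e, W, w, he, -, hw, hT⟩ := hL
  let u := BasedFunctor.comp e (FibCat.fpSnd z f)
  have h1 := with_comp goodP_locP (isStack_ofSp W.obj).1 (isStack_ofSp A.obj).1
    (with_locP_ofSpMap W.property A.property w.hom
      (AlgSpace.locP_of_repWith A.property (AlgSpace.repWith_mono (Q := @Flat)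
        (fun _ _ g (_ : IsOpenImmersion g) => inferInstance) hw.1))) (with_comp_equiv he (with_fpSnd f hz₁))
  have h2 := with_comp goodP_locP (isStack_ofSp W.obj).1 (isStack_ofSp A.obj).1
    (with_locP_ofSpMap W.property A.property w.hom
      (AlgSpace.locP_of_repWith A.property (AlgSpace.repWith_mono (Q := @LocallyOfFinitePresentation)
        (fun _ _ g (_ : IsOpenImmersion g) => inferInstance) hw.1))) (with_comp_equiv he (with_fpSnd f hz₂))
  have e' : Points.map (FibCat.fpSnd z f) '' T =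
      Points.map (BasedFunctor.comp (AlgSt.ofSpMap w.hom) u) '' Set.univ := by
    ext t
    constructor
    · rintro ⟨x, hx, rfl⟩
      obtain ⟨q, rfl⟩ := (map_bijective he).2 x
      obtain ⟨o, ho⟩ := (hT q).1 hx
      obtain ⟨o', rfl⟩ := spPts_bijective.2 o
      rw [← spPts_map] at ho
      exact ⟨o', trivial, by rw [map_comp_apply, spPts_bijective.1 ho, map_comp_apply]⟩
    · rintro ⟨o, -, rfl⟩
      refine ⟨Points.map e (Points.map (AlgSt.ofSpMap w.hom) o), (hT _).2 ⟨spPts o, (spPts_map w.hom o).symm⟩, ?_⟩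
      rw [map_comp_apply, map_comp_apply]
  rw [e']
  exact isOpenMap_map_space h𝒳 W _ h1 h2 _ isOpen_univ

variable {U W : Over S} (h𝒳 : Stk.IsStack (QuotSh.J Scheme.fppfPrecoverage S) 𝒳) (x : FibCat.overCat U ⥤ᵇ 𝒳)
  (hx₁ : AlgSt.RepByAlgSpWith (AlgSp.LocP @Flat) x)
  (hx₂ : AlgSt.RepByAlgSpWith (AlgSp.LocP @LocallyOfFinitePresentation) x)
  (hx₃ : AlgSt.RepByAlgSpWith AlgSp.IsSurjectiveMor x) (v : FibCat.overCat W ⥤ᵇ 𝒳)
  (hv : AlgSt.RepByAlgSpWith (AlgSp.LocP @LocallyOfFinitePresentation) v)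

include h𝒳 hx₁ hx₂ hx₃ hv in
theorem isAlgStack_of_smooth_points
    (hpts : ∀ (A : AlgSp.Space S) (a : A.obj ⟶ (AlgSp.yon S).obj U)
      (e : AlgSt.ofSp A.obj ⥤ᵇ FibCat.fp (BasedFunctor.comp (AlgSt.toOverCat U) x) v), FibCat.IsEquivOver e →
      Nonempty (BasedFunctor.comp e (FibCat.fpFst (BasedFunctor.comp (AlgSt.toOverCat U) x) v) ≅ AlgSt.ofSpMap a) →
      ∀ t : AlgSp.Points ((AlgSp.yon S).obj U), ∃ q : AlgSp.Points A.obj, AlgSp.Points.map a q = t ∧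
        AlgSp.HasAtMor (AlgSpRel14.Near @Smooth) a q) :
    IsAlgStack Scheme.fppfPrecoverage 𝒳 := by
  have gX := h𝒳.1
  let Z : AlgSp.Space S := ⟨_, AlgSp.IsAlgSpace.yon_obj U⟩
  let z : AlgSt.ofSp Z.obj ⥤ᵇ 𝒳 := BasedFunctor.comp (AlgSt.toOverCat U) x
  have hz₁ : AlgSt.RepByAlgSpWith (AlgSp.LocP @Flat) z := with_comp_equiv (toOverCat_isEquivOver U) hx₁
  have hz₂ : AlgSt.RepByAlgSpWith (AlgSp.LocP @LocallyOfFinitePresentation) z :=
    with_comp_equiv (toOverCat_isEquivOver U) hx₂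
  have hz₃ : AlgSt.RepByAlgSpWith AlgSp.IsSurjectiveMor z := with_comp_equiv (toOverCat_isEquivOver U) hx₃
  have hW : IsAlgStack Scheme.fppfPrecoverage (FibCat.overCat W) := isAlgStack_overCat W
  have gW := hW.isStack.1
  obtain ⟨T₀, hT₀⟩ := exists_isPLocus GerbAbs.Chart.pbP_locP' StAlg16.isLocalOnBase_fppf_locP_lfp gW gX hv
    hasLargest_smooth z
  let T := Points.map (FibCat.fpSnd z v) '' T₀
  have hT : IsOpen T := isOpen_image_fpSnd_flat gW hz₁ hz₂ hT₀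
  have eT : Points.map (FibCat.fpSnd z v) ⁻¹' T = T₀ := by
    refine Set.Subset.antisymm (fun q ⟨q', hq', e⟩ => ?_) (Set.subset_preimage_image _ _)
    exact hT₀.saturated GerbAbs.Chart.pbP_locP' GerbAbs.Chart.pbP_locP' GerbAbs.Chart.pbP_locP'
      StAlg16.isLocalOnBase_fppf_locP_lfp StAlg16.isLocalOnBase_fppf_locP_flat gW gX hv largestBC_smooth hz₁
      q' q e hq'
  obtain ⟨hsm, -⟩ := qsub_spec GerbAbs.Chart.pbP_locP' isLocalOnBase_fppf_locP_smooth hW gX (repByAlgSp1_of_with hv)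
    hz₁ hz₂ hz₃ hT (eT.symm ▸ hT₀)
  have hA₀ := isAlgStack_fullSub_qsub hT hW
  -- the smooth part is surjective
  have hsu : AlgSt.RepByAlgSpWith AlgSp.IsSurjectiveMor (BasedFunctor.comp (AlgSt.subIncl _ (Qsub T)) v) := by
    obtain ⟨A, a, e, W', w, he, ⟨i⟩, hmax, hTW⟩ := hT₀
    obtain ⟨W₁, w₁, e₁, hw₁, hq, he₁, hi₁⟩ := exists_sub_baseChange hW hT he i
    refine (with_iff_baseChange_cover pbP_surjective GerbAbs.Chart.isLocalOnBase_fppf_surjective hA₀.isStack.1 gX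
      (rep1_comp hA₀.isStack.1 gW (repByAlgSp1_of_with (isOpenImm_subIncl_qsub hT hW)) (repByAlgSp1_of_with hv))
      Z z hz₁ hz₂ hz₃).2 ⟨W₁, w₁ ≫ a, e₁, he₁, hi₁, ?_⟩
    intro t
    obtain ⟨q, hq₁, hq₂⟩ := hpts A a.hom e he ⟨i⟩ t
    obtain ⟨o, ho⟩ := (mem_range_maxOpen hmax q).2 hq₂
    obtain ⟨q', rfl⟩ := spPts_bijective.2 q
    have h1 : Points.map e q' ∈ T₀ := (hTW q').2 ⟨o, ho⟩
    rw [← eT] at h1
    obtain ⟨o₁, ho₁⟩ := (hq q').1 h1
    refine ⟨o₁, ?_⟩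
    show AlgSp.Points.map (w₁.hom ≫ a.hom) o₁ = t
    rw [AlgSp.Points.map_comp, ho₁, hq₁]
  obtain ⟨W₂, c, hc, hcs⟩ := hA₀.atlas
  exact isAlgStack_of_cover (overCat_isFibGrpd W₂) h𝒳 (rep_overCat W₂)
    (with_comp goodP_locP (overCat_isFibGrpd W₂) hA₀.isStack.1 hc hsm)
    (with_comp goodP_surjective (overCat_isFibGrpd W₂) hA₀.isStack.1 hcs hsu)

end Groth.Agent.Bootst16
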