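import Groth.Agent.Lib.Bootst16.SmallModel
import Groth.Agent.Lib.Bootst16.SmallSect
import Groth.Agent.Lib.SpQuot16.Torsor
import Groth.Agent.Lib.SpQuot16.Stack
import Groth.Agent.Lib.FC16.Fiber

/-!
# A small model of a quotient stack with sheaf torsors
-/

universe u

open CategoryTheory CategoryTheory.Limits MonoidalCategory CartesianMonoidalCategory MonObj GrpObj
  AlgebraicGeometry Opposite

set_option linter.style.haveILetI false
set_option linter.unusedSectionVars false
set_option backward.isDefEq.respectTransparency false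
set_option backward.isDefEq.respectTransparency.types false

namespace Groth.Agent.Bootst16

open AlgSt

variable {S : Scheme.{u}} {B : AlgSp.Sp S} {G : Over B} [GrpObj G] {K : Precoverage Scheme.{u}} {X : Over B}

/-- transport of an action along an isomorphism -/
noncomputable def gActionOfIso {P P' : Over B} (a : AlgSp.GAction G P) (e : P ≅ P') : AlgSp.GAction G P' where
  act := (G ◁ e.inv) ≫ a.act ≫ e.hom
  one_act := by
    rw [← whisker_exchange_assoc, reassoc_of% a.one_act, ← Category.assoc, leftUnitor_naturality, Category.assoc,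
      Iso.inv_hom_id, Category.comp_id]
  mul_act := by
    rw [← whisker_exchange_assoc, reassoc_of% a.mul_act, ← MonoidalCategory.whiskerLeft_comp_assoc]
    simp

variable (K) in
/-- an object of the quotient stack whose total sheaf takes values in small types -/
structure SmallObj (G : Over B) [GrpObj G] {X : Over B} (aX : AlgSp.GAction G X) : Type (u + 1) where
  /-- the base -/
  base : Over S
  /-- the section of the base sheaf -/
  b : (AlgSp.yon S).obj base ⟶ B
  /-- the values of the total sheaf -/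
  F : (Over S)ᵒᵖ ⥤ Type u
  sheaf : Presheaf.IsSheaf (AlgSp.J S) (F ⋙ uliftFunctor.{u + 1, u})
  /-- the map to the base sheaf -/
  hom : (⟨F ⋙ uliftFunctor.{u + 1, u}, sheaf⟩ : AlgSp.Sp S) ⟶ B
  /-- the action -/
  act : AlgSp.GAction G (Over.mk hom)
  /-- the projection -/
  π : Over.mk hom ⟶ Over.mk b
  cart : IsPullback act.act (snd G (Over.mk hom)) π π
  loc : HasSecLoc K π.left
  /-- the map to `X` -/
  φ : Over.mk hom ⟶ X
  eqv : act.act ≫ φ = (G ◁ φ) ≫ aX.act

variable {aX : AlgSp.GAction G X}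

/-- the object of the quotient stack -/
noncomputable def SmallObj.toObj (o : SmallObj K G aX) : SpQuotObj K G aX where
  base := o.base
  b := o.b
  P := Over.mk o.hom
  act := o.act
  π := o.π
  cart := o.cart
  loc := o.loc
  φ := o.φ
  eqv := o.eqv

theorem exists_smallObj (A : SpQuotObj K G aX) (hP : AlgSp.IsAlgSpace A.P.left) :
    ∃ (o : SmallObj K G aX) (e : o.toObj ≅ A), (SpQuotSt K G aX).p.IsHomLift (𝟙 A.base) e.hom := by
  classical
  haveI : ∀ T : (Over S)ᵒᵖ, Small.{u} (A.P.left.obj.obj T) := fun T => small_sections hP T.unop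
  let F : (Over S)ᵒᵖ ⥤ Type u :=
    { obj := fun T => Shrink.{u} (A.P.left.obj.obj T)
      map := fun {T T'} f => ↾fun x => equivShrink _ (A.P.left.obj.map f ((equivShrink _).symm x))
      map_id := fun T => by ext x; simp
      map_comp := fun {T T' T''} f g => by ext x; simp }
  let i : F ⋙ uliftFunctor.{u + 1, u} ≅ A.P.left.obj :=
    NatIso.ofComponents (fun T => (Equiv.ulift.trans (equivShrink _).symm).toIso) (fun {T T'} f => by
      ext x
      simp [F]
      exact Equiv.symm_apply_apply _ _)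
  have hF : Presheaf.IsSheaf (AlgSp.J S) (F ⋙ uliftFunctor.{u + 1, u}) :=
    (Presheaf.isSheaf_of_iso_iff i).2 A.P.left.property
  let j : (⟨F ⋙ uliftFunctor.{u + 1, u}, hF⟩ : AlgSp.Sp S) ≅ A.P.left :=
    (fullyFaithfulSheafToPresheaf (AlgSp.J S) _).preimageIso
      (X := (⟨F ⋙ uliftFunctor.{u + 1, u}, hF⟩ : AlgSp.Sp S)) i
  let P' : Over B := Over.mk (j.hom ≫ A.P.hom)
  let e : A.P ≅ P' := Over.isoMk j.symm (by simp [P'])
  have hact : (gActionOfIso A.act e).act = (G ◁ e.inv) ≫ A.act.act ≫ e.hom := rfl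
  let o : SmallObj K G aX :=
    { base := A.base
      b := A.b
      F := F
      sheaf := hF
      hom := j.hom ≫ A.P.hom
      act := gActionOfIso A.act e
      π := e.inv ≫ A.π
      cart := by
        refine IsPullback.of_iso A.cart (whiskerLeftIso G e) e e (Iso.refl _) ?_ ?_ ?_ ?_
        · show A.act.act ≫ e.hom = (G ◁ e.hom) ≫ (G ◁ e.inv) ≫ A.act.act ≫ e.hom
          rw [← MonoidalCategory.whiskerLeft_comp_assoc, e.hom_inv_id]
          simp
        · exact (whiskerLeft_snd _ _).symm
        · show A.π ≫ 𝟙 _ = e.hom ≫ e.inv ≫ A.π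
          rw [Category.comp_id, Iso.hom_inv_id_assoc]
        · show A.π ≫ 𝟙 _ = e.hom ≫ e.inv ≫ A.π
          rw [Category.comp_id, Iso.hom_inv_id_assoc]
      loc := by
        obtain ⟨R, hR, h⟩ := A.loc
        refine ⟨R, hR, fun T' f hf => ?_⟩
        obtain ⟨s, hs⟩ := h f hf
        refine ⟨s ≫ j.inv, ?_⟩
        show (s ≫ j.inv) ≫ j.hom ≫ A.π.left = _
        rw [Category.assoc, Iso.inv_hom_id_assoc, hs]
      φ := e.inv ≫ A.φ
      eqv := by
        rw [hact, Category.assoc, Category.assoc, Iso.hom_inv_id_assoc, A.eqv, ← MonoidalCategory.whiskerLeft_comp_assoc] }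
  let φ : o.toObj ⟶ A :=
    { base := 𝟙 _
      wb := (congrArg (· ≫ A.b) ((AlgSp.yon S).map_id _)).trans (Category.id_comp _)
      top := e.inv
      eqv := by
        show ((G ◁ e.inv) ≫ A.act.act ≫ e.hom) ≫ e.inv = (G ◁ e.inv) ≫ A.act.act
        simp
      cart := by
        rw [bHom_id]
        exact IsPullback.of_horiz_isIso ⟨(Category.comp_id _).symm⟩
      wφ := rfl }
  haveI : IsIso φ.base := inferInstanceAs (IsIso (𝟙 A.base))
  haveI := SpQuot16.isIso_of_isIso_base φ
  exact ⟨o, asIso φ, IsHomLift.map (SpQuotSt K G aX).p φ⟩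

theorem small_hom {A A' : SpQuotObj K G aX} (hA : AlgSp.IsAlgSpace A.P.left) (hA' : AlgSp.IsAlgSpace A'.P.left) :
    Small.{u} (A ⟶ A') := by
  obtain ⟨V, a, hae, has⟩ := hA.atlas
  haveI := small_yonHom hA' V
  refine small_of_injective (f := fun h : A ⟶ A' => (h.base, a ≫ h.top.left)) fun h h' e => ?_
  exact SpQuotObj.hom_ext (congrArg Prod.fst e)
    (Over.OverMorphism.ext (hom_ext_of_atlas hae has (congrArg Prod.snd e)))

/-- quotient stacks of algebraic spaces have small models -/
theorem exists_small_model_spQuotSt (hB : AlgSp.IsAlgSpace B) (hG : AlgSp.IsAlgSpace G.left)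
    (aX : AlgSp.GAction G X) :
    ∃ (𝒴 : AlgSt.Cat S) (E : 𝒴 ⥤ᵇ SpQuotSt Scheme.fppfPrecoverage G aX), FibCat.IsEquivOver E :=
  exists_small_model _ (SmallObj Scheme.fppfPrecoverage G aX) SmallObj.toObj
    (fun _ _ => small_hom (SpQuot16.isAlgSpace_P hB hG _) (SpQuot16.isAlgSpace_P hB hG _))
    fun A => exists_smallObj A (SpQuot16.isAlgSpace_P hB hG A)

end Groth.Agent.Bootst16
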