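import Groth.Agent.Lib.Bootst16.RepCover
import Groth.Agent.Lib.Bootst16.SpQuotSmall
import Groth.Agent.Lib.SpQuot16.Chart

/-!
# Quotient stacks by flat group spaces locally of finite presentation are algebraic
-/

universe v w u

open CategoryTheory CategoryTheory.Functor CategoryTheory.Limits AlgebraicGeometry Opposite MonoidalCategory

set_option linter.style.haveILetI false
set_option linter.unusedSectionVars false
set_option backward.isDefEq.respectTransparency false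
set_option backward.isDefEq.respectTransparency.types false

namespace Groth.Agent.Bootst16

open Groth.Agent.FC16 Groth.Agent.StAlg Groth.Agent.StAlg16 AlgSt

variable {S : Scheme.{u}}

/-- a functor into a category with a small model, moved to the model -/
theorem exists_lift_model {𝒰 𝒴 : AlgSt.Cat S} {𝒳 : BasedCategory.{v, w} (Over S)} {E : 𝒴 ⥤ᵇ 𝒳}
    (hE : FibCat.IsEquivOver E) (u₀ : 𝒰 ⥤ᵇ 𝒳) :
    ∃ u' : 𝒰 ⥤ᵇ 𝒴, Nonempty (BasedFunctor.comp u' E ≅ u₀) ∧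
      ∀ P : MorphismProperty (AlgSp.Sp S), AlgSt.RepByAlgSpWith P u₀ → AlgSt.RepByAlgSpWith P u' := by
  obtain ⟨G, -, -, ⟨γ⟩⟩ := exists_inverse hE
  refine ⟨BasedFunctor.comp u₀ G, ⟨wlIso u₀ γ⟩, fun P h => ?_⟩
  exact (with_congr (f := u₀) (f' := BasedFunctor.comp u₀ G) (a := BasedFunctor.id 𝒰) (b := E) isEquivOver_id hE
    (wlIso u₀ γ)).1 h

theorem isAlgStack_of_fppf_rep_cover_model {𝒰 𝒴 : AlgSt.Cat S} {𝒳 : BasedCategory.{v, w} (Over S)} {E : 𝒴 ⥤ᵇ 𝒳}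
    (hE : FibCat.IsEquivOver E) (h𝒰 : FibCat.IsFibGrpd 𝒰.p)
    (h𝒳 : Stk.IsStack (QuotSh.J Scheme.fppfPrecoverage S) 𝒳) (hU : AlgSt.RepByAlgSp 𝒰) {u₀ : 𝒰 ⥤ᵇ 𝒳}
    (hu₁ : AlgSt.RepByAlgSpWith (AlgSp.LocP @Flat) u₀)
    (hu₂ : AlgSt.RepByAlgSpWith (AlgSp.LocP @LocallyOfFinitePresentation) u₀)
    (hu₃ : AlgSt.RepByAlgSpWith AlgSp.IsSurjectiveMor u₀) : IsAlgStack Scheme.fppfPrecoverage 𝒳 := by
  obtain ⟨u', -, hu'⟩ := exists_lift_model hE u₀
  exact StAlg.isAlgStack_of_equiv hE (isAlgStack_of_fppf_rep_cover h𝒰 ((isStack_iff_of_isEquivOver _ hE).2 h𝒳) hU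
    (hu' _ hu₁) (hu' _ hu₂) (hu' _ hu₃))

variable {B : AlgSp.Sp S} {G : Over B} [GrpObj G]

/-- `[X/G]` is algebraic for flat `G` locally of finite presentation -/
theorem isAlgStack_spQuotSt (hB : AlgSp.IsAlgSpace B) (hG : AlgSp.IsAlgSpace G.left)
    (h₁ : AlgSp.LocP @Flat G.hom) (h₂ : AlgSp.LocP @LocallyOfFinitePresentation G.hom) {X : Over B}
    (hX : AlgSp.IsAlgSpace X.left) (aX : AlgSp.GAction G X) :
    IsAlgStack Scheme.fppfPrecoverage (SpQuotSt Scheme.fppfPrecoverage G aX) := by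
  obtain ⟨𝒴, E, hE⟩ := exists_small_model_spQuotSt hB hG aX
  refine isAlgStack_of_fppf_rep_cover_model hE (Stk.isFibGrpd_ofPsh _) (SpQuot16.isStack G aX)
    ⟨⟨_, hX⟩, BasedFunctor.id _, isEquivOver_id⟩ (u₀ := AlgSt.spQuotMap Scheme.fppfPrecoverage G aX)
    (SpQuot16.repWith_spQuotMap _ hB hG fun A => ?_) (SpQuot16.repWith_spQuotMap _ hB hG fun A => ?_)
    (SpQuot16.repWith_spQuotMap _ hB hG fun A => SpQuot16.π_surjective A)
  · exact SpQuot16.π_prop isLocalOnBase_fppf_locP_flat hB hG (fun W hW =>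
      AlgSpace.locP_of_isPullback hG hB hW (SpQuot16.isPullback_left_unit' W) h₁) A
  · exact SpQuot16.π_prop isLocalOnBase_fppf_locP_lfp hB hG (fun W hW =>
      AlgSpace.locP_of_isPullback hG hB hW (SpQuot16.isPullback_left_unit' W) h₂) A

end Groth.Agent.Bootst16
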